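/-
The standard matrices of the normaliser of an extraspecial group of order 125 in dimension five.
-/
import Mathlib

set_option autoImplicit false
set_option linter.unusedSectionVars false
set_option maxHeartbeats 800000

namespace CfsgLib.MaxSub.HeisFive

open Matrix

variable {F : Type*} [Field F]

/-- `ω` is a primitive fifth root of unity and `5` is invertible. -/
structure Root (ω : F) : Prop where
  eq : ω ^ 4 + ω ^ 3 + ω ^ 2 + ω + 1 = 0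
  five_ne : (5 : F) ≠ 0

/-- Outside characteristic two. -/
theorem Root.two_ne [NeZero (2 : F)] {ω : F} (_ : Root ω) : (2 : F) ≠ 0 := NeZero.ne 2

theorem root_of_pow {ω : F} (h : ω ^ 5 = 1) (h1 : ω ≠ 1) (h5 : (5 : F) ≠ 0) : Root ω := by
  refine ⟨?_, h5⟩
  have h3 : (ω - 1) * (ω ^ 4 + ω ^ 3 + ω ^ 2 + ω + 1) = 0 := by linear_combination h
  exact (mul_eq_zero.1 h3).resolve_left (sub_ne_zero.2 h1)

section Root

variable {ω : F} (h : Root ω)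
include h

theorem Root.pow_five : ω ^ 5 = 1 := by linear_combination (ω - 1) * h.eq

theorem Root.ne_zero : ω ≠ 0 := fun e => by
  have := h.pow_five
  rw [e, zero_pow (by norm_num : (5 : ℕ) ≠ 0)] at this
  exact zero_ne_one this

theorem Root.pow_mod (n : ℕ) : ω ^ n = ω ^ (n % 5) := by
  conv_lhs => rw [← Nat.div_add_mod n 5, pow_add, pow_mul, h.pow_five, one_pow, one_mul]

theorem Root.pow_eq_one {n : ℕ} (hn : ω ^ n = 1) : 5 ∣ n := by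
  rw [h.pow_mod] at hn
  have := Nat.mod_lt n (by norm_num : 0 < 5)
  by_contra hd
  have e := h.eq
  have h5 := h.five_ne
  obtain hr | hr | hr | hr : n % 5 = 1 ∨ n % 5 = 2 ∨ n % 5 = 3 ∨ n % 5 = 4 := by omega
  all_goals
    rw [hr] at hn
    refine h5 ?_
    grind

theorem Root.prim : IsPrimitiveRoot ω 5 := ⟨h.pow_five, fun _ hn => h.pow_eq_one hn⟩

theorem Root.ne_one : ω ≠ 1 := fun e => absurd (h.pow_eq_one (n := 1) (by rw [pow_one, e])) (by norm_num)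

theorem Root.pow_inj {a b : ℕ} (e : ω ^ a = ω ^ b) : a % 5 = b % 5 := by
  rw [h.pow_mod a, h.pow_mod b] at e
  exact h.prim.pow_inj (Nat.mod_lt _ (by norm_num)) (Nat.mod_lt _ (by norm_num)) e

/-- The quadratic Gauss sum. -/
theorem Root.gauss : (ω - ω ^ 2 - ω ^ 3 + ω ^ 4) ^ 2 = 5 := by
  linear_combination (ω^4 - 3*ω^3 + ω^2 + 5*ω - 5) * h.eq

theorem Root.gauss_ne : ω - ω ^ 2 - ω ^ 3 + ω ^ 4 ≠ 0 := fun e => h.five_ne (by rw [← h.gauss, e]; ring)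

theorem Root.sum_pow (m : ℕ) : ∑ k : Fin 5, ω ^ (m * (k : ℕ)) = if 5 ∣ m then 5 else 0 := by
  simp only [pow_mul]
  rw [Fin.sum_univ_eq_sum_range (fun k => (ω ^ m) ^ k) 5]
  split_ifs with hm
  · obtain ⟨c, rfl⟩ := hm
    simp [pow_mul, h.pow_five]
  · rw [geom_sum_eq fun e => hm (h.pow_eq_one e), ← pow_mul, mul_comm, pow_mul, h.pow_five]
    simp

end Root

local notation "M5" => Matrix (Fin 5) (Fin 5) F

/-- The diagonal generator. -/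
def Xm (ω : F) : M5 := diagonal fun i => ω ^ (i : ℕ)

/-- The shift. -/
def Ym : M5 := Matrix.of fun i j => if i = j + 1 then 1 else 0

/-- The central involution of the complement. -/
def Jm : M5 := Matrix.of fun i j => if i = -j then 1 else 0

/-- The quadratic diagonal element. -/
def Wm (ω : F) : M5 := diagonal fun i => ω ^ ((i : ℕ) ^ 2)

/-- The unnormalised Fourier matrix. -/
def Fz (ω : F) : M5 := (ω - ω ^ 2 - ω ^ 3 + ω ^ 4)⁻¹ • Matrix.of fun i j : Fin 5 => ω ^ ((i : ℕ) * (j : ℕ))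

/-- The Fourier matrix of determinant one. -/
noncomputable def Fm (ω : F) : M5 := (Fz ω).det • Fz ω

/-- The inclusion of the space fixed by `Jm`. -/
def Ep : Matrix (Fin 5) (Fin 3) F := !![1, 0, 0; 0, 1, 0; 0, 0, 1; 0, 0, 1; 0, 1, 0]

/-- The projection on the space fixed by `Jm`. -/
def Lp : Matrix (Fin 3) (Fin 5) F := !![1, 0, 0, 0, 0; 0, 2⁻¹, 0, 0, 2⁻¹; 0, 0, 2⁻¹, 2⁻¹, 0]

/-- The inclusion of the space negated by `Jm`. -/
def En : Matrix (Fin 5) (Fin 2) F := !![0, 0; 1, 0; 0, 1; 0, -1; -1, 0]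

/-- The projection on the space negated by `Jm`. -/
def Ln : Matrix (Fin 2) (Fin 5) F := !![0, 2⁻¹, 0, 0, -2⁻¹; 0, 0, 2⁻¹, -2⁻¹, 0]

local notation "𝐄" => (Ep : Matrix (Fin 5) (Fin 3) F)
local notation "𝐋" => (Lp : Matrix (Fin 3) (Fin 5) F)
local notation "𝐞" => (En : Matrix (Fin 5) (Fin 2) F)
local notation "𝐥" => (Ln : Matrix (Fin 2) (Fin 5) F)
local notation "𝐉" => (Jm : Matrix (Fin 5) (Fin 5) F)
local notation "𝐘" => (Ym : Matrix (Fin 5) (Fin 5) F)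

theorem Jm_mul (M : M5) (i j : Fin 5) : (𝐉 * M : M5) i j = M (-i) j := by
  rw [Matrix.mul_apply, Finset.sum_eq_single (-i)]
  · simp [Jm]
  · intro b _ hb
    have : i ≠ -b := fun e => hb (by rw [e, neg_neg])
    simp [Jm, this]
  · simp

theorem mul_Jm (M : M5) (i j : Fin 5) : (M * 𝐉 : M5) i j = M i (-j) := by
  rw [Matrix.mul_apply, Finset.sum_eq_single (-j)]
  · simp [Jm]
  · intro b _ hb
    simp [Jm, hb]
  · simp

theorem Ym_mul (M : M5) (i j : Fin 5) : (𝐘 * M : M5) i j = M (i - 1) j := by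
  rw [Matrix.mul_apply, Finset.sum_eq_single (i - 1)]
  · simp [Ym]
  · intro b _ hb
    have : i ≠ b + 1 := fun e => hb (by rw [e, add_sub_cancel_right])
    simp [Ym, this]
  · simp

theorem mul_Ym (M : M5) (i j : Fin 5) : (M * 𝐘 : M5) i j = M i (j + 1) := by
  rw [Matrix.mul_apply, Finset.sum_eq_single (j + 1)]
  · simp [Ym]
  · intro b _ hb
    simp [Ym, hb]
  · simp

theorem Jm_sq : (𝐉 * 𝐉 : M5) = 1 := by
  ext i j
  rw [Jm_mul, one_apply]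
  simp [Jm]

theorem Lp_Ep (h2 : (2 : F) ≠ 0) : (𝐋 * 𝐄 : Matrix (Fin 3) (Fin 3) F) = 1 := by
  ext i j
  rw [Matrix.mul_apply, Fin.sum_univ_five]
  fin_cases i <;> fin_cases j <;> simp [Lp, Ep, one_apply, ← two_mul, h2]

theorem Ln_En (h2 : (2 : F) ≠ 0) : (𝐥 * 𝐞 : Matrix (Fin 2) (Fin 2) F) = 1 := by
  ext i j
  rw [Matrix.mul_apply, Fin.sum_univ_five]
  fin_cases i <;> fin_cases j <;> simp [Ln, En, one_apply, ← two_mul, h2]

theorem Ln_Ep : (𝐥 * 𝐄 : Matrix (Fin 2) (Fin 3) F) = 0 := by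
  ext i j
  rw [Matrix.mul_apply, Fin.sum_univ_five]
  fin_cases i <;> fin_cases j <;> simp [Ln, Ep]

theorem Lp_En : (𝐋 * 𝐞 : Matrix (Fin 3) (Fin 2) F) = 0 := by
  ext i j
  rw [Matrix.mul_apply, Fin.sum_univ_five]
  fin_cases i <;> fin_cases j <;> simp [Lp, En]

theorem Ep_Lp_add (h2 : (2 : F) ≠ 0) : (𝐄 * 𝐋 + 𝐞 * 𝐥 : M5) = 1 := by
  ext i j
  rw [Matrix.add_apply, Matrix.mul_apply, Matrix.mul_apply, Fin.sum_univ_three, Fin.sum_univ_two]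
  fin_cases i <;> fin_cases j <;> simp [Lp, Ep, Ln, En, one_apply, ← two_mul, h2]

theorem Ep_Lp_sub (h2 : (2 : F) ≠ 0) : (𝐄 * 𝐋 - 𝐞 * 𝐥 : M5) = 𝐉 := by
  ext i j
  rw [Matrix.sub_apply, Matrix.mul_apply, Matrix.mul_apply, Fin.sum_univ_three, Fin.sum_univ_two]
  fin_cases i <;> fin_cases j <;> simp [Lp, Ep, Ln, En, Jm, ← two_mul, h2] <;> decide

/-! ### Blocks of matrices commuting with `𝐉` -/

/-- The block on the fixed space. -/
def bp (M : M5) : Matrix (Fin 3) (Fin 3) F := 𝐋 * M * 𝐄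

/-- The block on the negated space. -/
def bn (M : M5) : Matrix (Fin 2) (Fin 2) F := 𝐥 * M * 𝐞

section Blocks

variable (h2 : (2 : F) ≠ 0)
include h2

theorem Jm_Ep : (𝐉 * 𝐄 : Matrix (Fin 5) (Fin 3) F) = 𝐄 := by
  rw [← Ep_Lp_sub h2, Matrix.sub_mul, Matrix.mul_assoc 𝐄, Lp_Ep h2, Matrix.mul_one, Matrix.mul_assoc 𝐞, Ln_Ep,
    Matrix.mul_zero, sub_zero]

theorem Jm_En : (𝐉 * 𝐞 : Matrix (Fin 5) (Fin 2) F) = -𝐞 := by
  rw [← Ep_Lp_sub h2, Matrix.sub_mul, Matrix.mul_assoc 𝐄, Lp_En, Matrix.mul_zero, Matrix.mul_assoc 𝐞, Ln_En h2,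
    Matrix.mul_one, zero_sub]

variable {M : Matrix (Fin 5) (Fin 5) F} (hM : (Jm : Matrix (Fin 5) (Fin 5) F) * M = M * (Jm : Matrix (Fin 5) (Fin 5) F))
include hM

theorem mul_Ep : M * 𝐄 = 𝐄 * bp M := by
  have h1 : 𝐉 * (M * 𝐄) = M * 𝐄 := by rw [← Matrix.mul_assoc, hM, Matrix.mul_assoc, Jm_Ep h2]
  have h3 : 𝐞 * (𝐥 * (M * 𝐄)) = (0 : Matrix (Fin 5) (Fin 3) F) := by
    have ha : (𝐄 * 𝐋 - 𝐞 * 𝐥 : M5) * (M * 𝐄) = M * 𝐄 := by rw [Ep_Lp_sub h2, h1]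
    have hb : (𝐄 * 𝐋 + 𝐞 * 𝐥 : M5) * (M * 𝐄) = M * 𝐄 := by rw [Ep_Lp_add h2, Matrix.one_mul]
    have h5 := hb.trans ha.symm
    rw [Matrix.sub_mul, Matrix.add_mul, Matrix.mul_assoc 𝐞] at h5
    ext i j
    have h6 := congrFun (congrFun h5 i) j
    simp only [Matrix.add_apply, Matrix.sub_apply] at h6
    have h7 : (2 : F) * (𝐞 * (𝐥 * (M * 𝐄)) : Matrix (Fin 5) (Fin 3) F) i j = 0 := by linear_combination h6
    exact (mul_eq_zero.1 h7).resolve_left h2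
  calc M * 𝐄 = (𝐄 * 𝐋 + 𝐞 * 𝐥 : M5) * (M * 𝐄) := by rw [Ep_Lp_add h2, Matrix.one_mul]
    _ = 𝐄 * bp M := by rw [Matrix.add_mul, Matrix.mul_assoc 𝐞, h3, add_zero, bp]; simp only [Matrix.mul_assoc]

theorem mul_En : M * 𝐞 = 𝐞 * bn M := by
  have h1 : 𝐉 * (M * 𝐞) = -(M * 𝐞) := by
    rw [← Matrix.mul_assoc, hM, Matrix.mul_assoc, Jm_En h2, Matrix.mul_neg]
  have h3 : 𝐄 * (𝐋 * (M * 𝐞)) = (0 : Matrix (Fin 5) (Fin 2) F) := by
    have ha : (𝐄 * 𝐋 - 𝐞 * 𝐥 : M5) * (M * 𝐞) = -(M * 𝐞) := by rw [Ep_Lp_sub h2, h1]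
    have hb : (𝐄 * 𝐋 + 𝐞 * 𝐥 : M5) * (M * 𝐞) = M * 𝐞 := by rw [Ep_Lp_add h2, Matrix.one_mul]
    rw [Matrix.sub_mul, Matrix.mul_assoc 𝐄] at ha
    rw [Matrix.add_mul, Matrix.mul_assoc 𝐄] at hb
    ext i j
    have h6 := congrFun (congrFun ha i) j
    have h6' := congrFun (congrFun hb i) j
    simp only [Matrix.add_apply, Matrix.sub_apply, Matrix.neg_apply] at h6 h6'
    have h7 : (2 : F) * (𝐄 * (𝐋 * (M * 𝐞)) : Matrix (Fin 5) (Fin 2) F) i j = 0 := by linear_combination h6 + h6'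
    exact (mul_eq_zero.1 h7).resolve_left h2
  calc M * 𝐞 = (𝐄 * 𝐋 + 𝐞 * 𝐥 : M5) * (M * 𝐞) := by rw [Ep_Lp_add h2, Matrix.one_mul]
    _ = 𝐞 * bn M := by rw [Matrix.add_mul, Matrix.mul_assoc 𝐄, h3, zero_add, bn]; simp only [Matrix.mul_assoc]

theorem eq_blocks : M = 𝐄 * bp M * 𝐋 + 𝐞 * bn M * 𝐥 := by
  rw [← mul_Ep h2 hM, ← mul_En h2 hM, Matrix.mul_assoc, Matrix.mul_assoc, ← Matrix.mul_add, Ep_Lp_add h2,
    Matrix.mul_one]

theorem bp_mul (N : Matrix (Fin 5) (Fin 5) F) : bp (N * M) = bp N * bp M := by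
  show 𝐋 * (N * M) * 𝐄 = 𝐋 * N * 𝐄 * bp M
  rw [Matrix.mul_assoc (𝐋 * N) 𝐄, ← mul_Ep h2 hM]
  simp only [Matrix.mul_assoc]

theorem bn_mul (N : Matrix (Fin 5) (Fin 5) F) : bn (N * M) = bn N * bn M := by
  show 𝐥 * (N * M) * 𝐞 = 𝐥 * N * 𝐞 * bn M
  rw [Matrix.mul_assoc (𝐥 * N) 𝐞, ← mul_En h2 hM]
  simp only [Matrix.mul_assoc]

theorem trace_blocks : M.trace = (bp M).trace + (bn M).trace := by
  conv_lhs => rw [eq_blocks h2 hM]
  rw [trace_add, Matrix.trace_mul_cycle 𝐄 (bp M) 𝐋, Lp_Ep h2, Matrix.one_mul,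
    Matrix.trace_mul_cycle 𝐞 (bn M) 𝐥, Ln_En h2, Matrix.one_mul]

theorem det_blocks : M.det = (bp M).det * (bn M).det := by
  have hPQ : (Matrix.fromRows 𝐋 𝐥 * Matrix.fromCols 𝐄 𝐞 : Matrix (Fin 3 ⊕ Fin 2) (Fin 3 ⊕ Fin 2) F) = 1 := by
    rw [Matrix.fromRows_mul_fromCols, Lp_Ep h2, Ln_En h2, Ln_Ep, Lp_En, Matrix.fromBlocks_one]
  have hQP : (Matrix.fromCols 𝐄 𝐞 * Matrix.fromRows 𝐋 𝐥 : M5) = 1 := by
    rw [Matrix.fromCols_mul_fromRows, Ep_Lp_add h2]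
  rw [← Matrix.det_conj_of_mul_eq_one hPQ hQP (N := M), Matrix.fromRows_mul, Matrix.fromRows_mul_fromCols]
  have e1 : 𝐋 * M * 𝐞 = (0 : Matrix (Fin 3) (Fin 2) F) := by
    rw [Matrix.mul_assoc, mul_En h2 hM, ← Matrix.mul_assoc, Lp_En, Matrix.zero_mul]
  have e2 : 𝐥 * M * 𝐄 = (0 : Matrix (Fin 2) (Fin 3) F) := by
    rw [Matrix.mul_assoc, mul_Ep h2 hM, ← Matrix.mul_assoc, Ln_Ep, Matrix.zero_mul]
  rw [e1, e2, Matrix.det_fromBlocks_zero₂₁]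
  rfl

end Blocks

/-- The matrix with prescribed blocks. -/
def blk (A : Matrix (Fin 3) (Fin 3) F) (B : Matrix (Fin 2) (Fin 2) F) : M5 := 𝐄 * A * 𝐋 + 𝐞 * B * 𝐥

section Blk

variable (h2 : (2 : F) ≠ 0)
include h2

theorem bp_blk (A : Matrix (Fin 3) (Fin 3) F) (B : Matrix (Fin 2) (Fin 2) F) : bp (blk A B) = A := by
  rw [bp, blk, Matrix.mul_add, Matrix.add_mul]
  simp only [Matrix.mul_assoc]
  rw [Lp_Ep h2, ← Matrix.mul_assoc 𝐋, Lp_Ep h2, ← Matrix.mul_assoc 𝐋 𝐞, Lp_En]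
  simp

theorem bn_blk (A : Matrix (Fin 3) (Fin 3) F) (B : Matrix (Fin 2) (Fin 2) F) : bn (blk A B) = B := by
  rw [bn, blk, Matrix.mul_add, Matrix.add_mul]
  simp only [Matrix.mul_assoc]
  rw [Ln_En h2, ← Matrix.mul_assoc 𝐥, Ln_Ep, ← Matrix.mul_assoc 𝐥 𝐞, Ln_En h2]
  simp

theorem blk_comm (A : Matrix (Fin 3) (Fin 3) F) (B : Matrix (Fin 2) (Fin 2) F) :
    𝐉 * blk A B = blk A B * 𝐉 := by
  have hL : (𝐋 * 𝐉 : Matrix (Fin 3) (Fin 5) F) = 𝐋 := by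
    rw [← Ep_Lp_sub h2, Matrix.mul_sub, ← Matrix.mul_assoc, Lp_Ep h2, Matrix.one_mul, ← Matrix.mul_assoc, Lp_En,
      Matrix.zero_mul, sub_zero]
  have hL' : (𝐥 * 𝐉 : Matrix (Fin 2) (Fin 5) F) = -𝐥 := by
    rw [← Ep_Lp_sub h2, Matrix.mul_sub, ← Matrix.mul_assoc, Ln_Ep, Matrix.zero_mul, ← Matrix.mul_assoc, Ln_En h2,
      Matrix.one_mul, zero_sub]
  rw [blk, Matrix.mul_add, Matrix.add_mul]
  simp only [Matrix.mul_assoc, hL, hL']
  rw [← Matrix.mul_assoc 𝐉 𝐄, Jm_Ep h2, ← Matrix.mul_assoc 𝐉 𝐞, Jm_En h2]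
  simp

end Blk

/-! ### Relations -/

section Rels

variable {ω : F} (h : Root ω)
include h

theorem Xm_Ym : Xm ω * 𝐘 = ω • (𝐘 * Xm ω : M5) := by
  ext i j
  rw [Matrix.smul_apply, Xm, diagonal_mul, mul_diagonal, smul_eq_mul]
  by_cases e : i = j + 1
  · subst e
    simp only [Ym, of_apply, if_true, mul_one, one_mul]
    rw [← pow_succ', h.pow_mod (_ + 1), h.pow_mod ((j + 1 : Fin 5) : ℕ)]
    congr 1
    fin_cases j <;> rfl
  · simp [Ym, e]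

theorem Wm_Xm : Wm ω * Xm ω = (Xm ω * Wm ω : M5) := by
  rw [Wm, Xm, diagonal_mul_diagonal, diagonal_mul_diagonal]
  exact congrArg diagonal (funext fun i => mul_comm _ _)

theorem Wm_Ym : Wm ω * 𝐘 = ω • (𝐘 * Xm ω * Xm ω * Wm ω : M5) := by
  ext i j
  rw [Matrix.smul_apply, Wm, Xm, diagonal_mul, mul_diagonal, mul_diagonal, mul_diagonal, smul_eq_mul]
  by_cases e : i = j + 1
  · subst e
    simp only [Ym, of_apply, if_true, mul_one, one_mul]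
    rw [← pow_add, ← pow_add, ← pow_succ', h.pow_mod (_ + 1), h.pow_mod (((j + 1 : Fin 5) : ℕ) ^ 2)]
    congr 1
    fin_cases j <;> rfl
  · simp [Ym, e]

theorem Jm_Wm : 𝐉 * Wm ω = (Wm ω * 𝐉 : M5) := by
  ext i j
  rw [Wm, diagonal_mul, mul_diagonal]
  by_cases e : i = -j
  · subst e
    simp only [Jm, of_apply, if_true, mul_one, one_mul]
    rw [h.pow_mod, h.pow_mod ((((-j : Fin 5) : ℕ)) ^ 2)]
    congr 1
    fin_cases j <;> rfl
  · simp [Jm, e]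

theorem Jm_Xm : 𝐉 * Xm ω * 𝐉 * Xm ω = (1 : M5) := by
  ext i j
  rw [Xm, mul_diagonal, mul_Jm, mul_diagonal, one_apply]
  by_cases e : i = j
  · subst e
    simp only [Jm, of_apply, neg_neg, if_true, one_mul]
    rw [← pow_add, h.pow_mod]
    conv_rhs => rw [← pow_zero ω]
    congr 1
    fin_cases i <;> rfl
  · simp [Jm, e]

theorem Jm_Ym : 𝐉 * 𝐘 * 𝐉 * 𝐘 = (1 : M5) := by
  ext i j
  rw [mul_Ym, mul_Jm, Jm_mul, one_apply]
  simp only [Ym, of_apply]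
  congr 1
  simp only [eq_iff_iff]
  constructor <;> intro e
  · have : -i = -j := by rw [e]; abel
    simpa using this
  · subst e; abel

theorem Xm_pow_five : (Xm ω : M5) ^ 5 = 1 := by
  rw [Xm, diagonal_pow, ← diagonal_one]
  exact congrArg diagonal (funext fun i => by rw [Pi.pow_apply, ← pow_mul, mul_comm, pow_mul, h.pow_five, one_pow])

theorem Wm_pow_five : (Wm ω : M5) ^ 5 = 1 := by
  rw [Wm, diagonal_pow, ← diagonal_one]
  exact congrArg diagonal (funext fun i => by rw [Pi.pow_apply, ← pow_mul, mul_comm, pow_mul, h.pow_five, one_pow])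

theorem det_Xm : (Xm ω : M5).det = 1 := by
  rw [Xm, det_diagonal, Fin.prod_univ_five]
  simp only [Fin.val_zero, Fin.val_one, Fin.val_two, show ((3 : Fin 5) : ℕ) = 3 from rfl,
    show ((4 : Fin 5) : ℕ) = 4 from rfl, ← pow_add]
  rw [h.pow_mod]; norm_num

theorem det_Wm : (Wm ω : M5).det = 1 := by
  rw [Wm, det_diagonal, Fin.prod_univ_five]
  simp only [Fin.val_zero, Fin.val_one, Fin.val_two, show ((3 : Fin 5) : ℕ) = 3 from rfl,
    show ((4 : Fin 5) : ℕ) = 4 from rfl, ← pow_add]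
  rw [h.pow_mod]; norm_num

theorem Ym_pow_five : (𝐘 : M5) ^ 5 = 1 := by
  ext i j
  simp only [pow_succ, pow_zero, Matrix.one_mul, mul_Ym, one_apply]
  fin_cases i <;> fin_cases j <;> rfl

theorem det_Ym : (𝐘 : M5).det = 1 := by
  have e : (𝐘 : M5) = Equiv.Perm.permMatrix F (Equiv.subRight (1 : Fin 5)) := by
    ext i j
    simp only [Ym, of_apply, Equiv.Perm.permMatrix, PEquiv.toMatrix_apply, Equiv.toPEquiv_apply, Option.mem_def,
      Option.some.injEq, Equiv.subRight_apply, sub_eq_iff_eq_add]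
  rw [e, Matrix.det_permutation, show Equiv.Perm.sign (Equiv.subRight (1 : Fin 5)) = 1 by decide]
  simp

theorem det_Jm : (𝐉 : M5).det = 1 := by
  have e : (𝐉 : M5) = (Equiv.neg (Fin 5)).permMatrix F := by
    ext i j
    simp [Jm, Equiv.Perm.permMatrix, PEquiv.toMatrix_apply, show i = -j ↔ -i = j from neg_eq_iff_eq_neg.symm]
  rw [e, Matrix.det_permutation, show Equiv.Perm.sign (Equiv.neg (Fin 5)) = 1 by decide]
  simp

theorem Fz_sq : Fz ω * Fz ω = (𝐉 : M5) := by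
  ext i j
  rw [Fz, Matrix.smul_mul, Matrix.mul_smul, smul_smul, Matrix.smul_apply, Matrix.mul_apply, smul_eq_mul]
  simp only [of_apply, ← pow_add]
  have e : ∀ k : Fin 5, (i : ℕ) * (k : ℕ) + (k : ℕ) * (j : ℕ) = ((i : ℕ) + j) * (k : ℕ) := fun k => by ring
  simp only [e, h.sum_pow]
  rw [← mul_inv, ← pow_two, h.gauss]
  have : (5 ∣ (i : ℕ) + (j : ℕ)) ↔ i = -j := by revert i j; decide
  simp only [this, Jm, of_apply]
  split_ifs <;> simp [h.five_ne]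

theorem Fz_Ym : 𝐘 * Fz ω * Xm ω = (Fz ω : M5) := by
  ext i j
  rw [Xm, mul_diagonal, Ym_mul, Fz, Matrix.smul_apply, Matrix.smul_apply, smul_eq_mul, smul_eq_mul, mul_assoc]
  congr 1
  simp only [of_apply]
  rw [← pow_add, h.pow_mod, h.pow_mod ((i : ℕ) * j)]
  congr 1
  fin_cases i <;> fin_cases j <;> rfl

theorem Fz_Xm : Xm ω * Fz ω = (Fz ω * 𝐘 : M5) := by
  ext i j
  rw [Xm, diagonal_mul, mul_Ym, Fz, Matrix.smul_apply, Matrix.smul_apply, smul_eq_mul, smul_eq_mul, mul_left_comm]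
  congr 1
  simp only [of_apply]
  rw [← pow_add, h.pow_mod, h.pow_mod ((i : ℕ) * ((j + 1 : Fin 5) : ℕ))]
  congr 1
  fin_cases i <;> fin_cases j <;> rfl

theorem Fz_det_sq : (Fz ω : M5).det * (Fz ω).det = 1 := by rw [← det_mul, Fz_sq h, det_Jm h]

theorem det_Fm : (Fm ω : M5).det = 1 := by
  rw [Fm, det_smul, Fintype.card_fin, ← pow_succ,
    show (5 + 1 : ℕ) = 2 * 3 from rfl, pow_mul, pow_two, Fz_det_sq h, one_pow]

theorem Fm_sq : Fm ω * Fm ω = (𝐉 : M5) := by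
  rw [Fm, Matrix.smul_mul, Matrix.mul_smul, smul_smul, Fz_det_sq h, one_smul, Fz_sq h]

theorem Fm_comm : 𝐉 * Fm ω = (Fm ω * 𝐉 : M5) := by rw [← Fm_sq h, Matrix.mul_assoc]

theorem Fm_Ym : 𝐘 * Fm ω * Xm ω = (Fm ω : M5) := by
  rw [Fm, Matrix.mul_smul, Matrix.smul_mul, Fz_Ym h]

theorem Fm_Xm : Xm ω * Fm ω = (Fm ω * 𝐘 : M5) := by
  rw [Fm, Matrix.mul_smul, Matrix.smul_mul, Fz_Xm h]

variable [NeZero (2 : F)]

/-- The blocks of the diagonal element. -/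
theorem bp_Wm : bp (Wm ω : M5) = diagonal ![1, ω, ω ^ 4] := by
  have h9 : ω ^ 9 = ω ^ 4 := h.pow_mod 9
  have h16 : ω ^ 16 = ω := (h.pow_mod 16).trans (pow_one ω)
  have e : Wm ω * 𝐄 = 𝐄 * diagonal ![1, ω, ω ^ 4] := by
    ext i j
    rw [Wm, diagonal_mul, mul_diagonal]
    fin_cases i <;> fin_cases j <;> simp [Ep, h9, h16]
  rw [bp, Matrix.mul_assoc, e, ← Matrix.mul_assoc, Lp_Ep h.two_ne, Matrix.one_mul]

theorem bn_Wm : bn (Wm ω : M5) = diagonal ![ω, ω ^ 4] := by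
  have h9 : ω ^ 9 = ω ^ 4 := h.pow_mod 9
  have h16 : ω ^ 16 = ω := (h.pow_mod 16).trans (pow_one ω)
  have e : Wm ω * 𝐞 = 𝐞 * diagonal ![ω, ω ^ 4] := by
    ext i j
    rw [Wm, diagonal_mul, mul_diagonal]
    fin_cases i <;> fin_cases j <;> simp [En, h9, h16]
  rw [bn, Matrix.mul_assoc, e, ← Matrix.mul_assoc, Ln_En h.two_ne, Matrix.one_mul]

/-- The scalar in front of the Fourier matrix of determinant one. -/
noncomputable def fcoef (ω : F) : F := (Fz ω : M5).det * (ω - ω ^ 2 - ω ^ 3 + ω ^ 4)⁻¹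

theorem fcoef_ne_zero : fcoef ω ≠ 0 :=
  mul_ne_zero (fun e => by simpa [e] using Fz_det_sq h) (inv_ne_zero h.gauss_ne)

theorem bp_Fm : bp (Fm ω : M5) = fcoef ω •
    !![1, 2, 2; 1, ω + ω ^ 4, ω ^ 2 + ω ^ 3; 1, ω ^ 2 + ω ^ 3, ω + ω ^ 4] := by
  have h6 : ω ^ 6 = ω := (h.pow_mod 6).trans (pow_one ω)
  have h8 : ω ^ 8 = ω ^ 3 := h.pow_mod 8
  have h9 : ω ^ 9 = ω ^ 4 := h.pow_mod 9
  have h12 : ω ^ 12 = ω ^ 2 := h.pow_mod 12
  have h16 : ω ^ 16 = ω := (h.pow_mod 16).trans (pow_one ω)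
  have e : Fm ω * 𝐄 = 𝐄 * (fcoef ω •
      !![1, 2, 2; 1, ω + ω ^ 4, ω ^ 2 + ω ^ 3; 1, ω ^ 2 + ω ^ 3, ω + ω ^ 4]) := by
    rw [Fm, Fz, Matrix.smul_mul, Matrix.smul_mul, Matrix.mul_smul, smul_smul]
    refine congrArg (fcoef ω • ·) ?_
    ext i j
    rw [Matrix.mul_apply, Matrix.mul_apply, Fin.sum_univ_five, Fin.sum_univ_three]
    fin_cases i <;> fin_cases j <;> simp [Ep, h6, h8, h9, h12, h16] <;> ring
  rw [bp, Matrix.mul_assoc, e, ← Matrix.mul_assoc, Lp_Ep h.two_ne, Matrix.one_mul]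

theorem bn_Fm : bn (Fm ω : M5) = fcoef ω •
    !![ω - ω ^ 4, ω ^ 2 - ω ^ 3; ω ^ 2 - ω ^ 3, ω ^ 4 - ω] := by
  have h6 : ω ^ 6 = ω := (h.pow_mod 6).trans (pow_one ω)
  have h8 : ω ^ 8 = ω ^ 3 := h.pow_mod 8
  have h9 : ω ^ 9 = ω ^ 4 := h.pow_mod 9
  have h12 : ω ^ 12 = ω ^ 2 := h.pow_mod 12
  have h16 : ω ^ 16 = ω := (h.pow_mod 16).trans (pow_one ω)
  have e : Fm ω * 𝐞 = 𝐞 * (fcoef ω • !![ω - ω ^ 4, ω ^ 2 - ω ^ 3; ω ^ 2 - ω ^ 3, ω ^ 4 - ω]) := by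
    rw [Fm, Fz, Matrix.smul_mul, Matrix.smul_mul, Matrix.mul_smul, smul_smul]
    refine congrArg (fcoef ω • ·) ?_
    ext i j
    rw [Matrix.mul_apply, Matrix.mul_apply, Fin.sum_univ_five, Fin.sum_univ_two]
    fin_cases i <;> fin_cases j <;> simp [En, h6, h8, h9, h12, h16] <;> ring
  rw [bn, Matrix.mul_assoc, e, ← Matrix.mul_assoc, Ln_En h.two_ne, Matrix.one_mul]

end Rels

end CfsgLib.MaxSub.HeisFive
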