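/-
Subgroups of the general linear group of a plane containing two five-elements of the icosahedral group.
-/
import Cfsg.Agent.Lib.MaxSub.HeisFive.Basic
import Cfsg.Agent.Lib.SingerFive.LineTwo

set_option autoImplicit false
set_option linter.unusedSectionVars false
set_option linter.style.haveILetI false
set_option maxHeartbeats 800000

namespace CfsgLib.MaxSub.HeisFive

open Matrix
open CfsgLib.PSL2 (mk_eq_mk)

local notation "pmk" => CfsgLib.PSL2.mk

variable {F : Type*} [Field F] [NeZero (2 : F)]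

local notation "M2" => Matrix (Fin 2) (Fin 2) F
local notation "G2" => GL (Fin 2) F
local notation "SL" => Matrix.SpecialLinearGroup (Fin 2) F
local notation "PSL" => Matrix.ProjectiveSpecialLinearGroup (Fin 2) F

/-- The diagonal five-element of the plane. -/
def wM (ω : F) : M2 := diagonal ![ω, ω ^ 4]

/-- The conjugate five-element of the plane. -/
def vM (ω : F) : M2 :=
  (-(5 : F)⁻¹) • (!![ω - ω ^ 4, ω ^ 2 - ω ^ 3; ω ^ 2 - ω ^ 3, ω ^ 4 - ω] * wM ω *
    !![ω - ω ^ 4, ω ^ 2 - ω ^ 3; ω ^ 2 - ω ^ 3, ω ^ 4 - ω])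

section Mats

variable {ω : F} (h : Root ω)
include h

theorem wM_ne : ω ≠ ω ^ 4 := fun e => absurd (h.pow_inj (a := 1) (b := 4) (by rw [pow_one]; exact e)) (by norm_num)

theorem det_wM : (wM ω : M2).det = 1 := by
  rw [wM, det_diagonal, Fin.prod_univ_two]
  simp only [cons_val_zero, cons_val_one]
  linear_combination h.pow_five

theorem trace_wM_ne : (wM ω : M2).trace ≠ 0 := by
  rw [wM, trace_diagonal, Fin.sum_univ_two]
  simp only [cons_val_zero, cons_val_one]
  intro e
  exact h.ne_zero (by have := h.eq; have := h.pow_five; have := h.five_ne; have := h.two_ne; grind)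

theorem wM_pow_five : (wM ω : M2) ^ 5 = 1 := by
  rw [wM, diagonal_pow, ← diagonal_one]
  refine congrArg diagonal (funext fun i => ?_)
  fin_cases i
  · simpa using h.pow_five
  · simp only [Fin.mk_one, Pi.pow_apply, cons_val_one, cons_val_zero]
    rw [← pow_mul, mul_comm, pow_mul, h.pow_five, one_pow]

theorem four_sq : (!![ω - ω ^ 4, ω ^ 2 - ω ^ 3; ω ^ 2 - ω ^ 3, ω ^ 4 - ω] : M2) *
    !![ω - ω ^ 4, ω ^ 2 - ω ^ 3; ω ^ 2 - ω ^ 3, ω ^ 4 - ω] = (-5 : F) • 1 := by
  have h5 := h.pow_five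
  have he := h.eq
  ext i j
  fin_cases i <;> fin_cases j <;> simp [Matrix.mul_apply, Fin.sum_univ_two] <;> grind

theorem vM_pow (n : ℕ) : (vM ω : M2) ^ n =
    (-(5 : F)⁻¹) • (!![ω - ω ^ 4, ω ^ 2 - ω ^ 3; ω ^ 2 - ω ^ 3, ω ^ 4 - ω] * wM ω ^ n *
      !![ω - ω ^ 4, ω ^ 2 - ω ^ 3; ω ^ 2 - ω ^ 3, ω ^ 4 - ω]) := by
  induction n with
  | zero =>
    rw [pow_zero, pow_zero, Matrix.mul_one, four_sq h, smul_smul, neg_mul_neg, inv_mul_cancel₀ h.five_ne, one_smul]
  | succ n ih =>
    rw [pow_succ, ih, vM]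
    set G : M2 := !![ω - ω ^ 4, ω ^ 2 - ω ^ 3; ω ^ 2 - ω ^ 3, ω ^ 4 - ω]
    rw [Matrix.smul_mul, Matrix.mul_smul, smul_smul,
      show G * wM ω ^ n * G * (G * wM ω * G) = G * wM ω ^ n * (G * G) * wM ω * G by simp only [Matrix.mul_assoc],
      four_sq h, Matrix.mul_smul, Matrix.mul_one, Matrix.smul_mul, Matrix.smul_mul, smul_smul,
      Matrix.mul_assoc G (wM ω ^ n), ← pow_succ]
    congr 1
    field_simp [h.five_ne]

theorem vM_pow_five : (vM ω : M2) ^ 5 = 1 := by
  rw [vM_pow h, wM_pow_five h, Matrix.mul_one, four_sq h, smul_smul, neg_mul_neg, inv_mul_cancel₀ h.five_ne, one_smul]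

theorem det_vM : (vM ω : M2).det = 1 := by
  have hG := congrArg Matrix.det (four_sq h)
  rw [det_mul, det_smul, det_one, mul_one, Fintype.card_fin] at hG
  rw [vM, det_smul, det_mul, det_mul, det_wM h, mul_one, Fintype.card_fin, hG, ← mul_pow, neg_mul_neg,
    inv_mul_cancel₀ h.five_ne, one_pow]

theorem trace_vM : (vM ω : M2).trace = (wM ω : M2).trace := by
  rw [vM, trace_smul, trace_mul_cycle, four_sq h, Matrix.smul_mul, Matrix.one_mul, trace_smul, smul_smul,
    neg_mul_neg, inv_mul_cancel₀ h.five_ne, one_smul]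

theorem vM_eq : (vM ω : M2) = (-(5 : F)⁻¹) •
    !![(ω - ω ^ 4) ^ 2 * ω + (ω ^ 2 - ω ^ 3) ^ 2 * ω ^ 4, (ω - ω ^ 4) * (ω ^ 2 - ω ^ 3) * (ω - ω ^ 4);
      (ω - ω ^ 4) * (ω ^ 2 - ω ^ 3) * (ω - ω ^ 4), (ω ^ 2 - ω ^ 3) ^ 2 * ω + (ω - ω ^ 4) ^ 2 * ω ^ 4] := by
  rw [vM]
  congr 1
  ext i j
  rw [Matrix.mul_apply, Fin.sum_univ_two, wM, mul_diagonal, mul_diagonal]
  fin_cases i <;> fin_cases j <;>
    simp only [Fin.zero_eta, Fin.mk_one, Fin.isValue, Matrix.of_apply, cons_val', cons_val_zero, cons_val_one,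
      empty_val', cons_val_fin_one] <;> ring

theorem vM_off : (vM ω : M2) 0 1 ≠ 0 ∧ (vM ω : M2) 1 0 = (vM ω : M2) 0 1 := by
  have a1 : ω - ω ^ 4 ≠ 0 := sub_ne_zero.2 (wM_ne h)
  have a2 : ω ^ 2 - ω ^ 3 ≠ 0 := sub_ne_zero.2 fun e => absurd (h.pow_inj e) (by norm_num)
  rw [vM_eq h]
  refine ⟨?_, rfl⟩
  show -(5 : F)⁻¹ * ((ω - ω ^ 4) * (ω ^ 2 - ω ^ 3) * (ω - ω ^ 4)) ≠ 0
  exact mul_ne_zero (neg_ne_zero.2 (inv_ne_zero h.five_ne)) (mul_ne_zero (mul_ne_zero a1 a2) a1)

theorem vM_diag_ne : (vM ω : M2) 0 0 ≠ (vM ω : M2) 1 1 := by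
  have a1 : ω - ω ^ 4 ≠ 0 := sub_ne_zero.2 (wM_ne h)
  intro e
  rw [vM_eq h] at e
  replace e : -(5 : F)⁻¹ * ((ω - ω ^ 4) ^ 2 * ω + (ω ^ 2 - ω ^ 3) ^ 2 * ω ^ 4) =
      -(5 : F)⁻¹ * ((ω ^ 2 - ω ^ 3) ^ 2 * ω + (ω - ω ^ 4) ^ 2 * ω ^ 4) := e
  have e' := mul_left_cancel₀ (neg_ne_zero.2 (inv_ne_zero h.five_ne)) e
  have e'' : ((ω - ω ^ 4) ^ 2 - (ω ^ 2 - ω ^ 3) ^ 2) * (ω - ω ^ 4) = 0 := by linear_combination e'
  rcases mul_eq_zero.1 e'' with e'' | e''
  · exact h.gauss_ne (by linear_combination -e'' + (ω ^ 3 - ω) * h.pow_five)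
  · exact a1 e''

end Mats

/-- An element of non-zero trace anticommutes with no invertible matrix. -/
theorem comm_of_sign {A M : M2} (hA : A.det ≠ 0) (ht : M.trace ≠ 0) (h2 : (2 : F) ≠ 0)
    (e : A * M = M * A ∨ A * M = -(M * A)) : A * M = M * A := by
  refine e.resolve_right fun e => ht ?_
  have h1 : A⁻¹ * (A * M) = M := by rw [← Matrix.mul_assoc, Matrix.nonsing_inv_mul _ hA.isUnit, Matrix.one_mul]
  have h3 : M.trace = -M.trace := by
    conv_lhs => rw [← h1, e, Matrix.mul_neg, trace_neg, ← Matrix.mul_assoc, trace_mul_cycle,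
      Matrix.mul_nonsing_inv _ hA.isUnit, Matrix.one_mul]
  have : (2 : F) * M.trace = 0 := by linear_combination h3
  exact (mul_eq_zero.1 this).resolve_left h2

theorem diag_of_comm {ω : F} (h : Root ω) {A : M2} (e : A * wM ω = wM ω * A) : A 0 1 = 0 ∧ A 1 0 = 0 := by
  have e1 := congrFun (congrFun e 0) 1
  have e2 := congrFun (congrFun e 1) 0
  simp only [wM, mul_diagonal, diagonal_mul, cons_val_zero, cons_val_one] at e1 e2
  have hne := sub_ne_zero.2 (wM_ne h)
  exact ⟨(mul_eq_zero.1 (by linear_combination -e1 : (ω - ω ^ 4) * A 0 1 = 0)).resolve_left hne,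
    (mul_eq_zero.1 (by linear_combination e2 : (ω - ω ^ 4) * A 1 0 = 0)).resolve_left hne⟩

/-- A diagonal matrix moving the conjugate five-element to a commuting one is scalar. -/
theorem diag_scalar {ω : F} (h : Root ω) {D U : M2} (hD : D.det ≠ 0) (h01 : D 0 1 = 0) (h10 : D 1 0 = 0)
    (hU : D * vM ω = U * D) (hc : U * vM ω = vM ω * U) : D 0 0 = D 1 1 := by
  obtain ⟨hm, hsym⟩ := vM_off h
  have hd := hD
  rw [det_fin_two, h01, zero_mul, sub_zero] at hd
  obtain ⟨h0, h1⟩ := mul_ne_zero_iff.1 hd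
  have e00 := congrFun (congrFun hU 0) 0
  have e01 := congrFun (congrFun hU 0) 1
  have e11 := congrFun (congrFun hU 1) 1
  have c01 := congrFun (congrFun hc 0) 1
  simp only [Matrix.mul_apply, Fin.sum_univ_two, h01, h10, zero_mul, mul_zero, zero_add, add_zero, hsym] at e00 e01 e11 c01
  have hne := sub_ne_zero.2 (vM_diag_ne h)
  have u00 : U 0 0 = vM ω 0 0 := mul_right_cancel₀ h0 (by linear_combination -e00)
  have u11 : U 1 1 = vM ω 1 1 := mul_right_cancel₀ h1 (by linear_combination -e11)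
  rw [u00, u11] at c01
  have : (vM ω 0 0 - vM ω 1 1) * (vM ω 0 1 * (D 0 0 - D 1 1)) = 0 := by
    linear_combination (-D 1 1) * c01 + (vM ω 1 1 - vM ω 0 0) * (-e01)
  exact sub_eq_zero.1 ((mul_eq_zero.1 ((mul_eq_zero.1 this).resolve_left hne)).resolve_left hm)

/-- The subgroup of the special linear group inside a linear group. -/
def slPart (X : Subgroup G2) : Subgroup SL := X.comap Matrix.SpecialLinearGroup.toGL

/-- Its projective image. -/
def pslPart (X : Subgroup G2) : Subgroup PSL := (slPart X).map pmk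

/-- A linear group containing both five-elements. -/
structure HasFives (ω : F) (X : Subgroup G2) : Prop where
  root : Root ω
  hw : ∃ g ∈ X, (g : M2) = wM ω
  hv : ∃ g ∈ X, (g : M2) = vM ω

namespace HasFives

variable {ω : F} {X : Subgroup (GL (Fin 2) F)} (H : HasFives ω X)

/-- The diagonal five-element. -/
def sw : SL := ⟨wM ω, det_wM H.root⟩

/-- The conjugate five-element. -/
def sv : SL := ⟨vM ω, det_vM H.root⟩

include H

theorem sw_mem : H.sw ∈ slPart X := by
  obtain ⟨g, hg, e⟩ := H.hw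
  show Matrix.SpecialLinearGroup.toGL H.sw ∈ X
  convert hg using 1
  exact Units.ext e.symm

theorem sv_mem : H.sv ∈ slPart X := by
  obtain ⟨g, hg, e⟩ := H.hv
  show Matrix.SpecialLinearGroup.toGL H.sv ∈ X
  convert hg using 1
  exact Units.ext e.symm

theorem sw_pow : H.sw ^ 5 = 1 := Subtype.ext (by rw [Matrix.SpecialLinearGroup.coe_pow]; exact wM_pow_five H.root)

theorem sv_pow : H.sv ^ 5 = 1 := Subtype.ext (by rw [Matrix.SpecialLinearGroup.coe_pow]; exact vM_pow_five H.root)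

theorem not_comm (A : M2) (hA : A * wM ω = wM ω * A) : A * vM ω = vM ω * A → A 0 0 = A 1 1 := by
  intro e
  obtain ⟨a1, a2⟩ := diag_of_comm H.root hA
  have e01 := congrFun (congrFun e 0) 1
  simp only [Matrix.mul_apply, Fin.sum_univ_two, a1, a2, zero_mul, mul_zero, zero_add, add_zero] at e01
  exact mul_left_cancel₀ (vM_off H.root).1 (by linear_combination e01)

theorem order_w : orderOf (pmk H.sw : PSL) = 5 := by
  haveI : Fact (Nat.Prime 5) := ⟨Nat.prime_five⟩
  refine orderOf_eq_prime (by rw [← map_pow, sw_pow, map_one]) fun e => ?_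
  rw [← map_one pmk, mk_eq_mk] at e
  have hne := wM_ne H.root
  rcases e with e | e
  all_goals
    have e0 := congrFun (congrFun e 0) 0
    have e1 := congrFun (congrFun e 1) 1
    simp [sw, wM] at e0 e1
    exact hne (by first | linear_combination e1 - e0 | linear_combination e0 - e1)

theorem order_v : orderOf (pmk H.sv : PSL) = 5 := by
  haveI : Fact (Nat.Prime 5) := ⟨Nat.prime_five⟩
  refine orderOf_eq_prime (by rw [← map_pow, sv_pow, map_one]) fun e => ?_
  rw [← map_one pmk, mk_eq_mk] at e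
  have hm := (vM_off H.root).1
  rcases e with e | e
  all_goals
    have e0 := congrFun (congrFun e 0) 1
    simp [sv] at e0
    exact hm (by first | linear_combination e0 | linear_combination -e0)

omit H in
/-- Commuting projective images. -/
theorem comm_lift {A B : SL} (h2 : (2 : F) ≠ 0) (hB : B.1.trace ≠ 0) (e : Commute (pmk A : PSL) (pmk B)) :
    A.1 * B.1 = B.1 * A.1 := by
  have e' : pmk (A * B) = (pmk (B * A) : PSL) := by rw [map_mul, map_mul]; exact e
  rw [mk_eq_mk] at e'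
  refine comm_of_sign (by rw [A.2]; exact one_ne_zero) hB h2 ?_
  rcases e' with e' | e' <;> rw [Matrix.SpecialLinearGroup.coe_mul, Matrix.SpecialLinearGroup.coe_mul] at e'
  · exact Or.inl e'.symm
  · exact Or.inr (by rw [e', neg_neg])

theorem wv_noncomm : ¬ Commute (pmk H.sw : PSL) (pmk H.sv) := fun e => by
  have e1 : wM ω * vM ω = vM ω * wM ω :=
    comm_lift H.root.two_ne (by show (vM ω).trace ≠ 0; rw [trace_vM H.root]; exact trace_wM_ne H.root) e
  exact (vM_off H.root).1 (diag_of_comm H.root e1.symm).1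

end HasFives

section Cases

variable [Fintype F] {ω : F} {X : Subgroup (GL (Fin 2) F)} (H : HasFives ω X) {p : ℕ} [Fact p.Prime] [CharP F p]
  (h3 : 3 ≤ p)
include H h3

/-- Dickson: the projective part is everything, icosahedral or a group over a subfield. -/
theorem cases_five : pslPart X = ⊤ ∨ Nonempty (pslPart X ≃* alternatingGroup (Fin 5)) ∨
    ∃ (Q m : ℕ) (K : Type) (_ : Field K) (_ : Fintype K), Fintype.card K = Q ∧ 3 ≤ Q ∧ 2 ≤ m ∧
      Q ^ m = Fintype.card F ∧ (Nonempty (pslPart X ≃* Matrix.ProjectiveSpecialLinearGroup (Fin 2) K) ∨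
        Nonempty (pslPart X ≃* Matrix.ProjGenLinGroup (Fin 2) K)) := by
  classical
  set P := pslPart X with hP
  have hwP : (pmk H.sw : PSL) ∈ P := ⟨_, H.sw_mem, rfl⟩
  have hvP : (pmk H.sv : PSL) ∈ P := ⟨_, H.sv_mem, rfl⟩
  by_cases htop : P = ⊤
  · exact Or.inl htop
  right
  rcases DicksonFull.proper_cases p htop with ⟨k, -, ⟨hc, -⟩ | ⟨⟨e⟩⟩⟩ | ⟨⟨e⟩⟩ | ⟨⟨e⟩⟩ | ⟨⟨e⟩⟩ | ⟨u, hu, hle⟩ |
      ⟨Q, m, K, hK, hK', hKQ, hQ3, hm, hQm, -, -, hiso⟩
  · exact absurd (congrArg Subtype.val (hc.commGroup.mul_comm ⟨_, hwP⟩ ⟨_, hvP⟩)) H.wv_noncomm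
  · refine absurd ?_ H.wv_noncomm
    obtain ⟨j, hj⟩ := SingerFive.dihedral_five (e ⟨_, hvP⟩) (e ⟨_, hwP⟩)
      (by rw [MulEquiv.orderOf_eq, ← Subgroup.orderOf_coe]; exact H.order_w)
      (by rw [← map_pow, show (⟨_, hvP⟩ : P) ^ 5 = 1 from Subtype.ext (by
            rw [SubmonoidClass.coe_pow, ← map_pow, H.sv_pow, map_one, OneMemClass.coe_one]), map_one])
    replace hj : e ⟨_, hwP⟩ ^ j = e ⟨_, hvP⟩ := hj
    rw [← map_zpow] at hj
    have := congrArg Subtype.val (e.injective hj)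
    rw [SubgroupClass.coe_zpow] at this
    have h' : (pmk H.sw : PSL) ^ j = pmk H.sv := this
    rw [← h']
    exact (Commute.refl _).zpow_right j
  · have h5 := H.order_w
    rcases DicksonFull.a4_orders (e ⟨_, hwP⟩) with h | h
    all_goals
      have := orderOf_dvd_of_pow_eq_one h
      rw [MulEquiv.orderOf_eq, ← Subgroup.orderOf_coe, h5] at this
      norm_num at this
  · have h5 := H.order_w
    rcases DicksonFull.s4_orders (e ⟨_, hwP⟩) with h | h
    all_goals
      have := orderOf_dvd_of_pow_eq_one h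
      rw [MulEquiv.orderOf_eq, ← Subgroup.orderOf_coe, h5] at this
      norm_num at this
  · exact Or.inl ⟨e⟩
  · -- Borel subgroups
    exfalso
    obtain ⟨U, rfl⟩ := QuotientGroup.mk'_surjective _ u
    set N : M2 := U.1 * U.1 - 1 with hN
    have hNne : N ≠ 0 := fun e => by
      have : (pmk U : PSL) ^ 2 = 1 := by
        rw [← map_pow, show U ^ 2 = 1 from Subtype.ext (by
          rw [Matrix.SpecialLinearGroup.coe_pow, pow_two]; exact sub_eq_zero.1 e), map_one]
      have := orderOf_dvd_of_pow_eq_one this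
      rw [hu] at this
      have := Nat.le_of_dvd (by norm_num) this
      omega
    have hN2 : N * N = 0 := by
      have hp1 : (pmk U : PSL) ^ p = 1 := hu ▸ pow_orderOf_eq_one _
      rw [← map_pow, ← map_one pmk, mk_eq_mk, Matrix.SpecialLinearGroup.coe_pow] at hp1
      have hsq : (U.1 * U.1) ^ p = 1 := by
        rw [← pow_two, ← pow_mul, mul_comm, pow_mul, pow_two]
        rcases hp1 with e | e
        · rw [← e]; simp
        · have e' : U.1 ^ p = -1 := by
            rw [← neg_eq_iff_eq_neg]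
            simpa using e.symm
          rw [e', neg_mul_neg, one_mul]
      have hnil : IsNilpotent N := ⟨p, by rw [hN, sub_pow_char_of_commute p (Commute.one_right _), hsq, one_pow, sub_self]⟩
      have := Matrix.isNilpotent_charpoly_sub_pow_of_isNilpotent hnil
      rw [isNilpotent_iff_eq_zero, sub_eq_zero, Fintype.card_fin] at this
      have hC := Matrix.aeval_self_charpoly N
      rw [this, map_pow, Polynomial.aeval_X, pow_two] at hC
      exact hC
    have hkey : ∀ Y : SL, (pmk Y : PSL) ∈ DicksonFull.bor (pmk U : PSL) →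
        (Y.1 * N * Y.1.adjugate) * N = N * (Y.1 * N * Y.1.adjugate) := by
      intro Y hY
      have hc : Commute (pmk (Y * U * Y⁻¹) : PSL) (pmk U) := by
        have := (Subgroup.mem_normalizer_iff.1 hY _).1 (DicksonFull.self_mem_cent (pmk U : PSL))
        rw [map_mul, map_mul, map_inv]
        exact DicksonFull.mem_cent.1 this
      have hs : ∀ A B : SL, Commute (pmk A : PSL) (pmk B) → Commute (A.1 * A.1) B.1 := by
        intro A B hc
        have e' : pmk (A * B) = (pmk (B * A) : PSL) := by rw [map_mul, map_mul]; exact hc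
        rw [mk_eq_mk, Matrix.SpecialLinearGroup.coe_mul, Matrix.SpecialLinearGroup.coe_mul] at e'
        show A.1 * A.1 * B.1 = B.1 * (A.1 * A.1)
        rcases e' with e' | e'
        · rw [Matrix.mul_assoc, ← e', ← Matrix.mul_assoc, ← e', Matrix.mul_assoc]
        · have e2 : A.1 * B.1 = -(B.1 * A.1) := by rw [e', neg_neg]
          rw [Matrix.mul_assoc, e2, Matrix.mul_neg, ← Matrix.mul_assoc, e2, Matrix.neg_mul, neg_neg, Matrix.mul_assoc]
      have h3 := hs _ _ hc
      have h4 : Y.1 * N * Y.1.adjugate = (Y * U * Y⁻¹).1 * (Y * U * Y⁻¹).1 - 1 := by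
        rw [← Matrix.SpecialLinearGroup.coe_mul, show Y * U * Y⁻¹ * (Y * U * Y⁻¹) = Y * (U * U) * Y⁻¹ by group]
        simp only [Matrix.SpecialLinearGroup.coe_mul, Matrix.SpecialLinearGroup.coe_inv, hN, Matrix.mul_sub,
          Matrix.sub_mul, Matrix.mul_one]
        rw [Matrix.mul_adjugate, Y.2, one_smul]
      rw [h4]
      exact ((h3.mul_right h3).sub_right (Commute.one_right _)).sub_left (Commute.one_left _)
    have k1 : wM ω * N * (wM ω).adjugate * N = N * (wM ω * N * (wM ω).adjugate) := hkey H.sw (hle hwP)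
    have k2 : vM ω * N * (vM ω).adjugate * N = N * (vM ω * N * (vM ω).adjugate) := hkey H.sv (hle hvP)
    have r := H.root
    have h5 := r.pow_five
    obtain ⟨hm, hsym⟩ := vM_off r
    have a00 := congrFun (congrFun k1 0) 0
    have s00 := congrFun (congrFun hN2 0) 0
    have s11 := congrFun (congrFun hN2 1) 1
    have hadjw : (wM ω : M2).adjugate = diagonal ![ω ^ 4, ω] := by
      ext i j
      rw [Matrix.adjugate_fin_two]
      fin_cases i <;> fin_cases j <;> simp [wM]
    rw [hadjw] at a00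
    simp [wM, Matrix.mul_apply, Fin.sum_univ_two, mul_diagonal, diagonal_mul] at a00 s00 s11
    have hne : ω * ω - ω ^ 4 * ω ^ 4 ≠ 0 := fun e => by
      have e' : ω ^ 2 = ω ^ 8 := by linear_combination e
      exact absurd (r.pow_inj e') (by norm_num)
    have hp01 : N 0 1 * N 1 0 = 0 :=
      (mul_eq_zero.1 (by linear_combination a00 : (ω * ω - ω ^ 4 * ω ^ 4) * (N 0 1 * N 1 0) = 0)).resolve_left hne
    have n00 : N 0 0 = 0 := mul_self_eq_zero.1 (by linear_combination s00 - hp01)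
    have n11 : N 1 1 = 0 := mul_self_eq_zero.1 (by linear_combination s11 - hp01)
    have b00 := congrFun (congrFun k2 0) 0
    simp [Matrix.mul_apply, Fin.sum_univ_two, Matrix.adjugate_fin_two, n00, n11, hsym] at b00
    rcases mul_eq_zero.1 hp01 with z | z <;> rw [z] at b00
    · have : (vM ω 0 1 * N 1 0) * (vM ω 0 1 * N 1 0) = 0 := by first | linear_combination b00 | linear_combination -b00
      rcases mul_eq_zero.1 (mul_self_eq_zero.1 this) with t | t
      · exact hm t
      · exact hNne (by ext i j; fin_cases i <;> fin_cases j <;> simp [n00, n11, z, t])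
    · have : (vM ω 0 1 * N 0 1) * (vM ω 0 1 * N 0 1) = 0 := by first | linear_combination b00 | linear_combination -b00
      rcases mul_eq_zero.1 (mul_self_eq_zero.1 this) with t | t
      · exact hm t
      · exact hNne (by ext i j; fin_cases i <;> fin_cases j <;> simp [n00, n11, z, t])
  · exact Or.inr ⟨Q, m, K, hK, hK', hKQ, hQ3, hm, hQm, hiso⟩

end Cases

section Finite

variable [Fintype F] {ω : F} {X : Subgroup (GL (Fin 2) F)} (H : HasFives ω X) {p : ℕ} [Fact p.Prime] [CharP F p]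
  (hp : Fintype.card F = p) (h7 : 7 ≤ p)
include H hp h7

/-- Dickson: the projective part is icosahedral or everything. -/
theorem dichotomy : pslPart X = ⊤ ∨ Nonempty (pslPart X ≃* alternatingGroup (Fin 5)) := by
  rcases cases_five H (p := p) (by omega) with e | e | ⟨Q, m, K, hK, hK', hKQ, hQ3, hm, hQm, -⟩
  · exact Or.inl e
  · exact Or.inr e
  · exfalso
    rw [hp] at hQm
    have hp' : (Q ^ m).Prime := by rw [hQm]; exact Fact.out
    have := Nat.Prime.eq_one_of_pow hp'
    omega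

/-- The projective part is simple. -/
theorem psl_part_simple : IsSimpleGroup (pslPart X) := by
  rcases dichotomy H hp h7 with e | ⟨⟨e⟩⟩
  · haveI : IsSimpleGroup PSL :=
      Matrix.ProjectiveSpecialLinearGroup.rank_two_simple (by rw [Nat.card_eq_fintype_card, hp]; omega)
    rw [e]
    haveI : Nontrivial (⊤ : Subgroup PSL) := (Subgroup.topEquiv (G := PSL)).toEquiv.nontrivial
    exact IsSimpleGroup.isSimpleGroup_of_surjective (Subgroup.topEquiv (G := PSL)).symm.toMonoidHom
      (Subgroup.topEquiv (G := PSL)).symm.surjective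
  · haveI := alternatingGroup.isSimpleGroup_five
    haveI : Nontrivial (pslPart X) := e.toEquiv.nontrivial
    exact IsSimpleGroup.isSimpleGroup_of_surjective e.symm.toMonoidHom e.symm.surjective

end Finite

section Generic

variable [Fintype F] {ω : F} {X : Subgroup (GL (Fin 2) F)} (H : HasFives ω X)
include H

/-- A normal part of determinant one with a non-scalar element covers the whole part of determinant one. -/
theorem normal_covers (K : Subgroup G2) (hK1 : ∀ k ∈ K, (k : M2).det = 1) (hKX : K ≤ X)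
    (hn : ∀ x ∈ X, ∀ k ∈ K, x * k * x⁻¹ ∈ K) (hneg : ∃ k ∈ K, (k : M2) = -1)
    (hns : ∃ k ∈ K, ∀ c : F, (k : M2) ≠ c • 1)
    (hsimple : IsSimpleGroup (pslPart X)) :
    ∀ s ∈ slPart X, Matrix.SpecialLinearGroup.toGL s ∈ K := by
  haveI := hsimple
  set L : Subgroup (pslPart X) := (pslPart K).subgroupOf (pslPart X) with hL
  have hLn : L.Normal := by
    refine ⟨fun a ha g => ?_⟩
    obtain ⟨gs, hgs, hge⟩ := g.2
    rw [hL, Subgroup.mem_subgroupOf] at ha ⊢
    obtain ⟨as', has, hae⟩ := ha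
    refine ⟨gs * as' * gs⁻¹, ?_, by simp [← hge, ← hae]⟩
    show Matrix.SpecialLinearGroup.toGL (gs * as' * gs⁻¹) ∈ K
    rw [map_mul, map_mul, map_inv]
    exact hn _ hgs _ has
  obtain ⟨k, hk, hkns⟩ := hns
  let ks : SL := ⟨(k : M2), hK1 k hk⟩
  have hks : Matrix.SpecialLinearGroup.toGL ks = k := Units.ext rfl
  have hksK : ks ∈ slPart K := by show Matrix.SpecialLinearGroup.toGL ks ∈ K; rwa [hks]
  have hksX : ks ∈ slPart X := by show Matrix.SpecialLinearGroup.toGL ks ∈ X; rw [hks]; exact hKX hk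
  have hbot : L ≠ ⊥ := fun e => by
    have : (⟨pmk ks, ⟨ks, hksX, rfl⟩⟩ : pslPart X) ∈ L := by
      rw [hL, Subgroup.mem_subgroupOf]; exact ⟨ks, hksK, rfl⟩
    rw [e, Subgroup.mem_bot] at this
    have h1 : (pmk ks : PSL) = pmk 1 := by rw [map_one]; exact congrArg Subtype.val this
    rcases mk_eq_mk.1 h1 with e' | e'
    · exact hkns 1 (by rw [one_smul]; exact e'.symm)
    · exact hkns (-1) (by rw [neg_smul, one_smul]; exact neg_eq_iff_eq_neg.1 e'.symm)
  intro s hs
  have hmem : (⟨pmk s, ⟨s, hs, rfl⟩⟩ : pslPart X) ∈ L := by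
    rw [hLn.eq_bot_or_eq_top.resolve_left hbot]; exact Subgroup.mem_top _
  rw [hL, Subgroup.mem_subgroupOf] at hmem
  obtain ⟨t, ht, hts⟩ := hmem
  rcases mk_eq_mk.1 hts with e | e
  · rwa [show s = t from Subtype.ext e]
  · obtain ⟨n, hn', hne'⟩ := hneg
    rw [show Matrix.SpecialLinearGroup.toGL s = n * Matrix.SpecialLinearGroup.toGL t from Units.ext (by
      show s.1 = (n : M2) * t.1
      rw [hne', Matrix.neg_mul, Matrix.one_mul, e])]
    exact mul_mem hn' ht

/-- In the large case the part of determinant one is everything. -/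
theorem all_of_top (hneg : ∃ k ∈ X, (k : M2) = -1) (s : SL) (hs : (pmk s : PSL) ∈ pslPart X) :
    Matrix.SpecialLinearGroup.toGL s ∈ X := by
  obtain ⟨t, ht, hts⟩ := hs
  rcases mk_eq_mk.1 hts with e | e
  · rwa [show s = t from Subtype.ext e]
  · obtain ⟨n, hn', hne'⟩ := hneg
    rw [show Matrix.SpecialLinearGroup.toGL s = n * Matrix.SpecialLinearGroup.toGL t from Units.ext (by
      show s.1 = (n : M2) * t.1
      rw [hne', Matrix.neg_mul, Matrix.one_mul, e])]
    exact mul_mem hn' ht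

variable (e5 : pslPart X ≃* alternatingGroup (Fin 5))
include e5

/-- The five-subgroups of the icosahedral part and the involution of the normaliser. -/
theorem small_facts :
    (∀ u ∈ pslPart X, u ^ 5 = 1 → ∃ z ∈ slPart X, pmk z * u * (pmk z)⁻¹ ∈ Subgroup.zpowers (pmk H.sw : PSL)) ∧
    (∀ u ∈ pslPart X, u ^ 5 = 1 → u ∈ Subgroup.zpowers (pmk H.sw : PSL) ∨
      ∃ k : Fin 5, (pmk H.sw ^ (k : ℕ))⁻¹ * u * pmk H.sw ^ (k : ℕ) ∈ Subgroup.zpowers (pmk H.sv : PSL)) ∧
    ∃ g ∈ slPart X, orderOf (pmk g : PSL) = 2 ∧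
      pmk g * pmk H.sw * (pmk g)⁻¹ ∈ Subgroup.zpowers (pmk H.sw : PSL) := by
  classical
  haveI : Fact (Nat.Prime 5) := ⟨Nat.prime_five⟩
  haveI : Fact (Nat.Prime 2) := ⟨Nat.prime_two⟩
  haveI : Finite (pslPart X) := Finite.of_equiv _ e5.symm.toEquiv
  have h60 : Nat.card (pslPart X) = 60 := by
    rw [Nat.card_congr e5.toEquiv, Nat.card_eq_fintype_card]; rfl
  set w' : pslPart X := ⟨pmk H.sw, ⟨_, H.sw_mem, rfl⟩⟩ with hw'
  set v' : pslPart X := ⟨pmk H.sv, ⟨_, H.sv_mem, rfl⟩⟩ with hv'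
  have ow : orderOf w' = 5 := by rw [← Subgroup.orderOf_coe]; exact H.order_w
  have ov : orderOf v' = 5 := by rw [← Subgroup.orderOf_coe]; exact H.order_v
  have hfac : (Nat.card (pslPart X)).factorization 5 = 1 := by
    rw [h60, show (60 : ℕ) = 5 ^ 1 * 12 by norm_num, Nat.factorization_mul (by norm_num) (by norm_num),
      Finsupp.add_apply, Nat.Prime.factorization_pow Nat.prime_five, Finsupp.single_eq_same,
      Nat.factorization_eq_zero_of_not_dvd (by norm_num)]
  have hsyl : ∀ x : pslPart X, orderOf x = 5 → ∃ P : Sylow 5 (pslPart X), (P : Subgroup _) = Subgroup.zpowers x :=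
    fun x hx => ⟨Sylow.ofCard (Subgroup.zpowers x) (by rw [Nat.card_zpowers, hx, hfac, pow_one]), rfl⟩
  obtain ⟨P, hP⟩ := hsyl w' ow
  have ovk : ∀ k : Fin 5, orderOf (w' ^ (k : ℕ) * v' * (w' ^ (k : ℕ))⁻¹) = 5 := fun k => (MulEquiv.orderOf_eq (MulAut.conj (w' ^ (k : ℕ))) v').trans ov
  choose Q hQ using fun k => hsyl _ (ovk k)
  -- conjugates of the second generator are distinct
  have hnd : ∀ d : ℕ, ¬ 5 ∣ d → w' ^ d * v' * (w' ^ d)⁻¹ ∉ Subgroup.zpowers v' := by
    intro d hd hmem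
    have hc : Commute (w' ^ d * v' * (w' ^ d)⁻¹) v' := by
      obtain ⟨i, hi⟩ := hmem
      rw [← hi]
      exact Commute.zpow_self _ _
    have hc' : Commute (pmk (H.sw ^ d * H.sv * (H.sw ^ d)⁻¹) : PSL) (pmk H.sv) := by
      have := hc.map (pslPart X).subtype
      simpa [hw', hv'] using this
    have e1 := HasFives.comm_lift H.root.two_ne (by show (vM ω).trace ≠ 0; rw [trace_vM H.root]; exact trace_wM_ne H.root) hc'
    have hU : wM ω ^ d * vM ω = (H.sw ^ d * H.sv * (H.sw ^ d)⁻¹).1 * wM ω ^ d := by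
      have : H.sw ^ d * H.sv = H.sw ^ d * H.sv * (H.sw ^ d)⁻¹ * H.sw ^ d := by group
      have e := congrArg Subtype.val this
      have hq : (H.sw ^ d).1 = wM ω ^ d := Matrix.SpecialLinearGroup.coe_pow _ _
      rw [← hq]
      exact e
    have hdiag : ∀ i j, i ≠ j → (wM ω ^ d : M2) i j = 0 := fun i j hij => by
      rw [wM, diagonal_pow, diagonal_apply_ne _ hij]
    have := diag_scalar H.root (by rw [det_pow, det_wM H.root, one_pow]; exact one_ne_zero)
      (hdiag 0 1 (by decide)) (hdiag 1 0 (by decide)) hU e1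
    rw [wM, diagonal_pow, diagonal_apply_eq, diagonal_apply_eq] at this
    simp only [Pi.pow_apply, cons_val_zero, cons_val_one, ← pow_mul] at this
    have := H.root.pow_inj this
    omega
  have hPQ : ∀ k, P ≠ Q k := fun k e => by
    have h1 : w' ^ (k : ℕ) * v' * (w' ^ (k : ℕ))⁻¹ ∈ Subgroup.zpowers w' := by
      rw [← hP, e, hQ]; exact Subgroup.mem_zpowers _
    have h2 : v' ∈ Subgroup.zpowers w' := by
      have := mul_mem (mul_mem (inv_mem (pow_mem (Subgroup.mem_zpowers w') (k : ℕ))) h1)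
        (pow_mem (Subgroup.mem_zpowers w') (k : ℕ))
      rwa [show (w' ^ (k : ℕ))⁻¹ * (w' ^ (k : ℕ) * v' * (w' ^ (k : ℕ))⁻¹) * w' ^ (k : ℕ) = v' by group] at this
    obtain ⟨i, hi⟩ := h2
    exact H.wv_noncomm (by
      have := (Commute.self_zpow w' i).map (pslPart X).subtype
      simp only [Subgroup.coe_subtype, show w' ^ i = v' from hi] at this
      exact this)
  have hQQ : Function.Injective Q := by
    intro k l e
    by_contra hne
    have h1 : w' ^ (k : ℕ) * v' * (w' ^ (k : ℕ))⁻¹ ∈ Subgroup.zpowers (w' ^ (l : ℕ) * v' * (w' ^ (l : ℕ))⁻¹) := by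
      rw [← hQ l, ← e, hQ k]; exact Subgroup.mem_zpowers _
    obtain ⟨i, hi⟩ := h1
    refine hnd ((k : ℕ) + 5 - (l : ℕ)) ?_ ⟨i, ?_⟩
    · have := Fin.val_ne_of_ne hne
      omega
    · show v' ^ i = _
      have h5 : w' ^ 5 = 1 := ow ▸ pow_orderOf_eq_one w'
      have e2 : w' ^ ((k : ℕ) + 5 - (l : ℕ)) = (w' ^ (l : ℕ))⁻¹ * w' ^ (k : ℕ) := by
        rw [eq_inv_mul_iff_mul_eq, ← pow_add, show (l : ℕ) + ((k : ℕ) + 5 - (l : ℕ)) = k + 5 by omega, pow_add, h5,
          mul_one]
      simp only [_root_.conj_zpow] at hi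
      rw [e2, show (w' ^ (l : ℕ))⁻¹ * w' ^ (k : ℕ) * v' * ((w' ^ (l : ℕ))⁻¹ * w' ^ (k : ℕ))⁻¹ =
        (w' ^ (l : ℕ))⁻¹ * (w' ^ (k : ℕ) * v' * (w' ^ (k : ℕ))⁻¹) * w' ^ (l : ℕ) by group, ← hi]
      group
  let f : Option (Fin 5) → Sylow 5 (pslPart X) := fun o => o.elim P Q
  have hf : Function.Injective f := by
    rintro (_ | k) (_ | l) e
    · rfl
    · exact absurd e (hPQ l)
    · exact absurd e.symm (hPQ k)
    · exact congrArg some (hQQ e)
  have hmod := card_sylow_modEq_one 5 (pslPart X)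
  have hdvd := P.card_dvd_index
  have hidx : (P : Subgroup (pslPart X)).index = 12 := by
    have := (P : Subgroup (pslPart X)).card_mul_index
    rw [hP]
    rw [h60, hP, Nat.card_zpowers, ow] at this
    omega
  rw [hidx] at hdvd
  have h6 : Nat.card (Sylow 5 (pslPart X)) = 6 := by
    have hge := Nat.card_le_card_of_injective f hf
    rw [Nat.card_eq_fintype_card, Fintype.card_option, Fintype.card_fin] at hge
    have hle := Nat.le_of_dvd (by norm_num) hdvd
    rw [Nat.ModEq] at hmod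
    interval_cases (Nat.card (Sylow 5 (pslPart X))) <;> omega
  have hsurj : Function.Surjective f :=
    ((Nat.bijective_iff_injective_and_card f).2 ⟨hf, by
      rw [h6, Nat.card_eq_fintype_card, Fintype.card_option, Fintype.card_fin]⟩).2
  refine ⟨fun u hu hu5 => ?_, fun u hu hu5 => ?_, ?_⟩
  · by_cases hu1 : u = 1
    · exact ⟨1, one_mem _, by rw [map_one, hu1]; simp⟩
    have ou : orderOf (⟨u, hu⟩ : pslPart X) = 5 := by
      rw [Subgroup.orderOf_mk]; exact orderOf_eq_prime hu5 hu1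
    obtain ⟨S, hS⟩ := hsyl _ ou
    obtain ⟨g, hg⟩ := MulAction.exists_smul_eq (pslPart X) S P
    obtain ⟨z, hz, hze⟩ := g.2
    refine ⟨z, hz, ?_⟩
    have h1 : g * ⟨u, hu⟩ * g⁻¹ ∈ Subgroup.zpowers w' := by
      rw [← hP, ← hg, Sylow.coe_subgroup_smul, Subgroup.mem_pointwise_smul_iff_inv_smul_mem, hS]
      refine ⟨1, ?_⟩
      simp [MulAut.smul_def, MulAut.conj_symm_apply, mul_assoc]
    obtain ⟨i, hi⟩ := h1
    refine ⟨i, ?_⟩
    have := congrArg Subtype.val hi
    simpa [hw', ← hze] using this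
  · by_cases hu1 : u = 1
    · exact Or.inl (hu1 ▸ one_mem _)
    have ou : orderOf (⟨u, hu⟩ : pslPart X) = 5 := by
      rw [Subgroup.orderOf_mk]; exact orderOf_eq_prime hu5 hu1
    obtain ⟨S, hS⟩ := hsyl _ ou
    obtain ⟨o, ho⟩ := hsurj S
    have hmem : (⟨u, hu⟩ : pslPart X) ∈ (S : Subgroup (pslPart X)) := hS ▸ Subgroup.mem_zpowers _
    rw [← ho] at hmem
    rcases o with _ | k
    · change _ ∈ (P : Subgroup (pslPart X)) at hmem
      rw [hP] at hmem
      obtain ⟨i, hi⟩ := hmem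
      exact Or.inl ⟨i, by simpa [hw'] using congrArg Subtype.val hi⟩
    · change _ ∈ (Q k : Subgroup (pslPart X)) at hmem
      rw [hQ] at hmem
      obtain ⟨i, hi⟩ := hmem
      simp only [_root_.conj_zpow] at hi
      refine Or.inr ⟨k, i, ?_⟩
      have := congrArg Subtype.val hi
      simp only [hw', hv', Subgroup.coe_mul, Subgroup.coe_inv, SubmonoidClass.coe_pow, SubgroupClass.coe_zpow] at this
      simp only
      rw [← this]
      group
  · have hN10 : Nat.card (Subgroup.normalizer ((P : Subgroup (pslPart X)) : Set (pslPart X))) = 10 := by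
      have := (Subgroup.normalizer ((P : Subgroup (pslPart X)) : Set (pslPart X))).card_mul_index
      have h2 : (Subgroup.normalizer ((P : Subgroup (pslPart X)) : Set (pslPart X))).index = 6 :=
        P.card_eq_index_normalizer.symm.trans h6
      rw [h60, h2] at this
      omega
    obtain ⟨g, hg⟩ := exists_prime_orderOf_dvd_card'
      (G := Subgroup.normalizer ((P : Subgroup (pslPart X)) : Set (pslPart X))) 2 (by rw [hN10]; norm_num)
    obtain ⟨gs, hgs, hge⟩ := (g : pslPart X).2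
    refine ⟨gs, hgs, ?_, ?_⟩
    · rw [hge, Subgroup.orderOf_coe, Subgroup.orderOf_coe, hg]
    · have h1 : (g : pslPart X) * w' * (g : pslPart X)⁻¹ ∈ (P : Subgroup (pslPart X)) :=
        (Subgroup.mem_normalizer_iff.1 g.2 w').1 (by rw [hP]; exact Subgroup.mem_zpowers _)
      obtain ⟨i, hi⟩ := (SetLike.ext_iff.1 hP _).1 h1
      exact ⟨i, by simpa [hw', ← hge] using congrArg Subtype.val hi⟩

/-- The linear group is scalars times the icosahedral part. -/
theorem small_decomp {B : G2} (hB : B ∈ X) :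
    ∃ (c : F) (s : SL), s ∈ slPart X ∧ (B : M2) = c • s.1 := by
  have r := H.root
  have htr : (vM ω : M2).trace ≠ 0 := by rw [trace_vM r]; exact trace_wM_ne r
  obtain ⟨hconj, hcases, g, hgX, hg2, hgw⟩ := small_facts H e5
  -- images of five-elements
  have himg : ∀ (A : G2), A ∈ X → ∀ s : SL, s ∈ slPart X → s ^ 5 = 1 →
      ∃ t : SL, t ∈ slPart X ∧ t ^ 5 = 1 ∧ (A : M2) * s.1 = t.1 * (A : M2) := by
    intro A hA s hs hs5
    set T : G2 := A * Matrix.SpecialLinearGroup.toGL s * A⁻¹ with hT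
    have hd : (T : M2).det = 1 := by
      rw [hT, Units.val_mul, Units.val_mul, det_mul, det_mul, show (Matrix.SpecialLinearGroup.toGL s : M2) = s.1 from rfl,
        s.2, mul_one, ← det_mul, Units.mul_inv, det_one]
    refine ⟨⟨(T : M2), hd⟩, ?_, Matrix.SpecialLinearGroup.toGL_injective ?_, ?_⟩
    · show Matrix.SpecialLinearGroup.toGL (⟨(T : M2), hd⟩ : SL) ∈ X
      rw [show Matrix.SpecialLinearGroup.toGL (⟨(T : M2), hd⟩ : SL) = T from Units.ext rfl]
      exact mul_mem (mul_mem hA hs) (inv_mem hA)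
    · refine ((Matrix.SpecialLinearGroup.toGL (n := Fin 2) (R := F)).map_pow (⟨(T : M2), hd⟩ : SL) 5).trans ?_
      rw [show Matrix.SpecialLinearGroup.toGL (⟨(T : M2), hd⟩ : SL) = T from Units.ext rfl, hT,
        _root_.conj_pow, ← map_pow, hs5, map_one, mul_one, mul_inv_cancel]
    · show _ = (T : M2) * (A : M2)
      rw [← Units.val_mul, hT, inv_mul_cancel_right, Units.val_mul]
      rfl
  -- powers commute
  have hzc : ∀ (t : SL) (s : SL), s.1.trace ≠ 0 → (pmk t : PSL) ∈ Subgroup.zpowers (pmk s) → t.1 * s.1 = s.1 * t.1 :=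
    fun t s hs ⟨i, hi⟩ => HasFives.comm_lift r.two_ne hs (hi ▸ Commute.zpow_self _ _)
  -- diagonal elements
  have hdiag : ∀ D : G2, D ∈ X → (D : M2) 0 1 = 0 → (D : M2) 1 0 = 0 →
      ∃ (c : F) (k : ℕ), (D : M2) = c • wM ω ^ k := by
    intro D hD d01 d10
    obtain ⟨t, ht, ht5, hDt⟩ := himg D hD H.sv H.sv_mem H.sv_pow
    rcases hcases (pmk t) ⟨t, ht, rfl⟩ (by rw [← map_pow, ht5, map_one]) with hw | ⟨k, hk⟩
    · exfalso
      obtain ⟨t01, -⟩ := diag_of_comm r (hzc t H.sw (trace_wM_ne r) hw)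
      have e01 := congrFun (congrFun hDt 0) 1
      simp only [Matrix.mul_apply, Fin.sum_univ_two, d01, d10, t01, zero_mul, mul_zero, add_zero] at e01
      have hd0 : (D : M2) 0 0 ≠ 0 := fun e => by
        have := (Matrix.isUnit_iff_isUnit_det _).1 D.isUnit
        rw [det_fin_two, e, d01] at this
        simp at this
      exact (vM_off r).1 ((mul_eq_zero.1 e01).resolve_left hd0)
    · set m : ℕ := 4 * (k : ℕ) with hm
      have hinv : H.sw ^ m = (H.sw ^ (k : ℕ))⁻¹ := by
        rw [eq_inv_iff_mul_eq_one, ← pow_add, show m + (k : ℕ) = 5 * (k : ℕ) by omega, pow_mul, H.sw_pow, one_pow]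
      have hk' : (pmk (H.sw ^ m * t * (H.sw ^ m)⁻¹) : PSL) ∈ Subgroup.zpowers (pmk H.sv) := by
        rw [map_mul, map_mul, map_inv, hinv, map_inv, map_pow, inv_inv]
        exact hk
      have hU : (wM ω ^ m * (D : M2)) * vM ω = (H.sw ^ m * t * (H.sw ^ m)⁻¹).1 * (wM ω ^ m * (D : M2)) := by
        have e1 : (H.sw ^ m * t * (H.sw ^ m)⁻¹).1 * wM ω ^ m = wM ω ^ m * t.1 := by
          have : H.sw ^ m * t * (H.sw ^ m)⁻¹ * H.sw ^ m = H.sw ^ m * t := by group
          have e := congrArg Subtype.val this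
          have hq : (H.sw ^ m).1 = wM ω ^ m := Matrix.SpecialLinearGroup.coe_pow _ _
          rw [← hq]
          exact e
        rw [← Matrix.mul_assoc _ (wM ω ^ m), e1, Matrix.mul_assoc, Matrix.mul_assoc, show vM ω = H.sv.1 from rfl, hDt]
      have hdd : ∀ i j : Fin 2, i ≠ j → (wM ω ^ m * (D : M2)) i j = 0 := fun i j hij => by
        rw [wM, diagonal_pow, diagonal_mul]
        fin_cases i <;> fin_cases j <;> simp at hij ⊢ <;> simp [d01, d10]
      have hdet : (wM ω ^ m * (D : M2)).det ≠ 0 := by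
        rw [det_mul, det_pow, det_wM r, one_pow, one_mul]
        exact ((Matrix.isUnit_iff_isUnit_det _).1 D.isUnit).ne_zero
      have heq := diag_scalar r hdet (hdd 0 1 (by decide)) (hdd 1 0 (by decide)) hU (hzc _ _ htr hk')
      refine ⟨(wM ω ^ m * (D : M2)) 0 0, (k : ℕ), ?_⟩
      have e2 : wM ω ^ m * (D : M2) = (wM ω ^ m * (D : M2)) 0 0 • (1 : M2) := by
        ext i j
        fin_cases i <;> fin_cases j <;> simp [heq, hdd 0 1 (by decide), hdd 1 0 (by decide)]
      calc (D : M2) = wM ω ^ (k : ℕ) * (wM ω ^ m * (D : M2)) := by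
            rw [← Matrix.mul_assoc, ← pow_add, show (k : ℕ) + m = 5 * (k : ℕ) by omega, pow_mul, wM_pow_five r,
              one_pow, Matrix.one_mul]
        _ = _ := by rw [e2, Matrix.mul_smul, Matrix.mul_one]; simp
  have hwk : ∀ k : ℕ, H.sw ^ k ∈ slPart X := fun k => pow_mem H.sw_mem k
  -- monomial shape
  have hmono : ∀ (A : M2) (t : SL), (pmk t : PSL) ∈ Subgroup.zpowers (pmk H.sw) → A * wM ω = t.1 * A → A.det ≠ 0 →
      (A 0 1 = 0 ∧ A 1 0 = 0) ∨ (A 0 0 = 0 ∧ A 1 1 = 0) := by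
    intro A t ht hA hdA
    obtain ⟨t01, t10⟩ := diag_of_comm r (hzc t H.sw (trace_wM_ne r) ht)
    have e00 := congrFun (congrFun hA 0) 0
    have e01 := congrFun (congrFun hA 0) 1
    have e10 := congrFun (congrFun hA 1) 0
    have e11 := congrFun (congrFun hA 1) 1
    simp only [wM, mul_diagonal] at e00 e01 e10 e11
    simp only [Matrix.mul_apply, Fin.sum_univ_two, t01, t10, zero_mul, zero_add, add_zero,
      cons_val_zero, cons_val_one] at e00 e01 e10 e11
    have hne := sub_ne_zero.2 (wM_ne r)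
    have p0 : A 0 0 * A 0 1 = 0 :=
      (mul_eq_zero.1 (by linear_combination A 0 1 * e00 - A 0 0 * e01 : (ω - ω ^ 4) * (A 0 0 * A 0 1) = 0)).resolve_left hne
    have p1 : A 1 0 * A 1 1 = 0 :=
      (mul_eq_zero.1 (by linear_combination A 1 1 * e10 - A 1 0 * e11 : (ω - ω ^ 4) * (A 1 0 * A 1 1) = 0)).resolve_left hne
    rw [det_fin_two] at hdA
    rcases mul_eq_zero.1 p0 with a | a <;> rcases mul_eq_zero.1 p1 with b | b
    · rw [a, b] at hdA; simp at hdA
    · exact Or.inr ⟨a, b⟩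
    · exact Or.inl ⟨a, b⟩
    · rw [a, b] at hdA; simp at hdA
  -- the inverting element is antidiagonal
  have hganti : g.1 0 0 = 0 ∧ g.1 1 1 = 0 := by
    obtain ⟨t, ht, ht5, hgt⟩ := himg (Matrix.SpecialLinearGroup.toGL g) hgX H.sw H.sw_mem H.sw_pow
    change g.1 * H.sw.1 = t.1 * g.1 at hgt
    have hgt' : t = g * H.sw * g⁻¹ := by
      rw [eq_mul_inv_iff_mul_eq]
      exact Subtype.ext hgt.symm
    refine (hmono g.1 t (by rw [hgt', map_mul, map_mul, map_inv]; exact hgw) hgt (by rw [g.2]; exact one_ne_zero)).resolve_left ?_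
    rintro ⟨g01, g10⟩
    obtain ⟨c, k, hc⟩ := hdiag _ hgX g01 g10
    change g.1 = c • wM ω ^ k at hc
    have hc2 : c * c = 1 := by
      have := g.2
      rw [hc, det_smul, det_pow, det_wM r, one_pow, mul_one, Fintype.card_fin, pow_two] at this
      exact this
    have hgk : (pmk g : PSL) = pmk (H.sw ^ k) := by
      rw [mk_eq_mk, Matrix.SpecialLinearGroup.coe_pow, show H.sw.1 = wM ω from rfl, hc]
      rcases mul_self_eq_one_iff.1 hc2 with e | e
      · exact Or.inl (by rw [e, one_smul])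
      · exact Or.inr (by rw [e, neg_smul, one_smul, neg_neg])
    have h5 : (pmk g : PSL) ^ 5 = 1 := by
      rw [hgk, ← map_pow, ← pow_mul, mul_comm, pow_mul, H.sw_pow, one_pow, map_one]
    have := orderOf_dvd_of_pow_eq_one h5
    rw [hg2] at this
    norm_num at this
  -- the general element
  obtain ⟨t, ht, ht5, hBt⟩ := himg B hB H.sw H.sw_mem H.sw_pow
  obtain ⟨z, hz, hzt⟩ := hconj (pmk t) ⟨t, ht, rfl⟩ (by rw [← map_pow, ht5, map_one])
  rw [← map_inv, ← map_mul, ← map_mul] at hzt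
  have hA : (z.1 * (B : M2)) * wM ω = (z * t * z⁻¹).1 * (z.1 * (B : M2)) := by
    rw [Matrix.mul_assoc, show wM ω = H.sw.1 from rfl, hBt, ← Matrix.mul_assoc, ← Matrix.mul_assoc,
      ← Matrix.SpecialLinearGroup.coe_mul, ← Matrix.SpecialLinearGroup.coe_mul, inv_mul_cancel_right]
  have hdA : (z.1 * (B : M2)).det ≠ 0 := by
    rw [det_mul, z.2, one_mul]; exact ((Matrix.isUnit_iff_isUnit_det _).1 B.isUnit).ne_zero
  have hadj : ∀ s : SL, s⁻¹.1 * s.1 = 1 := fun s => by
    rw [← Matrix.SpecialLinearGroup.coe_mul, inv_mul_cancel, Matrix.SpecialLinearGroup.coe_one]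
  rcases hmono _ _ hzt hA hdA with ⟨a, b⟩ | ⟨a, b⟩
  · obtain ⟨c, k, hc⟩ := hdiag (Matrix.SpecialLinearGroup.toGL z * B) (mul_mem hz hB) a b
    change z.1 * (B : M2) = _ at hc
    refine ⟨c, z⁻¹ * H.sw ^ k, mul_mem (inv_mem hz) (hwk k), ?_⟩
    rw [Matrix.SpecialLinearGroup.coe_mul, Matrix.SpecialLinearGroup.coe_pow, ← Matrix.mul_smul,
      show H.sw.1 = wM ω from rfl, ← hc, ← Matrix.mul_assoc, hadj, Matrix.one_mul]
  · obtain ⟨ga, gb⟩ := hganti
    obtain ⟨c, k, hc⟩ := hdiag (Matrix.SpecialLinearGroup.toGL g * (Matrix.SpecialLinearGroup.toGL z * B))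
      (mul_mem hgX (mul_mem hz hB)) (by
        show (g.1 * (z.1 * (B : M2))) 0 1 = 0
        rw [Matrix.mul_apply, Fin.sum_univ_two, ga, b]; simp)
      (by
        show (g.1 * (z.1 * (B : M2))) 1 0 = 0
        rw [Matrix.mul_apply, Fin.sum_univ_two, gb, a]; simp)
    change g.1 * (z.1 * (B : M2)) = _ at hc
    refine ⟨c, z⁻¹ * (g⁻¹ * H.sw ^ k), mul_mem (inv_mem hz) (mul_mem (inv_mem hgX) (hwk k)), ?_⟩
    rw [Matrix.SpecialLinearGroup.coe_mul, Matrix.SpecialLinearGroup.coe_mul, Matrix.SpecialLinearGroup.coe_pow,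
      ← Matrix.mul_smul, ← Matrix.mul_smul, show H.sw.1 = wM ω from rfl, ← hc, ← Matrix.mul_assoc g⁻¹.1, hadj,
      Matrix.one_mul, ← Matrix.mul_assoc, hadj, Matrix.one_mul]

/-- No element has projective order four. -/
theorem small_no_four {B : G2} (hB : B ∈ X) {c : F} (h4 : (B : M2) ^ 4 = c • 1) :
    ∃ d : F, (B : M2) ^ 2 = d • 1 := by
  obtain ⟨a, s, hs, hBs⟩ := small_decomp H e5 hB
  have ha : a ≠ 0 := fun e => by
    rw [e, zero_smul] at hBs
    exact B.ne_zero hBs
  rw [hBs, smul_pow] at h4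
  have hs4 : s.1 ^ 4 = (c / a ^ 4) • (1 : M2) := by
    have := congrArg ((a ^ 4)⁻¹ • ·) h4
    simp only [smul_smul, inv_mul_cancel₀ (pow_ne_zero 4 ha), one_smul] at this
    rw [this, div_eq_inv_mul]
  have hc2 : (c / a ^ 4) * (c / a ^ 4) = 1 := by
    have := congrArg Matrix.det hs4
    rw [det_pow, s.2, one_pow, det_smul, det_one, mul_one, Fintype.card_fin, pow_two] at this
    exact this.symm
  have hp4 : (pmk s : PSL) ^ 4 = 1 := by
    rw [← map_pow, ← map_one pmk, mk_eq_mk, Matrix.SpecialLinearGroup.coe_pow, hs4, Matrix.SpecialLinearGroup.coe_one]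
    rcases mul_self_eq_one_iff.1 hc2 with e | e
    · exact Or.inl (by rw [e, one_smul])
    · exact Or.inr (by rw [e, neg_smul, one_smul, neg_neg])
  have hp2 : (pmk s : PSL) ^ 2 = 1 := by
    set y : pslPart X := ⟨pmk s, ⟨s, hs, rfl⟩⟩ with hy
    have hy4 : y ^ 4 = 1 := Subtype.ext (by rw [SubmonoidClass.coe_pow]; exact hp4)
    have key : ∀ z : alternatingGroup (Fin 5), z ^ 4 = 1 → z ^ 2 = 1 := by
      intro z hz
      rcases DicksonFull.a5_orders z with e | e | e
      · exact e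
      · have : z = 1 := by rw [show z = z ^ 4 * (z ^ 3)⁻¹ by group, hz, e, inv_one, mul_one]
        rw [this, one_pow]
      · have : z = 1 := by rw [show z = z ^ 5 * (z ^ 4)⁻¹ by group, hz, e, inv_one, mul_one]
        rw [this, one_pow]
    have := key (e5 y) (by rw [← map_pow, hy4, map_one])
    rw [← map_pow, ← map_one e5] at this
    have := congrArg Subtype.val (e5.injective this)
    rwa [SubmonoidClass.coe_pow, OneMemClass.coe_one] at this
  rw [← map_pow, ← map_one pmk, mk_eq_mk, Matrix.SpecialLinearGroup.coe_pow, Matrix.SpecialLinearGroup.coe_one] at hp2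
  rw [hBs, smul_pow]
  rcases hp2 with e | e
  · exact ⟨a ^ 2, by rw [← e]⟩
  · refine ⟨-a ^ 2, ?_⟩
    rw [show s.1 ^ 2 = -1 by rw [← neg_eq_iff_eq_neg]; exact e.symm, smul_neg, neg_smul]

end Generic

end CfsgLib.MaxSub.HeisFive
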