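/-
Soluble subgroups of small linear groups normalised by five-elements are scalar.
-/
import Cfsg.Agent.Lib.MaxSub.HeisFive.Basic
import Cfsg.Prelude.Def_GeometricClasses

set_option autoImplicit false
set_option linter.unusedSectionVars false
set_option linter.style.haveILetI false
set_option maxHeartbeats 800000

namespace CfsgLib.MaxSub.HeisFive

open Matrix
open scoped commutatorElement

variable {F : Type*} [Field F]

section General

variable {n : ℕ}

/-- Being a scalar matrix. -/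
def IsScal {ι : Type*} [DecidableEq ι] (M : Matrix ι ι F) : Prop := ∃ c : F, M = c • 1

theorem IsScal.comm {ι : Type*} [Fintype ι] [DecidableEq ι] {M : Matrix ι ι F} (h : IsScal M) (N : Matrix ι ι F) :
    M * N = N * M := by
  obtain ⟨c, rfl⟩ := h
  rw [Matrix.smul_mul, Matrix.mul_smul, Matrix.one_mul, Matrix.mul_one]

theorem mem_scalars_of_isScal {g : GL (Fin n) F} (h : IsScal (g : Matrix (Fin n) (Fin n) F)) (hn : 0 < n) :
    g ∈ Cfsg.Geo.scalars (Fin n) F := by
  obtain ⟨c, hc⟩ := h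
  have hc0 : c ≠ 0 := fun e => by
    haveI : Nonempty (Fin n) := ⟨⟨0, hn⟩⟩
    rw [e, zero_smul] at hc
    exact g.ne_zero hc
  exact (Cfsg.Geo.mem_scalars_iff g).2 ⟨Units.mk0 c hc0, hc⟩

/-- A root of unity of two coprime orders is one. -/
theorem eq_one_of_coprime {ζ : F} {a b : ℕ} (hab : Nat.Coprime a b) (ha : ζ ^ a = 1) (hb : ζ ^ b = 1) : ζ = 1 := by
  have := Nat.eq_one_of_dvd_coprimes hab (orderOf_dvd_of_pow_eq_one ha) (orderOf_dvd_of_pow_eq_one hb)
  exact orderOf_eq_one_iff.1 this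

variable [Finite F]

/-- A five-element normalising a group that is abelian modulo scalars, with scalar centre, centralises it. -/
theorem five_centralises (hn : n.Prime) (hn4 : n ≤ 3) (S : Subgroup (GL (Fin n) F))
    (hcomm : ∀ s ∈ S, ∀ t ∈ S, ∃ ζ : F, (s : Matrix (Fin n) (Fin n) F) * t = ζ • ((t : Matrix (Fin n) (Fin n) F) * s))
    (hcen : ∀ s ∈ S, (∀ t ∈ S, s * t = t * s) → IsScal (s : Matrix (Fin n) (Fin n) F))
    (w : GL (Fin n) F) (k : ℕ) (hw : w ^ 5 ^ k = 1) (hwS : ∀ s ∈ S, w * s * w⁻¹ ∈ S) :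
    ∀ s ∈ S, w * s = s * w := by
  classical
  haveI : Fact n.Prime := ⟨hn⟩
  haveI : Fact (Nat.Prime 5) := ⟨Nat.prime_five⟩
  set π := QuotientGroup.mk' (Cfsg.Geo.scalars (Fin n) F) with hπ
  set S' := S.map π with hS'
  have hker : ∀ a b : GL (Fin n) F, π a = π b → ∃ c : F, (a : Matrix (Fin n) (Fin n) F) = c • (b : Matrix (Fin n) (Fin n) F) := by
    intro a b e
    obtain ⟨c, hc⟩ := (Cfsg.Geo.mem_scalars_iff _).1 (QuotientGroup.eq.1 e.symm)
    refine ⟨c, ?_⟩
    rw [Units.val_mul] at hc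
    calc (a : Matrix (Fin n) (Fin n) F) = (b : Matrix (Fin n) (Fin n) F) * (((b⁻¹ : GL (Fin n) F) : Matrix (Fin n) (Fin n) F) * a) := by
          rw [← Matrix.mul_assoc, Units.mul_inv, Matrix.one_mul]
      _ = _ := by rw [hc, Matrix.mul_smul, Matrix.mul_one]
  -- characters
  have hdetc : ∀ s t : GL (Fin n) F, ∀ ζ : F, (s : Matrix (Fin n) (Fin n) F) * t = ζ • ((t : Matrix (Fin n) (Fin n) F) * s) →
      ζ ^ n = 1 := by
    intro s t ζ e
    have := congrArg Matrix.det e
    rw [det_smul, det_mul, det_mul, Fintype.card_fin, mul_comm (t : Matrix (Fin n) (Fin n) F).det] at this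
    refine mul_right_cancel₀ (mul_ne_zero ((Matrix.isUnit_iff_isUnit_det _).1 s.isUnit).ne_zero
      ((Matrix.isUnit_iff_isUnit_det _).1 t.isUnit).ne_zero) ?_
    rw [one_mul, ← this]
  choose χ hχ using hcomm
  let chi : (↥S) → (↥S →* F) := fun s =>
    { toFun := fun g => χ g g.2 s s.2
      map_one' := by
        have e := hχ (1 : GL (Fin n) F) (one_mem S) s s.2
        rw [Units.val_one, Matrix.one_mul, Matrix.mul_one] at e
        haveI : Nonempty (Fin n) := ⟨⟨0, hn.pos⟩⟩
        have e' : ((1 : F) - χ 1 (one_mem S) s s.2) • ((s : GL (Fin n) F) : Matrix (Fin n) (Fin n) F) = 0 := by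
          rw [sub_smul, one_smul, ← e, sub_self]
        exact (sub_eq_zero.1 ((smul_eq_zero.1 e').resolve_right (s : GL (Fin n) F).ne_zero)).symm
      map_mul' := fun g g' => by
        haveI : Nonempty (Fin n) := ⟨⟨0, hn.pos⟩⟩
        have e := hχ ((g : GL (Fin n) F) * g') (mul_mem g.2 g'.2) s s.2
        rw [Units.val_mul, Matrix.mul_assoc, hχ g' g'.2 s s.2, Matrix.mul_smul, ← Matrix.mul_assoc,
          hχ g g.2 s s.2, Matrix.smul_mul, smul_smul, ← Matrix.mul_assoc] at e
        have e' : (χ g' g'.2 s s.2 * χ g g.2 s s.2 - χ _ (mul_mem g.2 g'.2) s s.2) •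
            (((s * g * g' : ↥S) : GL (Fin n) F) : Matrix (Fin n) (Fin n) F) = 0 := by
          rw [Subgroup.coe_mul, Subgroup.coe_mul, Units.val_mul, Units.val_mul, sub_smul, e, sub_self]
        have := sub_eq_zero.1 ((smul_eq_zero.1 e').resolve_right (s * g * g' : ↥S).1.ne_zero)
        rw [mul_comm (χ g g.2 s s.2)]
        exact this.symm }
  have hchi : ∀ s g : ↥S, ((g : GL (Fin n) F) : Matrix (Fin n) (Fin n) F) * (s : GL (Fin n) F) =
      chi s g • (((s : GL (Fin n) F) : Matrix (Fin n) (Fin n) F) * (g : GL (Fin n) F)) := fun s g => hχ g g.2 s s.2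
  have hsep : ∀ a b : ↥S, chi a = chi b → π a.1 = π b.1 := by
    intro a b e
    obtain ⟨c, hc⟩ := hcen ((a : GL (Fin n) F)⁻¹ * b) (mul_mem (inv_mem a.2) b.2) (fun t ht => by
      refine Units.ext ?_
      have h1 := hchi a ⟨t, ht⟩
      have h2 := hchi b ⟨t, ht⟩
      rw [e] at h1
      set z := chi b ⟨t, ht⟩
      have hz : z ≠ 0 := fun hz => by
        haveI : Nonempty (Fin n) := ⟨⟨0, hn.pos⟩⟩
        rw [hz, zero_smul, ← Units.val_mul] at h2
        exact (t * b).ne_zero h2
      have h3 : ((t : GL (Fin n) F) : Matrix (Fin n) (Fin n) F) * ((a : GL (Fin n) F)⁻¹ : GL (Fin n) F) =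
          z⁻¹ • ((((a : GL (Fin n) F)⁻¹ : GL (Fin n) F) : Matrix (Fin n) (Fin n) F) * t) := by
        have := congrArg (fun M => z⁻¹ • ((((a : GL (Fin n) F)⁻¹ : GL (Fin n) F) : Matrix (Fin n) (Fin n) F) * M *
          (((a : GL (Fin n) F)⁻¹ : GL (Fin n) F) : Matrix (Fin n) (Fin n) F))) h1
        simp only [Matrix.mul_smul, Matrix.smul_mul, smul_smul, Matrix.mul_assoc, Units.mul_inv, Matrix.mul_one,
          Units.inv_mul_cancel_left, inv_mul_cancel₀ hz, one_smul] at this
        exact this.symm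
      change ((((a : GL (Fin n) F)⁻¹ : GL (Fin n) F) : Matrix (Fin n) (Fin n) F) * (b : GL (Fin n) F)) * t =
        (t : Matrix (Fin n) (Fin n) F) * ((((a : GL (Fin n) F)⁻¹ : GL (Fin n) F) : Matrix (Fin n) (Fin n) F) * (b : GL (Fin n) F))
      rw [← Matrix.mul_assoc (t : Matrix (Fin n) (Fin n) F), h3, Matrix.smul_mul,
        Matrix.mul_assoc (((a : GL (Fin n) F)⁻¹ : GL (Fin n) F) : Matrix (Fin n) (Fin n) F) (t : Matrix (Fin n) (Fin n) F),
        h2, Matrix.mul_smul, smul_smul, inv_mul_cancel₀ hz, one_smul, Matrix.mul_assoc])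
    exact QuotientGroup.eq.2 (mem_scalars_of_isScal ⟨c, hc⟩ hn.pos)
  -- at most `n²` classes
  have hrep : ∀ x : ↥S', ∃ s : ↥S, π s.1 = x.1 := fun x => by
    obtain ⟨s, hs, e⟩ := x.2
    exact ⟨⟨s, hs⟩, e⟩
  choose rep hrep using hrep
  haveI : Fintype ↥S' := Fintype.ofFinite _
  have hli : LinearIndependent F fun x : ↥S' => ((rep x : GL (Fin n) F) : Matrix (Fin n) (Fin n) F) := by
    have hd : LinearIndependent F fun x : ↥S' => (chi (rep x) : ↥S → F) :=
      (linearIndependent_monoidHom ↥S F).comp (fun x => chi (rep x)) fun x y e => Subtype.ext (by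
        rw [← hrep x, ← hrep y]; exact hsep _ _ e)
    rw [Fintype.linearIndependent_iff] at hd ⊢
    intro c hc x
    haveI : Nonempty (Fin n) := ⟨⟨0, hn.pos⟩⟩
    obtain ⟨i, j, hij⟩ : ∃ i j, ((rep x : GL (Fin n) F) : Matrix (Fin n) (Fin n) F) i j ≠ 0 := by
      by_contra h0
      push Not at h0
      exact (rep x : GL (Fin n) F).ne_zero (by ext i j; exact h0 i j)
    have := hd (fun y => c y * ((rep y : GL (Fin n) F) : Matrix (Fin n) (Fin n) F) i j) (funext fun g => by
      have e1 : ∑ y, (c y * chi (rep y) g) • ((rep y : GL (Fin n) F) : Matrix (Fin n) (Fin n) F) = 0 := by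
        have := congrArg (fun M => ((g : GL (Fin n) F) : Matrix (Fin n) (Fin n) F) * M *
          ((((g : GL (Fin n) F)⁻¹ : GL (Fin n) F)) : Matrix (Fin n) (Fin n) F)) hc
        simp only [Matrix.mul_zero, Matrix.zero_mul, Matrix.mul_sum, Matrix.sum_mul, Matrix.mul_smul, Matrix.smul_mul] at this
        rw [← this]
        refine Finset.sum_congr rfl fun y _ => ?_
        rw [hchi, Matrix.smul_mul, smul_smul, Matrix.mul_assoc, Units.mul_inv, Matrix.mul_one]
      have := congrFun (congrFun e1 i) j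
      simp only [Matrix.sum_apply, Matrix.smul_apply, smul_eq_mul, Matrix.zero_apply] at this
      simp only [Finset.sum_apply, Pi.smul_apply, smul_eq_mul, Pi.zero_apply]
      rw [← this]
      exact Finset.sum_congr rfl fun y _ => by ring) x
    exact (mul_eq_zero.1 this).resolve_right hij
  have hle : Nat.card ↥S' ≤ n * n := by
    rw [Nat.card_eq_fintype_card]
    refine hli.fintype_card_le_finrank.trans (le_of_eq ?_)
    rw [Module.finrank_matrix, Fintype.card_fin, Module.finrank_self, mul_one]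
  -- the classes form an `n`-group
  have hSn : IsPGroup n ↥S' := fun x => by
    refine ⟨1, Subtype.ext ?_⟩
    obtain ⟨s, hs, hse⟩ := x.2
    rw [pow_one, SubmonoidClass.coe_pow, ← hse, ← map_pow, OneMemClass.coe_one]
    refine (QuotientGroup.eq_one_iff _).2 (mem_scalars_of_isScal (hcen _ (pow_mem hs n) fun t ht => ?_) hn.pos)
    refine Units.ext ?_
    have h1 := hχ s hs t ht
    have hz := hdetc s t _ h1
    set z := χ s hs t ht
    have h2 : ∀ m : ℕ, (s : Matrix (Fin n) (Fin n) F) ^ m * t = z ^ m • ((t : Matrix (Fin n) (Fin n) F) * (s : Matrix (Fin n) (Fin n) F) ^ m) := by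
      intro m
      induction m with
      | zero => simp
      | succ m ih =>
        rw [pow_succ, Matrix.mul_assoc, h1, Matrix.mul_smul, ← Matrix.mul_assoc, ih, Matrix.smul_mul, smul_smul,
          Matrix.mul_assoc, pow_succ' z]
    rw [Units.val_mul, Units.val_mul, Units.val_pow_eq_pow_val, h2, hz, one_smul]
  obtain ⟨j, hj⟩ := hSn.exists_card_eq
  -- the action of the five-element
  have hconj : ∀ x : ↥S', π w * x.1 * (π w)⁻¹ ∈ S' := fun x => by
    obtain ⟨s, hs, e⟩ := x.2
    exact ⟨w * s * w⁻¹, hwS s hs, by rw [map_mul, map_mul, map_inv, e]⟩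
  let c : ↥S' → ↥S' := fun x => ⟨π w * x.1 * (π w)⁻¹, hconj x⟩
  have hcinj : Function.Injective c := fun x y e => Subtype.ext (by simpa [c] using congrArg Subtype.val e)
  let σ : Equiv.Perm ↥S' := Equiv.ofBijective c (Finite.injective_iff_bijective.1 hcinj)
  have hσ : ∀ (m : ℕ) (x : ↥S'), ((σ ^ m) x).1 = π w ^ m * x.1 * (π w ^ m)⁻¹ := by
    intro m
    induction m with
    | zero => intro x; simp
    | succ m ih =>
      intro x
      rw [pow_succ', Equiv.Perm.mul_apply]
      show π w * ((σ ^ m) x).1 * (π w)⁻¹ = _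
      rw [ih, pow_succ']
      group
  have hσ5 : σ ^ 5 ^ k = 1 := Equiv.ext fun x => Subtype.ext (by
    rw [hσ, ← map_pow, hw, map_one]; simp)
  have hmod := Equiv.Perm.card_compl_support_modEq hσ5
  set Cw := S' ⊓ Subgroup.centralizer ({π w} : Set _) with hCw
  have hfix : σ.supportᶜ.card = Nat.card ↥Cw := by
    have e : (σ.supportᶜ : Finset ↥S') = Finset.univ.filter fun x => x.1 ∈ Subgroup.centralizer ({π w} : Set _) := by
      ext x
      simp only [Finset.mem_compl, Equiv.Perm.mem_support, not_not, Finset.mem_filter, Finset.mem_univ, true_and,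
        Subgroup.mem_centralizer_singleton_iff]
      constructor
      · intro h
        have h' : π w * x.1 * (π w)⁻¹ = x.1 := congrArg Subtype.val h
        exact (mul_inv_eq_iff_eq_mul.1 h').symm
      · intro h
        refine Subtype.ext ?_
        show π w * x.1 * (π w)⁻¹ = x.1
        rw [← h, mul_inv_cancel_right]
    rw [e, Nat.card_congr ((Subgroup.subgroupOfEquivOfLe (inf_le_left : Cw ≤ S')).symm.toEquiv),
      Nat.card_eq_fintype_card, Fintype.card_subtype]
    refine congrArg Finset.card (Finset.filter_congr fun x _ => ?_)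
    rw [Subgroup.mem_subgroupOf, Subgroup.mem_inf]
    exact ⟨fun h => ⟨x.2, h⟩, fun h => h.2⟩
  obtain ⟨i, hi, hie⟩ := (Nat.dvd_prime_pow hn).1 (hj ▸ Subgroup.card_dvd_of_le (inf_le_left : Cw ≤ S'))
  have hij : i = j := by
    have hj2 : j ≤ 2 := by
      by_contra hj3
      have : n ^ 3 ≤ n ^ j := Nat.pow_le_pow_right hn.pos (by omega)
      rw [← hj] at this
      have h8 : n * n * 2 ≤ n ^ 3 := by rw [pow_succ, pow_two]; exact Nat.mul_le_mul_left _ hn.two_le
      have := hn.two_le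
      nlinarith
    rw [hfix, hie, ← Nat.card_eq_fintype_card, hj] at hmod
    have h2 := hn.two_le
    interval_cases n <;> interval_cases j <;> interval_cases i <;> first | rfl | exact absurd hmod (by decide)
  have hall : Cw = S' := Subgroup.eq_of_le_of_card_ge inf_le_left (by rw [hie, hij, ← hj])
  intro s hs
  have hm : π s ∈ Cw := hall ▸ ⟨s, hs, rfl⟩
  rw [hCw, Subgroup.mem_inf, Subgroup.mem_centralizer_singleton_iff] at hm
  obtain ⟨z, hz⟩ := hker (w * s) (s * w) (by rw [map_mul, map_mul]; exact hm.2.symm)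
  rw [Units.val_mul, Units.val_mul] at hz
  have hzn := hdetc w s z hz
  have h2 : ∀ m : ℕ, (w : Matrix (Fin n) (Fin n) F) ^ m * s = z ^ m • ((s : Matrix (Fin n) (Fin n) F) * (w : Matrix (Fin n) (Fin n) F) ^ m) := by
    intro m
    induction m with
    | zero => simp
    | succ m ih =>
      rw [pow_succ, Matrix.mul_assoc, hz, Matrix.mul_smul, ← Matrix.mul_assoc, ih, Matrix.smul_mul, smul_smul,
        Matrix.mul_assoc, pow_succ' z]
  have h3 := h2 (5 ^ k)
  rw [← Units.val_pow_eq_pow_val, hw, Units.val_one, Matrix.one_mul, Matrix.mul_one] at h3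
  have hz5 : z ^ 5 ^ k = 1 := by
    haveI : Nonempty (Fin n) := ⟨⟨0, hn.pos⟩⟩
    have e' : ((1 : F) - z ^ 5 ^ k) • (s : Matrix (Fin n) (Fin n) F) = 0 := by rw [sub_smul, one_smul, ← h3, sub_self]
    exact (sub_eq_zero.1 ((smul_eq_zero.1 e').resolve_right s.ne_zero)).symm
  have hco : Nat.Coprime n (5 ^ k) := by
    refine Nat.Coprime.pow_right k ?_
    have := hn.two_le
    rcases (show n = 2 ∨ n = 3 by omega) with rfl | rfl <;> norm_num
  rw [eq_one_of_coprime hco hzn hz5, one_smul] at hz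
  exact Units.ext hz

/-- Soluble groups normalised by a set of five-elements with scalar commutant are scalar, if abelian ones are. -/
theorem soluble_scalar (hn : n.Prime) (hn4 : n ≤ 3) (L : Set (GL (Fin n) F))
    (hL5 : ∀ l ∈ L, ∃ k : ℕ, l ^ 5 ^ k = 1)
    (hL : ∀ M : Matrix (Fin n) (Fin n) F, (∀ l ∈ L, M * (l : Matrix (Fin n) (Fin n) F) = (l : Matrix (Fin n) (Fin n) F) * M) →
      IsScal M)
    (Ok : Subgroup (GL (Fin n) F) → Prop) (hok : ∀ S T, Ok S → T ≤ S → Ok T)
    (habel : ∀ S : Subgroup (GL (Fin n) F), Ok S → (∀ s ∈ S, ∀ t ∈ S, s * t = t * s) →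
      (∀ l ∈ L, ∀ s ∈ S, l * s * l⁻¹ ∈ S) → ∀ s ∈ S, IsScal (s : Matrix (Fin n) (Fin n) F))
    (S : Subgroup (GL (Fin n) F)) (hS : Ok S) (hsol : Group.IsSolvable ↥S) (hSL : ∀ l ∈ L, ∀ s ∈ S, l * s * l⁻¹ ∈ S) :
    ∀ s ∈ S, IsScal (s : Matrix (Fin n) (Fin n) F) := by
  classical
  induction hc : Nat.card ↥S using Nat.strong_induction_on generalizing S with
  | _ N ih =>
    subst hc
    by_cases htriv : S = ⊥
    · intro s hs
      rw [htriv, Subgroup.mem_bot] at hs
      exact ⟨1, by rw [hs, one_smul]; rfl⟩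
    haveI : Nontrivial ↥S := (Subgroup.nontrivial_iff_ne_bot S).2 htriv
    haveI := hsol
    set D := (commutator ↥S).map S.subtype with hD
    have hDS : D ≤ S := Subgroup.map_subtype_le _
    have hlt : D < S := by
      refine lt_of_le_of_ne hDS fun e => (Group.IsSolvable.commutator_lt_top_of_nontrivial ↥S).ne ?_
      refine Subgroup.map_injective S.subtype_injective ?_
      rw [← hD, e, ← MonoidHom.range_eq_map, Subgroup.range_subtype]
    have hDn : ∀ l ∈ L, ∀ d ∈ D, l * d * l⁻¹ ∈ D := by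
      intro l hl d hd
      rw [hD, Subgroup.map_subtype_commutator] at hd ⊢
      induction hd using Subgroup.closure_induction with
      | mem x hx =>
        obtain ⟨a, ha, b, hb, rfl⟩ := hx
        rw [show l * ⁅a, b⁆ * l⁻¹ = ⁅l * a * l⁻¹, l * b * l⁻¹⁆ by simp [commutatorElement_def]; group]
        exact Subgroup.commutator_mem_commutator (hSL l hl a ha) (hSL l hl b hb)
      | one => rw [mul_one, mul_inv_cancel]; exact one_mem _
      | mul x y _ _ hx hy => rw [show l * (x * y) * l⁻¹ = l * x * l⁻¹ * (l * y * l⁻¹) by group]; exact mul_mem hx hy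
      | inv x _ hx => rw [show l * x⁻¹ * l⁻¹ = (l * x * l⁻¹)⁻¹ by group]; exact inv_mem hx
    have hDsol : Group.IsSolvable ↥D := solvable_of_solvable_injective (Subgroup.inclusion_injective hDS)
    have hDscal : ∀ d ∈ D, IsScal (d : Matrix (Fin n) (Fin n) F) := ih _ (by
      haveI : Finite ↥S := inferInstance
      have := Set.Finite.card_lt_card (Set.toFinite (S : Set (GL (Fin n) F))) (SetLike.coe_ssubset_coe.2 hlt)
      exact this) D (hok S D hS hDS) hDsol hDn rfl
    have hcomm : ∀ s ∈ S, ∀ t ∈ S, ∃ ζ : F,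
        (s : Matrix (Fin n) (Fin n) F) * t = ζ • ((t : Matrix (Fin n) (Fin n) F) * s) := by
      intro s hs t ht
      obtain ⟨ζ, hζ⟩ := hDscal (s * t * s⁻¹ * t⁻¹) (by
        rw [hD, Subgroup.map_subtype_commutator]
        exact Subgroup.commutator_mem_commutator hs ht)
      refine ⟨ζ, ?_⟩
      rw [← Units.val_mul, ← Units.val_mul, show s * t = s * t * s⁻¹ * t⁻¹ * (t * s) by group, Units.val_mul, hζ,
        Matrix.smul_mul, Matrix.one_mul]
    set Z := S ⊓ Subgroup.centralizer (S : Set (GL (Fin n) F)) with hZ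
    have hcen : ∀ s ∈ S, (∀ t ∈ S, s * t = t * s) → IsScal (s : Matrix (Fin n) (Fin n) F) := by
      intro s hs hst
      refine habel Z (hok S Z hS inf_le_left) (fun a ha b hb => ((Subgroup.mem_inf.1 ha).2 b (Subgroup.mem_inf.1 hb).1).symm)
        (fun l hl a ha => ?_) s (Subgroup.mem_inf.2 ⟨hs, fun t ht => (hst t ht).symm⟩)
      refine Subgroup.mem_inf.2 ⟨hSL l hl a (Subgroup.mem_inf.1 ha).1, fun t ht => ?_⟩
      obtain ⟨k, hk⟩ := hL5 l hl
      have hinv : ∀ m : ℕ, ∀ x ∈ S, l ^ m * x * (l ^ m)⁻¹ ∈ S := by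
        intro m
        induction m with
        | zero => intro x hx; simpa using hx
        | succ m ihm =>
          intro x hx
          rw [pow_succ', show l * l ^ m * x * (l * l ^ m)⁻¹ = l * (l ^ m * x * (l ^ m)⁻¹) * l⁻¹ by group]
          exact hSL l hl _ (ihm x hx)
      have ht' : l⁻¹ * t * l ∈ S := by
        have := hinv (5 ^ k - 1) t ht
        have e : l ^ (5 ^ k - 1) = l⁻¹ := eq_inv_of_mul_eq_one_left (by
          rw [← pow_succ, Nat.sub_add_cancel (Nat.one_le_pow _ _ (by norm_num)), hk])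
        rwa [e, inv_inv] at this
      have e := (Subgroup.mem_inf.1 ha).2 _ ht'
      calc t * (l * a * l⁻¹) = l * ((l⁻¹ * t * l) * a) * l⁻¹ := by group
        _ = l * (a * (l⁻¹ * t * l)) * l⁻¹ := by rw [e]
        _ = _ := by group
    intro s hs
    refine hL _ fun l hl => ?_
    obtain ⟨k, hk⟩ := hL5 l hl
    exact (congrArg Units.val (five_centralises hn hn4 S hcomm hcen l k hk (hSL l hl) s hs)).symm

end General

section Two

/-- Two traceless plane matrices commute only if they are proportional. -/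
theorem prop_of_comm_traceless {A B : Matrix (Fin 2) (Fin 2) F} (hA : A ≠ 0) (htA : A 0 0 + A 1 1 = 0)
    (htB : B 0 0 + B 1 1 = 0) (h2 : (2 : F) ≠ 0) (e : A * B = B * A) : ∃ α : F, B = α • A := by
  have a11 : A 1 1 = -A 0 0 := by linear_combination htA
  have b11 : B 1 1 = -B 0 0 := by linear_combination htB
  have e00 := congrFun (congrFun e 0) 0
  have e01 := congrFun (congrFun e 0) 1
  have e10 := congrFun (congrFun e 1) 0
  simp only [Matrix.mul_apply, Fin.sum_univ_two, a11, b11] at e00 e01 e10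
  have c1 : A 0 1 * B 1 0 = B 0 1 * A 1 0 := by linear_combination e00
  have c2 : A 0 0 * B 0 1 = B 0 0 * A 0 1 :=
    mul_left_cancel₀ h2 (by linear_combination e01)
  have c3 : A 0 0 * B 1 0 = B 0 0 * A 1 0 :=
    mul_left_cancel₀ h2 (by linear_combination -e10)
  by_cases h0 : A 0 0 = 0
  · by_cases h1 : A 0 1 = 0
    · have h10 : A 1 0 ≠ 0 := fun h => hA (by ext i j; fin_cases i <;> fin_cases j <;> simp [h0, h1, h, a11])
      refine ⟨B 1 0 / A 1 0, ?_⟩
      have b01 : B 0 1 = 0 := (mul_eq_zero.1 (by linear_combination -c1 + B 1 0 * h1 : B 0 1 * A 1 0 = 0)).resolve_right h10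
      have b00 : B 0 0 = 0 := (mul_eq_zero.1 (by linear_combination -c3 + B 1 0 * h0 : B 0 0 * A 1 0 = 0)).resolve_right h10
      ext i j
      fin_cases i <;> fin_cases j <;> simp [h0, h1, a11, b11, b01, b00, h10]
    · refine ⟨B 0 1 / A 0 1, ?_⟩
      have b00 : B 0 0 = 0 := (mul_eq_zero.1 (by linear_combination -c2 + B 0 1 * h0 : B 0 0 * A 0 1 = 0)).resolve_right h1
      ext i j
      fin_cases i <;> fin_cases j <;> simp [h0, a11, b11, b00, h1]
      field_simp
      linear_combination c1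
  · refine ⟨B 0 0 / A 0 0, ?_⟩
    ext i j
    fin_cases i <;> fin_cases j <;> simp [a11, b11, h0] <;> field_simp <;>
      first | linear_combination c2 | linear_combination c3 | linear_combination -c2 | linear_combination -c3

variable [Finite F]

/-- An abelian two-group of the plane normalised by a non-abelian set of five-elements is scalar. -/
theorem abelian_two_scalar (h2 : (2 : F) ≠ 0) (L : Set (GL (Fin 2) F)) (hL5 : ∀ l ∈ L, ∃ k : ℕ, l ^ 5 ^ k = 1)
    (hL : ∃ a ∈ L, ∃ b ∈ L, a * b ≠ b * a) (S : Subgroup (GL (Fin 2) F)) (hS : IsPGroup 2 ↥S)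
    (hab : ∀ s ∈ S, ∀ t ∈ S, s * t = t * s) (hSL : ∀ l ∈ L, ∀ s ∈ S, l * s * l⁻¹ ∈ S) :
    ∀ s ∈ S, IsScal (s : Matrix (Fin 2) (Fin 2) F) := by
  intro s hs
  by_contra hns
  set A : Matrix (Fin 2) (Fin 2) F := (s : Matrix (Fin 2) (Fin 2) F) with hA
  set A0 : Matrix (Fin 2) (Fin 2) F := (2 : F) • A - A.trace • 1 with hA0
  have ht0 : A0 0 0 + A0 1 1 = 0 := by
    simp [hA0, Matrix.trace, Fin.sum_univ_two]; ring
  have hA0ne : A0 ≠ 0 := fun e => hns ⟨A.trace / 2, by
    have e' : (2 : F) • A = A.trace • (1 : Matrix (Fin 2) (Fin 2) F) := sub_eq_zero.1 e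
    calc A = (2 : F)⁻¹ • ((2 : F) • A) := by rw [smul_smul, inv_mul_cancel₀ h2, one_smul]
      _ = _ := by rw [e', smul_smul, div_eq_inv_mul]⟩
  set d : F := A0 0 0 * A0 0 0 + A0 0 1 * A0 1 0 with hd
  have hsq : A0 * A0 = d • 1 := by
    have a11 : A0 1 1 = -A0 0 0 := by linear_combination ht0
    ext i j
    fin_cases i <;> fin_cases j <;> simp [Matrix.mul_apply, Fin.sum_univ_two, hd, a11] <;> ring
  have hd0 : d ≠ 0 := fun e => by
    rw [e, zero_smul] at hsq
    obtain ⟨m, hm⟩ := hS ⟨s, hs⟩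
    have hpow : ∀ k : ℕ, ((2 : F) • A) ^ k =
        (A.trace ^ k) • (1 : Matrix (Fin 2) (Fin 2) F) + ((k : F) * A.trace ^ (k - 1)) • A0 := by
      intro k
      induction k with
      | zero => simp
      | succ k ih =>
        rw [pow_succ, ih, show (2 : F) • A = A.trace • 1 + A0 by rw [hA0, add_sub_cancel]]
        simp only [add_mul, mul_add, Matrix.smul_mul, Matrix.mul_smul, Matrix.one_mul, Matrix.mul_one, smul_smul, hsq,
          smul_zero, add_zero]
        rcases Nat.eq_zero_or_pos k with rfl | hk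
        · simp
        · obtain ⟨j, rfl⟩ : ∃ j, k = j + 1 := ⟨k - 1, by omega⟩
          simp only [Nat.add_sub_cancel, pow_succ]
          push_cast
          module
    have h1 : A ^ (2 ^ m) = 1 := by
      rw [hA, ← Units.val_pow_eq_pow_val, ← Units.val_one]
      exact congrArg (fun x : ↥S => ((x : GL (Fin 2) F) : Matrix (Fin 2) (Fin 2) F)) hm
    have h3 := hpow (2 ^ m)
    rw [smul_pow, h1] at h3
    have hA0s : (((2 ^ m : ℕ) : F) * A.trace ^ (2 ^ m - 1)) • A0 =
        ((2 : F) ^ (2 ^ m) - A.trace ^ (2 ^ m)) • (1 : Matrix (Fin 2) (Fin 2) F) := by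
      rw [sub_smul, h3, add_sub_cancel_left]
    have hns0 : ∀ a b : F, a • A0 = b • (1 : Matrix (Fin 2) (Fin 2) F) → a = 0 := by
      intro a b e
      have e2 := congrArg (fun M => M * A0) e
      simp only [Matrix.smul_mul, Matrix.one_mul, hsq, smul_zero] at e2
      have hb : b = 0 := (smul_eq_zero.1 e2.symm).resolve_right hA0ne
      rw [hb, zero_smul] at e
      exact (smul_eq_zero.1 e).resolve_right hA0ne
    have h4 := hns0 _ _ hA0s
    rw [Nat.cast_pow, Nat.cast_ofNat, mul_eq_zero] at h4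
    have htr : A.trace = 0 := (pow_eq_zero_iff'.1 (h4.resolve_left (pow_ne_zero m h2))).1
    rw [htr, zero_smul, sub_zero] at hA0
    have hdA := congrArg Matrix.det hsq
    rw [hA0, det_mul, det_smul, det_zero, mul_self_eq_zero] at hdA
    exact mul_ne_zero (pow_ne_zero _ h2) ((Matrix.isUnit_iff_isUnit_det _).1 s.isUnit).ne_zero hdA
  have hcomm : ∀ l ∈ L, (l : Matrix (Fin 2) (Fin 2) F) * A0 = A0 * (l : Matrix (Fin 2) (Fin 2) F) := by
    intro l hl
    obtain ⟨k, hk⟩ := hL5 l hl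
    set B : Matrix (Fin 2) (Fin 2) F := ((l * s * l⁻¹ : GL (Fin 2) F) : Matrix (Fin 2) (Fin 2) F) with hB
    set B0 : Matrix (Fin 2) (Fin 2) F := (2 : F) • B - B.trace • 1 with hB0
    have htB : B0 0 0 + B0 1 1 = 0 := by simp [hB0, Matrix.trace, Fin.sum_univ_two]; ring
    have hAB : A * B = B * A := by
      rw [hA, hB, ← Units.val_mul, ← Units.val_mul, hab s hs _ (hSL l hl s hs)]
    have hAB0 : A0 * B0 = B0 * A0 := by
      rw [hA0, hB0]
      simp only [sub_mul, mul_sub, Matrix.smul_mul, Matrix.mul_smul, Matrix.one_mul, Matrix.mul_one, smul_smul, hAB]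
      module
    obtain ⟨α, hα⟩ := prop_of_comm_traceless hA0ne ht0 htB h2 hAB0
    have hconjA : (l : Matrix (Fin 2) (Fin 2) F) * A0 = α • (A0 * (l : Matrix (Fin 2) (Fin 2) F)) := by
      have htr : B.trace = A.trace := by
        rw [hB, Units.val_mul, Units.val_mul, Matrix.trace_mul_cycle, Units.inv_mul, Matrix.one_mul]
      rw [← Matrix.smul_mul, ← hα, hB0, hA0, htr, hB, Units.val_mul, Units.val_mul]
      simp only [Matrix.mul_sub, Matrix.sub_mul, Matrix.mul_smul, Matrix.smul_mul, Matrix.mul_one, Matrix.one_mul,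
        Matrix.mul_assoc, Units.inv_mul]
      rfl
    have hα2 : α * α = 1 := by
      have e1 : (l : Matrix (Fin 2) (Fin 2) F) * (A0 * A0) = (α * α) • ((A0 * A0) * (l : Matrix (Fin 2) (Fin 2) F)) := by
        rw [← Matrix.mul_assoc, hconjA, Matrix.smul_mul, Matrix.mul_assoc, hconjA, Matrix.mul_smul, smul_smul,
          ← Matrix.mul_assoc]
      rw [hsq, Matrix.mul_smul, Matrix.smul_mul, Matrix.mul_one, Matrix.one_mul, smul_smul] at e1
      have e2 : (α * α * d - d) • (l : Matrix (Fin 2) (Fin 2) F) = 0 := by rw [sub_smul, ← e1, sub_self]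
      exact mul_right_cancel₀ hd0 (by rw [one_mul]; exact sub_eq_zero.1 ((smul_eq_zero.1 e2).resolve_right l.ne_zero))
    have hpow : ∀ m : ℕ, (l : Matrix (Fin 2) (Fin 2) F) ^ m * A0 = α ^ m • (A0 * (l : Matrix (Fin 2) (Fin 2) F) ^ m) := by
      intro m
      induction m with
      | zero => simp
      | succ m ih =>
        rw [pow_succ, Matrix.mul_assoc, hconjA, Matrix.mul_smul, ← Matrix.mul_assoc, ih, Matrix.smul_mul, smul_smul,
          Matrix.mul_assoc, pow_succ' α]
    have h5 := hpow (5 ^ k)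
    rw [← Units.val_pow_eq_pow_val, hk, Units.val_one, Matrix.one_mul, Matrix.mul_one] at h5
    have hα5 : α ^ 5 ^ k = 1 := by
      have e2 : ((1 : F) - α ^ 5 ^ k) • A0 = 0 := by rw [sub_smul, one_smul, ← h5, sub_self]
      exact (sub_eq_zero.1 ((smul_eq_zero.1 e2).resolve_right hA0ne)).symm
    rw [hconjA, eq_one_of_coprime (Nat.Coprime.pow_right k (by norm_num : Nat.Coprime 2 5))
      (by rw [pow_two]; exact hα2) hα5, one_smul]
  obtain ⟨a, ha, b, hb, hne⟩ := hL
  refine hne (Units.ext ?_)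
  show (a : Matrix (Fin 2) (Fin 2) F) * b = (b : Matrix (Fin 2) (Fin 2) F) * a
  set a0 : Matrix (Fin 2) (Fin 2) F := (2 : F) • (a : Matrix (Fin 2) (Fin 2) F) - (a : Matrix (Fin 2) (Fin 2) F).trace • 1
  set b0 : Matrix (Fin 2) (Fin 2) F := (2 : F) • (b : Matrix (Fin 2) (Fin 2) F) - (b : Matrix (Fin 2) (Fin 2) F).trace • 1
  obtain ⟨x, hx⟩ := prop_of_comm_traceless (B := a0) hA0ne ht0 (by simp [a0, Matrix.trace, Fin.sum_univ_two]; ring) h2 (by
    simp only [a0, Matrix.mul_sub, Matrix.sub_mul, Matrix.mul_smul, Matrix.smul_mul, Matrix.mul_one, Matrix.one_mul, hcomm a ha])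
  obtain ⟨y, hy⟩ := prop_of_comm_traceless (B := b0) hA0ne ht0 (by simp [b0, Matrix.trace, Fin.sum_univ_two]; ring) h2 (by
    simp only [b0, Matrix.mul_sub, Matrix.sub_mul, Matrix.mul_smul, Matrix.smul_mul, Matrix.mul_one, Matrix.one_mul, hcomm b hb])
  have hab0 : a0 * b0 = b0 * a0 := by rw [hx, hy]; simp only [Matrix.smul_mul, Matrix.mul_smul, smul_smul, mul_comm]
  simp only [a0, b0, Matrix.mul_sub, Matrix.sub_mul, Matrix.mul_smul, Matrix.smul_mul, Matrix.mul_one, Matrix.one_mul,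
    smul_sub, smul_smul] at hab0
  have h4 : (2 * 2 : F) • ((a : Matrix (Fin 2) (Fin 2) F) * b) = (2 * 2 : F) • ((b : Matrix (Fin 2) (Fin 2) F) * a) := by
    linear_combination (norm := module) hab0
  exact smul_right_injective _ (mul_ne_zero h2 h2) h4

end Two

section Three

variable {ω : F}

/-- The diagonal five-element of the three-space. -/
def wT (ω : F) : Matrix (Fin 3) (Fin 3) F := diagonal ![1, ω, ω ^ 4]

/-- The exponents of `wT`. -/
def ex : Fin 3 → ℕ := ![0, 1, 4]

theorem ex_inj : ∀ i j : Fin 3, ex i % 5 = ex j % 5 → i = j := by decide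

theorem fin3_cases : ∀ l i : Fin 3, l ≠ i → l = i + 1 ∨ l = i + 2 := by decide

theorem fin3_one : ∀ i : Fin 3, i ≠ i + 1 := by decide

theorem fin3_two : ∀ i : Fin 3, i ≠ i + 2 := by decide

theorem wt_ne_zero : ∀ i j : Fin 3, i ≠ j → (ex i + 4 * ex j) % 5 ≠ 0 := by decide

theorem wt_chain : ∀ a b c d : Fin 3, (ex a + 4 * ex b) % 5 = (ex b + 4 * ex c) % 5 →
    (ex a + 4 * ex b) % 5 = (ex c + 4 * ex d) % 5 → (ex a + 4 * ex b) % 5 ≠ 0 → False := by decide

theorem wT_eq (ω : F) : (wT ω : Matrix (Fin 3) (Fin 3) F) = diagonal fun i => ω ^ ex i := by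
  refine congrArg diagonal (funext fun i => ?_)
  fin_cases i <;> simp [ex]

/-- The Fourier block of the three-space. -/
noncomputable def fT (ω : F) : Matrix (Fin 3) (Fin 3) F :=
  fcoef ω • !![1, 2, 2; 1, ω + ω ^ 4, ω ^ 2 + ω ^ 3; 1, ω ^ 2 + ω ^ 3, ω + ω ^ 4]

/-- The conjugate five-element of the three-space. -/
noncomputable def vT (ω : F) : Matrix (Fin 3) (Fin 3) F := fT ω * wT ω * fT ω

variable [NeZero (2 : F)] (h : Root ω)
include h

theorem fT_sq : (fT ω : Matrix (Fin 3) (Fin 3) F) * fT ω = 1 := by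
  rw [fT, ← bp_Fm h, ← bp_mul h.two_ne (Fm_comm h), Fm_sq h, bp, Matrix.mul_assoc, Jm_Ep h.two_ne, Lp_Ep h.two_ne]

theorem fT_entry (i j : Fin 3) : (fT ω : Matrix (Fin 3) (Fin 3) F) i j ≠ 0 := by
  have h14 : ω + ω ^ 4 ≠ 0 := fun e => by
    have := h.eq; have := h.pow_five; have := h.five_ne; have := h.two_ne; grind
  have h23 : ω ^ 2 + ω ^ 3 ≠ 0 := fun e => by
    have := h.eq; have := h.pow_five; have := h.five_ne; have := h.two_ne; grind
  rw [fT, Matrix.smul_apply, smul_eq_mul]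
  refine mul_ne_zero (fcoef_ne_zero h) ?_
  fin_cases i <;> fin_cases j <;> simp [h.two_ne, h14, h23]

theorem diag_of_comm_wT {M : Matrix (Fin 3) (Fin 3) F} (e : M * wT ω = wT ω * M) : ∀ i j, i ≠ j → M i j = 0 := by
  intro i j hij
  have e' := congrFun (congrFun e i) j
  rw [wT_eq, mul_diagonal, diagonal_mul] at e'
  have hne : ω ^ ex j - ω ^ ex i ≠ 0 := sub_ne_zero.2 fun e => hij (ex_inj _ _ (h.pow_inj e)).symm
  exact (mul_eq_zero.1 (by linear_combination e' : (ω ^ ex j - ω ^ ex i) * M i j = 0)).resolve_left hne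

theorem scal_of_two_diag {M : Matrix (Fin 3) (Fin 3) F} (h1 : ∀ i j, i ≠ j → M i j = 0)
    (h2 : ∀ i j, i ≠ j → (fT ω * M * fT ω) i j = 0) : IsScal M := by
  set N : Matrix (Fin 3) (Fin 3) F := fT ω * M * fT ω with hN
  have e : fT ω * M = N * fT ω := by rw [hN, Matrix.mul_assoc (fT ω * M), fT_sq h, Matrix.mul_one]
  have hkey : ∀ i j, M j j = N i i := by
    intro i j
    have e' := congrFun (congrFun e i) j
    rw [Matrix.mul_apply, Matrix.mul_apply, Finset.sum_eq_single j (fun b _ hb => by rw [h1 b j hb, mul_zero]) (by simp),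
      Finset.sum_eq_single i (fun b _ hb => by rw [h2 i b (Ne.symm hb), zero_mul]) (by simp)] at e'
    exact mul_right_cancel₀ (fT_entry h i j) (by linear_combination e')
  refine ⟨M 0 0, ?_⟩
  ext i j
  by_cases hij : i = j
  · subst hij; simp [hkey 0 i, hkey 0 0]
  · simp [h1 i j hij, hij]

theorem commutant_three {M : Matrix (Fin 3) (Fin 3) F} (e1 : M * wT ω = wT ω * M) (e2 : M * vT ω = vT ω * M) :
    IsScal M := by
  refine scal_of_two_diag h (diag_of_comm_wT h e1) (diag_of_comm_wT h ?_)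
  have e3 : M * (fT ω * wT ω) = fT ω * wT ω * (fT ω * (M * fT ω)) := by
    have := congrArg (· * fT ω) e2
    simp only [vT, Matrix.mul_assoc, fT_sq h, Matrix.mul_one] at this
    simp only [Matrix.mul_assoc]
    exact this
  calc fT ω * M * fT ω * wT ω = fT ω * (M * (fT ω * wT ω)) := by simp only [Matrix.mul_assoc]
    _ = (fT ω * fT ω) * wT ω * (fT ω * (M * fT ω)) := by rw [e3]; simp only [Matrix.mul_assoc]
    _ = wT ω * (fT ω * M * fT ω) := by rw [fT_sq h, Matrix.one_mul]; simp only [Matrix.mul_assoc]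

theorem irred_three {K : Submodule F (Fin 3 → F)} (hK : K ≠ ⊥) (hw : ∀ x ∈ K, wT ω *ᵥ x ∈ K)
    (hv : ∀ x ∈ K, vT ω *ᵥ x ∈ K) : K = ⊤ := by
  -- coordinate vectors
  have hcoord : ∀ K : Submodule F (Fin 3 → F), (∀ x ∈ K, wT ω *ᵥ x ∈ K) → ∀ x ∈ K, ∀ i, x i ≠ 0 → Pi.single i 1 ∈ K := by
    intro K hw x hx i hxi
    have hT : ∀ (c : F), ∀ y ∈ K, (wT ω *ᵥ y - c • y) ∈ K := fun c y hy => K.sub_mem (hw y hy) (K.smul_mem c hy)
    set a := ω ^ ex (i + 1)
    set b := ω ^ ex (i + 2)
    have hmem := hT b _ (hT a x hx)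
    have e : wT ω *ᵥ (wT ω *ᵥ x - a • x) - b • (wT ω *ᵥ x - a • x) =
        ((ω ^ ex i - a) * (ω ^ ex i - b) * x i) • Pi.single i (1 : F) := by
      funext l
      simp only [wT_eq, Pi.sub_apply, Pi.smul_apply, Matrix.mulVec_diagonal, smul_eq_mul]
      by_cases hl : l = i
      · subst hl; rw [Pi.single_eq_same]; ring
      · rw [Pi.single_eq_of_ne hl]
        obtain rfl | rfl : l = i + 1 ∨ l = i + 2 := fin3_cases l i hl
        · simp only [a]; ring
        · simp only [b]; ring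
    rw [e] at hmem
    have hne : ∀ j k : Fin 3, j ≠ k → ω ^ ex j - ω ^ ex k ≠ 0 := fun j k hjk =>
      sub_ne_zero.2 fun e => hjk (ex_inj _ _ (h.pow_inj e))
    exact (K.smul_mem_iff (mul_ne_zero (mul_ne_zero (hne i _ (fin3_one i)) (hne i _ (fin3_two i))) hxi)).1 hmem
  obtain ⟨x, hx, hx0⟩ := Submodule.exists_mem_ne_zero_of_ne_bot hK
  obtain ⟨i, hi⟩ := Function.ne_iff.1 hx0
  have hei := hcoord K hw x hx i hi
  set K' := K.map (Matrix.toLin' (fT ω)) with hK'
  have hw' : ∀ y ∈ K', wT ω *ᵥ y ∈ K' := by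
    rintro _ ⟨z, hz, rfl⟩
    refine ⟨vT ω *ᵥ z, hv z hz, ?_⟩
    simp only [Matrix.toLin'_apply, Matrix.mulVec_mulVec, vT]
    rw [← Matrix.mul_assoc, ← Matrix.mul_assoc, fT_sq h, Matrix.one_mul]
  have hall : ∀ j, Pi.single j 1 ∈ K' := fun j => by
    refine hcoord K' hw' (fT ω *ᵥ Pi.single i 1) ⟨_, hei, Matrix.toLin'_apply _ _⟩ j ?_
    rw [Matrix.mulVec_single_one]
    exact fT_entry h j i
  refine Submodule.eq_top_iff'.2 fun y => ?_
  have hy : fT ω *ᵥ y ∈ K' := by
    rw [pi_eq_sum_univ' (fT ω *ᵥ y)]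
    exact K'.sum_mem fun j _ => K'.smul_mem _ (hall j)
  obtain ⟨z, hz, hze⟩ := hy
  rw [Matrix.toLin'_apply] at hze
  have := congrArg (fT ω *ᵥ ·) hze
  simp only [Matrix.mulVec_mulVec, fT_sq h, Matrix.one_mulVec] at this
  exact this ▸ hz

variable [Finite F]

theorem abelian_three_scalar (W V : GL (Fin 3) F) (hW : (W : Matrix (Fin 3) (Fin 3) F) = wT ω)
    (hV : (V : Matrix (Fin 3) (Fin 3) F) = vT ω) (S : Subgroup (GL (Fin 3) F))
    (hab : ∀ s ∈ S, ∀ t ∈ S, s * t = t * s) (hSW : ∀ s ∈ S, W * s * W⁻¹ ∈ S) (hSV : ∀ s ∈ S, V * s * V⁻¹ ∈ S) :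
    ∀ s ∈ S, IsScal (s : Matrix (Fin 3) (Fin 3) F) := by
  classical
  -- the algebra spanned by the group
  set A : Submodule F (Matrix (Fin 3) (Fin 3) F) := Submodule.span F (Units.val '' (S : Set (GL (Fin 3) F))) with hA
  have hAcomm : ∀ a ∈ A, ∀ b ∈ A, a * b = b * a := by
    intro a ha b hb
    induction ha using Submodule.span_induction with
    | mem x hx =>
      induction hb using Submodule.span_induction with
      | mem y hy =>
        obtain ⟨u, hu, rfl⟩ := hx
        obtain ⟨v, hv, rfl⟩ := hy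
        rw [← Units.val_mul, ← Units.val_mul, hab u hu v hv]
      | zero => simp
      | add y z _ _ hy hz => rw [Matrix.mul_add, Matrix.add_mul, hy, hz]
      | smul c y _ hy => rw [Matrix.mul_smul, Matrix.smul_mul, hy]
    | zero => simp
    | add x z _ _ hx hz => rw [Matrix.mul_add, Matrix.add_mul, hx, hz]
    | smul c x _ hx => rw [Matrix.mul_smul, Matrix.smul_mul, hx]
  have hAconj : ∀ g : GL (Fin 3) F, (∀ s ∈ S, g * s * g⁻¹ ∈ S) → ∀ a ∈ A,
      (g : Matrix (Fin 3) (Fin 3) F) * a * ((g⁻¹ : GL (Fin 3) F) : Matrix (Fin 3) (Fin 3) F) ∈ A := by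
    intro g hg a ha
    induction ha using Submodule.span_induction with
    | mem x hx =>
      obtain ⟨u, hu, rfl⟩ := hx
      exact Submodule.subset_span ⟨_, hg u hu, by rw [Units.val_mul, Units.val_mul]⟩
    | zero => simp
    | add x z _ _ hx hz => rw [Matrix.mul_add, Matrix.add_mul]; exact A.add_mem hx hz
    | smul c x _ hx => rw [Matrix.mul_smul, Matrix.smul_mul]; exact A.smul_mem c hx
  -- no nilpotent elements
  haveI : Finite (Matrix (Fin 3) (Fin 3) F) := inferInstance
  let Nil : Set (Matrix (Fin 3) (Fin 3) F) := {a | a ∈ A ∧ IsNilpotent a}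
  have hkerex : ∀ T : Finset (Matrix (Fin 3) (Fin 3) F), (↑T : Set _) ⊆ Nil →
      ∃ x : Fin 3 → F, x ≠ 0 ∧ ∀ a ∈ T, a *ᵥ x = 0 := by
    intro T
    induction T using Finset.induction_on with
    | empty => exact fun _ => ⟨fun _ => 1, fun e => one_ne_zero (congrFun e 0), by simp⟩
    | insert a T haT ih =>
      intro hsub
      rw [Finset.coe_insert, Set.insert_subset_iff] at hsub
      obtain ⟨x, hx, hxT⟩ := ih hsub.2
      obtain ⟨k, hk⟩ := hsub.1.2
      have hex : ∃ j, a ^ j *ᵥ x = 0 := ⟨k, by rw [hk, Matrix.zero_mulVec]⟩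
      have hj : Nat.find hex ≠ 0 := fun e => hx (by
        have := Nat.find_spec hex
        rwa [e, pow_zero, Matrix.one_mulVec] at this)
      refine ⟨a ^ (Nat.find hex - 1) *ᵥ x, Nat.find_min hex (by omega), fun b hb => ?_⟩
      rw [Finset.mem_insert] at hb
      rcases hb with rfl | hb
      · rw [Matrix.mulVec_mulVec, ← pow_succ', Nat.sub_add_cancel (by omega)]
        exact Nat.find_spec hex
      · have hc : Commute b a := hAcomm b (hsub.2 (Finset.mem_coe.2 hb)).1 a hsub.1.1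
        rw [Matrix.mulVec_mulVec, (hc.pow_right _).eq, ← Matrix.mulVec_mulVec, hxT b hb, Matrix.mulVec_zero]
  let K : Submodule F (Fin 3 → F) :=
    { carrier := {x | ∀ a ∈ Nil, a *ᵥ x = 0}
      add_mem' := fun {x y} hx hy a ha => by rw [Matrix.mulVec_add, hx a ha, hy a ha, add_zero]
      zero_mem' := fun a _ => Matrix.mulVec_zero a
      smul_mem' := fun c x hx a ha => by rw [Matrix.mulVec_smul, hx a ha, smul_zero] }
  have hKne : K ≠ ⊥ := by
    obtain ⟨x, hx, hxa⟩ := hkerex (Set.toFinite Nil).toFinset (by simp)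
    exact fun e => hx ((Submodule.mem_bot F).1 (e ▸ (fun a ha => hxa a ((Set.toFinite Nil).mem_toFinset.2 ha) : x ∈ K)))
  have hKinv : ∀ g : GL (Fin 3) F, (∀ s ∈ S, g⁻¹ * s * g⁻¹⁻¹ ∈ S) →
      ∀ x ∈ K, (g : Matrix (Fin 3) (Fin 3) F) *ᵥ x ∈ K := by
    intro g hg x hx a ha
    set b := ((g⁻¹ : GL (Fin 3) F) : Matrix (Fin 3) (Fin 3) F) * a * (g : Matrix (Fin 3) (Fin 3) F) with hb
    have hbA : b ∈ A := by
      have := hAconj g⁻¹ hg a ha.1
      rwa [inv_inv] at this
    have hbn : IsNilpotent b := by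
      obtain ⟨k, hk⟩ := ha.2
      refine ⟨k, ?_⟩
      rw [hb, Units.conj_pow', hk, Matrix.mul_zero, Matrix.zero_mul]
    have hbx := hx b ⟨hbA, hbn⟩
    have : a *ᵥ ((g : Matrix (Fin 3) (Fin 3) F) *ᵥ x) = (g : Matrix (Fin 3) (Fin 3) F) *ᵥ (b *ᵥ x) := by
      rw [Matrix.mulVec_mulVec, Matrix.mulVec_mulVec, hb, ← Matrix.mul_assoc, ← Matrix.mul_assoc, Units.mul_inv,
        Matrix.one_mul]
    rw [this, hbx, Matrix.mulVec_zero]
  have hinvS : ∀ g : GL (Fin 3) F, (∀ s ∈ S, g * s * g⁻¹ ∈ S) → ∀ s ∈ S, g⁻¹ * s * g⁻¹⁻¹ ∈ S := by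
    intro g hg
    have hpow : ∀ m : ℕ, ∀ s ∈ S, g ^ m * s * (g ^ m)⁻¹ ∈ S := by
      intro m
      induction m with
      | zero => intro s hs; simpa using hs
      | succ m ihm =>
        intro s hs
        rw [pow_succ', show g * g ^ m * s * (g * g ^ m)⁻¹ = g * (g ^ m * s * (g ^ m)⁻¹) * g⁻¹ by group]
        exact hg _ (ihm s hs)
    intro s hs
    have e : g ^ (orderOf g - 1) = g⁻¹ := eq_inv_of_mul_eq_one_left (by
      rw [← pow_succ, Nat.sub_add_cancel (orderOf_pos g), pow_orderOf_eq_one])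
    have := hpow (orderOf g - 1) s hs
    rwa [e] at this
  have hKtop : K = ⊤ := irred_three h hKne (fun x hx => hW ▸ hKinv W (hinvS W hSW) x hx)
    (fun x hx => hV ▸ hKinv V (hinvS V hSV) x hx)
  have hnil : ∀ a ∈ A, IsNilpotent a → a = 0 := fun a ha hn => by
    refine Matrix.toLin'.injective (LinearMap.ext fun x => ?_)
    rw [Matrix.toLin'_apply, map_zero, LinearMap.zero_apply]
    exact (hKtop ▸ Submodule.mem_top : x ∈ K) a ⟨ha, hn⟩
  -- weights
  have hdiag : ∀ g : GL (Fin 3) F, (∀ s ∈ S, g * s * g⁻¹ ∈ S) → ∀ P : Matrix (Fin 3) (Fin 3) F, P * P = 1 →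
      (g : Matrix (Fin 3) (Fin 3) F) = P * wT ω * P → ∀ a ∈ A, ∀ i j, i ≠ j → (P * a * P) i j = 0 := by
    intro g hg P hP hgP a ha i j hij
    set W' : Matrix (Fin 3) (Fin 3) F := wT ω with hW'
    have hW5 : ∀ k : ℕ, W' ^ k = diagonal fun l => ω ^ (ex l * k) := fun k => by
      rw [hW', wT_eq, diagonal_pow]
      exact congrArg diagonal (funext fun l => by rw [Pi.pow_apply, ← pow_mul])
    -- conjugates by powers
    have hpow : ∀ k : ℕ, P * W' ^ k * P * a * (P * W' ^ (4 * k) * P) ∈ A := by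
      intro k
      induction k with
      | zero => rw [Nat.mul_zero, pow_zero, Matrix.mul_one, hP, Matrix.one_mul, Matrix.mul_one]; exact ha
      | succ k ihk =>
        have h4 : P * W' ^ 4 * P = ((g⁻¹ : GL (Fin 3) F) : Matrix (Fin 3) (Fin 3) F) := by
          refine (Units.eq_inv_of_mul_eq_one_left ?_)
          rw [hgP, show P * W' * P * (P * W' ^ 4 * P) = P * W' * (P * P) * W' ^ 4 * P by simp only [Matrix.mul_assoc],
            hP, Matrix.mul_one, Matrix.mul_assoc P, ← pow_succ', hW5]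
          have : (fun l => ω ^ (ex l * (4 + 1))) = fun _ : Fin 3 => (1 : F) := funext fun l => by
            rw [mul_comm, pow_mul, h.pow_five, one_pow]
          rw [this, diagonal_one, Matrix.mul_one, hP]
        have := hAconj g hg _ ihk
        rw [← h4, hgP] at this
        convert this using 1
        rw [show 4 * (k + 1) = 4 * k + 4 by ring, pow_succ' W' k, pow_add]
        simp only [Matrix.mul_assoc]
        rw [← Matrix.mul_assoc P P, hP, Matrix.one_mul, ← Matrix.mul_assoc P P (W' ^ 4 * P), hP, Matrix.one_mul]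
    set c : ℕ := (ex i + 4 * ex j) % 5 with hc
    set Q : Matrix (Fin 3) (Fin 3) F :=
      ∑ k : Fin 5, (ω ^ ((5 - c) * (k : ℕ))) • (P * W' ^ (k : ℕ) * P * a * (P * W' ^ (4 * (k : ℕ)) * P)) with hQ
    have hQA : Q ∈ A := A.sum_mem fun k _ => A.smul_mem _ (hpow k)
    have hQe : ∀ l m, (P * Q * P) l m = if 5 ∣ (5 - c + ex l + 4 * ex m) then 5 * (P * a * P) l m else 0 := by
      intro l m
      have : P * Q * P = ∑ k : Fin 5, (ω ^ ((5 - c) * (k : ℕ))) • (W' ^ (k : ℕ) * (P * a * P) * W' ^ (4 * (k : ℕ))) := by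
        rw [hQ, Matrix.mul_sum, Matrix.sum_mul]
        refine Finset.sum_congr rfl fun k _ => ?_
        rw [Matrix.mul_smul, Matrix.smul_mul]
        congr 1
        simp only [Matrix.mul_assoc]
        rw [hP, Matrix.mul_one, ← Matrix.mul_assoc P P, hP, Matrix.one_mul]
      rw [this, Matrix.sum_apply]
      simp only [Matrix.smul_apply, hW5, mul_diagonal, diagonal_mul, smul_eq_mul]
      rw [show (if 5 ∣ (5 - c + ex l + 4 * ex m) then 5 * (P * a * P) l m else 0) =
        (if 5 ∣ (5 - c + ex l + 4 * ex m) then (5 : F) else 0) * (P * a * P) l m by split_ifs <;> simp,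
        ← h.sum_pow, Finset.sum_mul]
      refine Finset.sum_congr rfl fun k _ => ?_
      ring
    have hQ3 : IsNilpotent Q := by
      refine ⟨3, ?_⟩
      set R := P * Q * P with hR
      have hQR : Q = P * R * P := by
        rw [hR]
        simp only [← Matrix.mul_assoc, hP, Matrix.one_mul]
        rw [Matrix.mul_assoc Q, hP, Matrix.mul_one]
      have hsupp : ∀ l m, R l m ≠ 0 → (ex l + 4 * ex m) % 5 = c := by
        intro l m hlm
        rw [hQe] at hlm
        split_ifs at hlm with hdv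
        · omega
        · exact absurd rfl hlm
      have hc0 : c ≠ 0 := wt_ne_zero i j hij
      have hR3 : R * R * R = 0 := by
        ext l m
        rw [Matrix.mul_apply]
        refine Finset.sum_eq_zero fun x _ => ?_
        rw [Matrix.mul_apply, Finset.sum_mul]
        refine Finset.sum_eq_zero fun y _ => ?_
        by_contra hne
        obtain ⟨hne', h3⟩ := mul_ne_zero_iff.1 hne
        obtain ⟨h1, h2⟩ := mul_ne_zero_iff.1 hne'
        have s1 := hsupp _ _ h1
        have s2 := hsupp _ _ h2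
        have s3 := hsupp _ _ h3
        exact wt_chain l y x m (s1.trans s2.symm) (s1.trans s3.symm) (by rw [s1]; exact hc0)
      rw [hQR, pow_succ, pow_two, show P * R * P * (P * R * P) * (P * R * P) = P * R * (P * P) * R * (P * P) * R * P by
        simp only [Matrix.mul_assoc], hP]
      simp only [Matrix.mul_one]
      rw [Matrix.mul_assoc P R R, Matrix.mul_assoc P (R * R) R, hR3, Matrix.mul_zero, Matrix.zero_mul]
    have h0 := hnil Q hQA hQ3
    have := hQe i j
    rw [h0, Matrix.mul_zero, Matrix.zero_mul, Matrix.zero_apply, if_pos (by omega)] at this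
    exact (mul_eq_zero.1 this.symm).resolve_left h.five_ne
  intro s hs
  have hsA : (s : Matrix (Fin 3) (Fin 3) F) ∈ A := Submodule.subset_span ⟨s, hs, rfl⟩
  refine scal_of_two_diag h (fun i j hij => ?_) (fun i j hij => hdiag V hSV (fT ω) (fT_sq h) hV _ hsA i j hij)
  simpa using hdiag W hSW 1 (one_mul 1) (by rw [hW, Matrix.one_mul, Matrix.mul_one]) _ hsA i j hij

/-- Soluble subgroups of the three-space normalised by the two five-elements are scalar. -/
theorem soluble_three_scalar (W V : GL (Fin 3) F) (hW : (W : Matrix (Fin 3) (Fin 3) F) = wT ω)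
    (hV : (V : Matrix (Fin 3) (Fin 3) F) = vT ω) (S : Subgroup (GL (Fin 3) F)) (hsol : Group.IsSolvable ↥S)
    (hSW : ∀ s ∈ S, W * s * W⁻¹ ∈ S) (hSV : ∀ s ∈ S, V * s * V⁻¹ ∈ S) :
    ∀ s ∈ S, IsScal (s : Matrix (Fin 3) (Fin 3) F) := by
  have w5 : (wT ω : Matrix (Fin 3) (Fin 3) F) ^ 5 = 1 := by
    rw [wT_eq, diagonal_pow, ← diagonal_one]
    exact congrArg diagonal (funext fun i => by rw [Pi.pow_apply, ← pow_mul, mul_comm, pow_mul, h.pow_five, one_pow])
  have hW5 : W ^ 5 ^ 1 = 1 := Units.ext (by rw [pow_one, Units.val_pow_eq_pow_val, hW, w5, Units.val_one])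
  have hV5 : V ^ 5 ^ 1 = 1 := Units.ext (by
    rw [pow_one, Units.val_pow_eq_pow_val, hV, Units.val_one, vT]
    have hf := fT_sq h
    have : ∀ k : ℕ, (fT ω * wT ω * fT ω) ^ k = fT ω * wT ω ^ k * fT ω := by
      intro k
      induction k with
      | zero => rw [pow_zero, pow_zero, Matrix.mul_one, hf]
      | succ k ih =>
        rw [pow_succ, ih, pow_succ,
          show fT ω * wT ω ^ k * fT ω * (fT ω * wT ω * fT ω) = fT ω * (wT ω ^ k * (fT ω * fT ω) * wT ω) * fT ω by
            simp only [Matrix.mul_assoc], hf, Matrix.mul_one]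
    rw [this, w5, Matrix.mul_one, hf])
  refine soluble_scalar Nat.prime_three le_rfl {W, V} ?_ (fun M hM => ?_) (fun _ => True) (fun _ _ _ _ => trivial)
    (fun S' _ hab hn => abelian_three_scalar h W V hW hV S' hab (hn W (Set.mem_insert _ _))
      (hn V (Set.mem_insert_of_mem _ rfl))) S trivial hsol ?_
  · rintro l (rfl | rfl)
    exacts [⟨1, hW5⟩, ⟨1, hV5⟩]
  · refine commutant_three h ?_ ?_
    · rw [← hW]; exact hM W (Set.mem_insert _ _)
    · rw [← hV]; exact hM V (Set.mem_insert_of_mem _ rfl)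
  · rintro l (rfl | rfl)
    exacts [hSW, hSV]

end Three

end CfsgLib.MaxSub.HeisFive
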