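/-
Overgroups of the standard normaliser and the blocks of their involution centralisers.
-/
import Cfsg.Agent.Lib.MaxSub.HeisFive.Plane
import Cfsg.Agent.Lib.MaxSub.HeisFive.Scalar

set_option autoImplicit false
set_option linter.unusedSectionVars false
set_option linter.style.haveILetI false
set_option maxHeartbeats 800000

namespace CfsgLib.MaxSub.HeisFive

open Matrix

variable {F : Type*} [Field F]

local notation "M5" => Matrix (Fin 5) (Fin 5) F
local notation "G5" => GL (Fin 5) F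

/-- The central involution of the complement as a group element. -/
def Jg : GL (Fin 5) F := ⟨Jm, Jm, Jm_sq, Jm_sq⟩

theorem Jg_val : ((Jg : G5) : M5) = Jm := rfl

theorem Jg_mul_self : (Jg : G5) * Jg = 1 := Units.ext Jm_sq

theorem Jg_inv : (Jg : G5)⁻¹ = Jg := inv_eq_of_mul_eq_one_right Jg_mul_self

/-- A group of matrices of determinant one containing the standard generators. -/
structure Over (ω : F) (H : Subgroup (GL (Fin 5) F)) : Prop where
  root : Root ω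
  det : ∀ g ∈ H, (g : Matrix (Fin 5) (Fin 5) F).det = 1
  hX : ∃ g ∈ H, (g : Matrix (Fin 5) (Fin 5) F) = Xm ω
  hY : ∃ g ∈ H, (g : Matrix (Fin 5) (Fin 5) F) = Ym
  hW : ∃ g ∈ H, (g : Matrix (Fin 5) (Fin 5) F) = Wm ω
  hF : ∃ g ∈ H, (g : Matrix (Fin 5) (Fin 5) F) = Fm ω

/-- The centraliser of the involution. -/
def cenJ (H : Subgroup (GL (Fin 5) F)) : Subgroup (GL (Fin 5) F) := H ⊓ Subgroup.centralizer {Jg}

theorem mem_cenJ {H : Subgroup (GL (Fin 5) F)} {g : G5} :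
    g ∈ cenJ H ↔ g ∈ H ∧ (Jm : M5) * (g : M5) = (g : M5) * Jm := by
  rw [cenJ, Subgroup.mem_inf, Subgroup.mem_centralizer_singleton_iff, ← Units.val_inj, Units.val_mul, Units.val_mul,
    Jg_val]
  exact and_congr_right fun _ => ⟨Eq.symm, Eq.symm⟩

variable {H : Subgroup (GL (Fin 5) F)}

theorem cenJ_comm (g : ↥(cenJ H)) : (Jm : M5) * ((g : G5) : M5) = ((g : G5) : M5) * Jm := (mem_cenJ.1 g.2).2

/-- The action on the fixed space of the involution. -/
def pA (h2 : (2 : F) ≠ 0) (H : Subgroup (GL (Fin 5) F)) : ↥(cenJ H) →* GL (Fin 3) F :=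
  MonoidHom.toHomUnits
    { toFun := fun g => bp ((g : GL (Fin 5) F) : Matrix (Fin 5) (Fin 5) F)
      map_one' := by rw [OneMemClass.coe_one, Units.val_one, bp, Matrix.mul_one, Lp_Ep h2]
      map_mul' := fun a b => by rw [Subgroup.coe_mul, Units.val_mul, bp_mul h2 (cenJ_comm b)] }

/-- The action on the negated space of the involution. -/
def pB (h2 : (2 : F) ≠ 0) (H : Subgroup (GL (Fin 5) F)) : ↥(cenJ H) →* GL (Fin 2) F :=
  MonoidHom.toHomUnits
    { toFun := fun g => bn ((g : GL (Fin 5) F) : Matrix (Fin 5) (Fin 5) F)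
      map_one' := by rw [OneMemClass.coe_one, Units.val_one, bn, Matrix.mul_one, Ln_En h2]
      map_mul' := fun a b => by rw [Subgroup.coe_mul, Units.val_mul, bn_mul h2 (cenJ_comm b)] }

section

variable (h2 : (2 : F) ≠ 0)

theorem pA_val (g : ↥(cenJ H)) : ((pA h2 H g : GL (Fin 3) F) : Matrix (Fin 3) (Fin 3) F) = bp ((g : G5) : M5) := rfl

theorem pB_val (g : ↥(cenJ H)) : ((pB h2 H g : GL (Fin 2) F) : Matrix (Fin 2) (Fin 2) F) = bn ((g : G5) : M5) := rfl

theorem blocks_inj {a b : ↥(cenJ H)} (hA : pA h2 H a = pA h2 H b) (hB : pB h2 H a = pB h2 H b) : a = b := by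
  refine Subtype.ext (Units.ext ?_)
  have eA : bp ((a : G5) : M5) = bp ((b : G5) : M5) := congrArg Units.val hA
  have eB : bn ((a : G5) : M5) = bn ((b : G5) : M5) := congrArg Units.val hB
  rw [eq_blocks h2 (cenJ_comm a), eq_blocks h2 (cenJ_comm b), eA, eB]

theorem eq_one_of_blocks {a : ↥(cenJ H)} (hA : pA h2 H a = 1) (hB : pB h2 H a = 1) : a = 1 :=
  blocks_inj h2 (by rw [hA, map_one]) (by rw [hB, map_one])

end

namespace Over

variable {ω : F} (O : Over ω H)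
include O

theorem Jg_mem : (Jg : G5) ∈ H := by
  obtain ⟨f, hf, e⟩ := O.hF
  rw [show (Jg : G5) = f * f from Units.ext (by rw [Units.val_mul, e, Fm_sq O.root]; rfl)]
  exact mul_mem hf hf

variable [NeZero (2 : F)]

theorem h2 : (2 : F) ≠ 0 := O.root.two_ne

/-- The involution in its centraliser. -/
def Jc : ↥(cenJ H) := ⟨Jg, mem_cenJ.2 ⟨O.Jg_mem, rfl⟩⟩

theorem pA_Jc : pA O.h2 H O.Jc = 1 := Units.ext (by
  show bp (Jm : M5) = 1
  rw [bp, Matrix.mul_assoc, Jm_Ep O.h2, Lp_Ep O.h2])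

theorem pB_Jc : ((pB O.h2 H O.Jc : GL (Fin 2) F) : Matrix (Fin 2) (Fin 2) F) = -1 := by
  show bn (Jm : M5) = -1
  rw [bn, Matrix.mul_assoc, Jm_En O.h2, Matrix.mul_neg, Ln_En O.h2]

theorem det_pA_pB (g : ↥(cenJ H)) :
    ((pA O.h2 H g : GL (Fin 3) F) : Matrix (Fin 3) (Fin 3) F).det *
      ((pB O.h2 H g : GL (Fin 2) F) : Matrix (Fin 2) (Fin 2) F).det = 1 := by
  rw [pA_val, pB_val, ← det_blocks O.h2 (cenJ_comm g)]
  exact O.det _ (mem_cenJ.1 g.2).1

theorem exists_W : ∃ g : ↥(cenJ H), ((g : G5) : M5) = Wm ω := by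
  obtain ⟨g, hg, e⟩ := O.hW
  exact ⟨⟨g, mem_cenJ.2 ⟨hg, by rw [e]; exact Jm_Wm O.root⟩⟩, e⟩

theorem exists_F : ∃ g : ↥(cenJ H), ((g : G5) : M5) = Fm ω := by
  obtain ⟨g, hg, e⟩ := O.hF
  exact ⟨⟨g, mem_cenJ.2 ⟨hg, by rw [e]; exact Fm_comm O.root⟩⟩, e⟩

/-- The diagonal five-element of the centraliser. -/
noncomputable def cW : ↥(cenJ H) := O.exists_W.choose

/-- The Fourier element of the centraliser. -/
noncomputable def cF : ↥(cenJ H) := O.exists_F.choose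

theorem cW_val : ((O.cW : G5) : M5) = Wm ω := O.exists_W.choose_spec

theorem cF_val : ((O.cF : G5) : M5) = Fm ω := O.exists_F.choose_spec

/-- The conjugate five-element of the centraliser. -/
noncomputable def cV : ↥(cenJ H) := O.cF * O.cW * O.cF⁻¹

theorem cW_pow : O.cW ^ 5 = 1 := Subtype.ext (Units.ext (by
  rw [SubmonoidClass.coe_pow, Units.val_pow_eq_pow_val, O.cW_val, Wm_pow_five O.root]; rfl))

theorem cV_pow : O.cV ^ 5 = 1 := by rw [cV, conj_pow, O.cW_pow, mul_one, mul_inv_cancel]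

theorem pA_W : ((pA O.h2 H O.cW : GL (Fin 3) F) : Matrix (Fin 3) (Fin 3) F) = wT ω := by
  rw [pA_val, O.cW_val, bp_Wm O.root]; rfl

theorem pA_V : ((pA O.h2 H O.cV : GL (Fin 3) F) : Matrix (Fin 3) (Fin 3) F) = vT ω := by
  have hf : ((pA O.h2 H O.cF : GL (Fin 3) F) : Matrix (Fin 3) (Fin 3) F) = fT ω := by
    rw [pA_val, O.cF_val, bp_Fm O.root]; rfl
  have hinv : ((pA O.h2 H O.cF)⁻¹ : GL (Fin 3) F) = pA O.h2 H O.cF := inv_eq_of_mul_eq_one_right (Units.ext (by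
    rw [Units.val_mul, hf, fT_sq O.root, Units.val_one]))
  rw [cV, map_mul, map_mul, map_inv, hinv, Units.val_mul, Units.val_mul, hf, O.pA_W]
  rfl

theorem pB_W : ((pB O.h2 H O.cW : GL (Fin 2) F) : Matrix (Fin 2) (Fin 2) F) = wM ω := by
  rw [pB_val, O.cW_val, bn_Wm O.root]; rfl

theorem pB_V : ((pB O.h2 H O.cV : GL (Fin 2) F) : Matrix (Fin 2) (Fin 2) F) = vM ω := by
  set G : Matrix (Fin 2) (Fin 2) F := !![ω - ω ^ 4, ω ^ 2 - ω ^ 3; ω ^ 2 - ω ^ 3, ω ^ 4 - ω]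
  have hf : ((pB O.h2 H O.cF : GL (Fin 2) F) : Matrix (Fin 2) (Fin 2) F) = fcoef ω • G := by
    rw [pB_val, O.cF_val, bn_Fm O.root]
  have hf2 : (fcoef ω • G) * (fcoef ω • G) = -1 := by
    rw [← hf, ← Units.val_mul, ← map_mul, ← O.pB_Jc]
    refine congrArg (fun x : ↥(cenJ H) => ((pB O.h2 H x : GL (Fin 2) F) : Matrix (Fin 2) (Fin 2) F)) ?_
    exact Subtype.ext (Units.ext (by rw [Subgroup.coe_mul, Units.val_mul, O.cF_val, Fm_sq O.root]; rfl))
  have hc : fcoef ω * fcoef ω = (5 : F)⁻¹ := by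
    rw [Matrix.smul_mul, Matrix.mul_smul, smul_smul, four_sq O.root, smul_smul] at hf2
    have e := congrFun (congrFun hf2 0) 0
    simp at e
    exact eq_inv_of_mul_eq_one_left e
  have hinv : (((pB O.h2 H O.cF)⁻¹ : GL (Fin 2) F) : Matrix (Fin 2) (Fin 2) F) = -(fcoef ω • G) := by
    refine (Units.eq_inv_of_mul_eq_one_left ?_).symm
    rw [hf, Matrix.mul_neg, hf2, neg_neg]
  rw [cV, map_mul, map_mul, map_inv, Units.val_mul, Units.val_mul, hinv, hf, O.pB_W, Matrix.mul_neg, Matrix.smul_mul,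
    Matrix.smul_mul, Matrix.mul_smul, smul_smul, hc, vM, neg_smul]

theorem hasFives : HasFives ω (pB O.h2 H).range :=
  ⟨O.root, ⟨_, ⟨O.cW, rfl⟩, O.pB_W⟩, ⟨_, ⟨O.cV, rfl⟩, O.pB_V⟩⟩

end Over

end CfsgLib.MaxSub.HeisFive
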