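/-
Matrices normalised by the Heisenberg group, and abelian groups normalised by the standard normaliser.
-/
import Cfsg.Agent.Lib.MaxSub.HeisFive.Ctx

set_option autoImplicit false
set_option linter.unusedSectionVars false
set_option linter.style.haveILetI false
set_option maxHeartbeats 800000

namespace CfsgLib.MaxSub.HeisFive

open Matrix

variable {F : Type*} [Field F]

local notation "M5" => Matrix (Fin 5) (Fin 5) F
local notation "G5" => GL (Fin 5) F

/-- Conjugation of a matrix by a group element. -/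
def cj (g : GL (Fin 5) F) (M : Matrix (Fin 5) (Fin 5) F) : Matrix (Fin 5) (Fin 5) F :=
  (g : Matrix (Fin 5) (Fin 5) F) * M * ((g⁻¹ : GL (Fin 5) F) : Matrix (Fin 5) (Fin 5) F)

theorem cj_mul (g h : G5) (M : M5) : cj (g * h) M = cj g (cj h M) := by
  simp only [cj, Units.val_mul, _root_.mul_inv_rev, Matrix.mul_assoc]

theorem cj_one (M : M5) : cj (1 : G5) M = M := by simp [cj]

theorem cj_smul (g : G5) (c : F) (M : M5) : cj g (c • M) = c • cj g M := by
  simp only [cj, Matrix.mul_smul, Matrix.smul_mul]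

theorem cj_sum {ι : Type*} (s : Finset ι) (g : G5) (f : ι → M5) : cj g (∑ i ∈ s, f i) = ∑ i ∈ s, cj g (f i) := by
  simp only [cj, Matrix.mul_sum, Matrix.sum_mul]

theorem cj_eq_iff {g : G5} {M N : M5} : cj g M = N ↔ (g : M5) * M = N * (g : M5) := by
  constructor
  · rintro rfl
    rw [cj, Matrix.mul_assoc, Units.inv_mul, Matrix.mul_one]
  · intro e
    rw [cj, e, Matrix.mul_assoc, Units.mul_inv, Matrix.mul_one]

theorem mem_span_cj {S : Subgroup (GL (Fin 5) F)} {g : G5} (hg : ∀ s ∈ S, g * s * g⁻¹ ∈ S) {a : M5}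
    (ha : a ∈ Submodule.span F (Units.val '' (S : Set (GL (Fin 5) F)))) :
    cj g a ∈ Submodule.span F (Units.val '' (S : Set (GL (Fin 5) F))) := by
  induction ha using Submodule.span_induction with
  | mem x hx =>
    obtain ⟨u, hu, rfl⟩ := hx
    exact Submodule.subset_span ⟨_, hg u hu, by rw [cj, Units.val_mul, Units.val_mul]⟩
  | zero => simp [cj]
  | add x z _ _ hx hz => rw [cj, Matrix.mul_add, Matrix.add_mul]; exact Submodule.add_mem _ hx hz
  | smul c x _ hx => rw [cj_smul]; exact Submodule.smul_mem _ c hx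

theorem span_commutes {S : Subgroup (GL (Fin 5) F)} (hab : ∀ s ∈ S, ∀ t ∈ S, s * t = t * s) {a b : M5}
    (ha : a ∈ Submodule.span F (Units.val '' (S : Set (GL (Fin 5) F))))
    (hb : b ∈ Submodule.span F (Units.val '' (S : Set (GL (Fin 5) F)))) : a * b = b * a := by
  induction ha using Submodule.span_induction with
  | mem x hx =>
    induction hb using Submodule.span_induction with
    | mem y hy =>
      obtain ⟨u, hu, rfl⟩ := hx
      obtain ⟨v, hv, rfl⟩ := hy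
      rw [← Units.val_mul, ← Units.val_mul, hab u hu v hv]
    | zero => simp
    | add y z _ _ hy hz => rw [Matrix.mul_add, Matrix.add_mul, hy, hz]
    | smul c y _ hy => rw [Matrix.mul_smul, Matrix.smul_mul, hy]
  | zero => simp
  | add x z _ _ hx hz => rw [Matrix.mul_add, Matrix.add_mul, hx, hz]
  | smul c x _ hx => rw [Matrix.mul_smul, Matrix.smul_mul, hx]

/-- The weight projection of a five-element. -/
def wproj (ω : F) (g : GL (Fin 5) F) (a : ℕ) (M : Matrix (Fin 5) (Fin 5) F) : Matrix (Fin 5) (Fin 5) F :=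
  ∑ k : Fin 5, ω ^ (4 * a * (k : ℕ)) • cj (g ^ (k : ℕ)) M

variable {ω : F} (h : Root ω)
include h

theorem cj_wproj {g : G5} (hg : g ^ 5 = 1) (a : ℕ) (M : M5) : cj g (wproj ω g a M) = ω ^ a • wproj ω g a M := by
  rw [wproj, cj_sum, Finset.smul_sum]
  refine Fintype.sum_equiv (Equiv.addRight (1 : Fin 5)) _ _ fun k => ?_
  rw [cj_smul, ← cj_mul, ← pow_succ', Equiv.coe_addRight, smul_smul, ← pow_add]
  have e1 : g ^ ((k : ℕ) + 1) = g ^ (((k + 1 : Fin 5)) : ℕ) := by
    rw [Fin.val_add]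
    conv_lhs => rw [← Nat.div_add_mod ((k : ℕ) + 1) 5, pow_add, pow_mul, hg, one_pow, one_mul]
    rfl
  rw [e1]
  congr 1
  rw [h.pow_mod (4 * a * (k : ℕ)), h.pow_mod (a + 4 * a * ((k + 1 : Fin 5) : ℕ))]
  congr 1
  rw [Fin.val_add, show ((1 : Fin 5) : ℕ) = 1 from rfl]
  rw [Nat.add_mod, Nat.mul_mod (4 * a) (((k : ℕ) + 1) % 5), Nat.mod_mod, ← Nat.mul_mod, ← Nat.add_mod,
    show a + 4 * a * ((k : ℕ) + 1) = 4 * a * (k : ℕ) + 5 * a by ring, Nat.add_mul_mod_self_left]

theorem sum_wproj (g : G5) (M : M5) : ∑ a : Fin 5, wproj ω g (a : ℕ) M = (5 : F) • M := by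
  simp only [wproj]
  rw [Finset.sum_comm, Finset.sum_eq_single (0 : Fin 5)]
  · simp [cj_one, ← Nat.cast_smul_eq_nsmul F]
  · intro k _ hk
    rw [← Finset.sum_smul]
    have : ∀ a : Fin 5, ω ^ (4 * (a : ℕ) * (k : ℕ)) = ω ^ (4 * (k : ℕ) * (a : ℕ)) := fun a => by rw [mul_right_comm]
    simp only [this, h.sum_pow]
    rw [if_neg, zero_smul]
    have := Fin.val_ne_of_ne hk
    have := k.2
    intro hd
    rcases (Nat.prime_five.dvd_mul.1 hd) with e | e
    · norm_num at e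
    · have := Nat.le_of_dvd (by simp at this ⊢; omega) e
      omega
  · simp

/-- A matrix commuting with both generators is scalar. -/
theorem commutant_five {M : M5} (hX : Xm ω * M = M * Xm ω) (hY : Ym * M = M * Ym) : IsScal M := by
  have hd : ∀ i j, i ≠ j → M i j = 0 := by
    intro i j hij
    have e := congrFun (congrFun hX i) j
    rw [Xm, diagonal_mul, mul_diagonal] at e
    have hne : ω ^ (i : ℕ) - ω ^ (j : ℕ) ≠ 0 := sub_ne_zero.2 fun e => by
      have := h.pow_inj e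
      exact hij (Fin.ext (by omega))
    exact (mul_eq_zero.1 (by linear_combination e : (ω ^ (i : ℕ) - ω ^ (j : ℕ)) * M i j = 0)).resolve_left hne
  have hs : ∀ i : Fin 5, M i i = M (i + 1) (i + 1) := fun i => by
    have e := congrFun (congrFun hY (i + 1)) i
    rw [Ym_mul, mul_Ym, add_sub_cancel_right] at e
    exact e
  refine ⟨M 0 0, ?_⟩
  ext i j
  by_cases hij : i = j
  · subst hij
    have e1 : M 1 1 = M 0 0 := (hs 0).symm
    have e2 : M 2 2 = M 0 0 := (hs 1).symm.trans e1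
    have e3 : M 3 3 = M 0 0 := (hs 2).symm.trans e2
    have e4 : M 4 4 = M 0 0 := (hs 3).symm.trans e3
    fin_cases i <;> simp [e1, e2, e3, e4]
  · simp [hd i j hij, hij]

theorem Xm_Ym_pow (a : ℕ) : Xm ω * (Ym : M5) ^ a = ω ^ a • ((Ym : M5) ^ a * Xm ω) := by
  induction a with
  | zero => simp
  | succ a ih =>
    rw [pow_succ, ← Matrix.mul_assoc, ih, Matrix.smul_mul, Matrix.mul_assoc, Xm_Ym h, Matrix.mul_smul, smul_smul,
      ← pow_succ, Matrix.mul_assoc]

theorem Ym_Xm_pow (k : ℕ) : (Ym : M5) * Xm ω ^ k = ω ^ (4 * k) • (Xm ω ^ k * Ym) := by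
  induction k with
  | zero => simp
  | succ k ih =>
    have e : (Ym : M5) * Xm ω = ω ^ 4 • (Xm ω * Ym) := by
      rw [Xm_Ym h, smul_smul, ← pow_succ, h.pow_five, one_smul]
    rw [pow_succ, ← Matrix.mul_assoc, ih, Matrix.smul_mul, Matrix.mul_assoc, e, Matrix.mul_smul, smul_smul, ← pow_add,
      Matrix.mul_assoc, show 4 * (k + 1) = 4 * k + 4 by ring]

/-- A joint weight matrix is a monomial in the generators. -/
theorem weyl {M : M5} {a b : ℕ} (hX : Xm ω * M = ω ^ a • (M * Xm ω)) (hY : (Ym : M5) * M = ω ^ b • (M * Ym)) :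
    ∃ c : F, M = c • ((Ym : M5) ^ a * Xm ω ^ b * Xm ω ^ (3 * b)) := by
  have hb : Xm ω ^ b * Xm ω ^ (3 * b) = (Xm ω : M5) ^ (4 * b) := by rw [← pow_add]; congr 1; ring
  set N : M5 := (Ym : M5) ^ a * Xm ω ^ (4 * b) with hN
  set Ni : M5 := Xm ω ^ b * (Ym : M5) ^ (4 * a) with hNi
  have hx5 : ∀ m : ℕ, (Xm ω : M5) ^ (5 * m) = 1 := fun m => by rw [pow_mul, Xm_pow_five h, one_pow]
  have hy5 : ∀ m : ℕ, (Ym : M5) ^ (5 * m) = 1 := fun m => by rw [pow_mul, Ym_pow_five h, one_pow]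
  have hNN : N * Ni = 1 := by
    rw [hN, hNi, Matrix.mul_assoc, ← Matrix.mul_assoc (Xm ω ^ (4 * b)), ← pow_add,
      show 4 * b + b = 5 * b by ring, hx5, Matrix.one_mul, ← pow_add, show a + 4 * a = 5 * a by ring, hy5]
  have hNiX : Xm ω * Ni = ω ^ (4 * a) • (Ni * Xm ω) := by
    rw [hNi, ← Matrix.mul_assoc, ← pow_succ', pow_succ, Matrix.mul_assoc, Xm_Ym_pow h, Matrix.mul_smul,
      ← Matrix.mul_assoc]
  have hNiY : (Ym : M5) * Ni = ω ^ (4 * b) • (Ni * Ym) := by
    rw [hNi, ← Matrix.mul_assoc, Ym_Xm_pow h, Matrix.smul_mul, Matrix.mul_assoc, ← pow_succ', pow_succ,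
      ← Matrix.mul_assoc]
  have hone : ∀ m : ℕ, ω ^ (5 * m) = 1 := fun m => by rw [pow_mul, h.pow_five, one_pow]
  obtain ⟨c, hc⟩ := commutant_five h (M := Ni * M) (by
      rw [← Matrix.mul_assoc, hNiX, Matrix.smul_mul, Matrix.mul_assoc, hX, Matrix.mul_smul, smul_smul, ← pow_add,
        show 4 * a + a = 5 * a by ring, hone, one_smul, hNi]
      simp only [Matrix.mul_assoc]) (by
      rw [← Matrix.mul_assoc, hNiY, Matrix.smul_mul, Matrix.mul_assoc, hY, Matrix.mul_smul, smul_smul, ← pow_add,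
        show 4 * b + b = 5 * b by ring, hone, one_smul, hNi]
      simp only [Matrix.mul_assoc])
  refine ⟨c, ?_⟩
  rw [Matrix.mul_assoc, hb, ← hN]
  calc M = N * Ni * M := by rw [hNN, Matrix.one_mul]
    _ = _ := by rw [Matrix.mul_assoc, hc, Matrix.mul_smul, Matrix.mul_one]

omit h in
/-- An abelian group normalised by the standard normaliser is scalar. -/
theorem abelian_five_scalar {H : Subgroup (GL (Fin 5) F)} (O : Over ω H) (S : Subgroup (GL (Fin 5) F))
    (hab : ∀ s ∈ S, ∀ t ∈ S, s * t = t * s) (hn : ∀ g ∈ H, ∀ s ∈ S, g * s * g⁻¹ ∈ S) :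
    ∀ s ∈ S, IsScal (s : Matrix (Fin 5) (Fin 5) F) := by
  have h := O.root
  obtain ⟨x, hx, ex⟩ := O.hX
  obtain ⟨y, hy, ey⟩ := O.hY
  obtain ⟨w, hw, ew⟩ := O.hW
  obtain ⟨f, hf, ef⟩ := O.hF
  have hx5 : x ^ 5 = 1 := Units.ext (by rw [Units.val_pow_eq_pow_val, ex, Xm_pow_five h, Units.val_one])
  have hy5 : y ^ 5 = 1 := Units.ext (by rw [Units.val_pow_eq_pow_val, ey, Ym_pow_five h, Units.val_one])
  set A := Submodule.span F (Units.val '' (S : Set (GL (Fin 5) F)))
  -- conjugations by the generators commute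
  have hxy : ∀ M : Matrix (Fin 5) (Fin 5) F, cj x (cj y M) = cj y (cj x M) := by
    intro M
    rw [cj_eq_iff, cj, cj]
    have e1 : (x : Matrix (Fin 5) (Fin 5) F) * y = ω • ((y : Matrix (Fin 5) (Fin 5) F) * x) := by
      rw [ex, ey, Xm_Ym h]
    set xi := ((x⁻¹ : GL (Fin 5) F) : Matrix (Fin 5) (Fin 5) F)
    set yi := ((y⁻¹ : GL (Fin 5) F) : Matrix (Fin 5) (Fin 5) F)
    have e2 : yi * (x : Matrix (Fin 5) (Fin 5) F) = ω • ((x : Matrix (Fin 5) (Fin 5) F) * yi) := by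
      have := congrArg (fun M => yi * M * yi) e1
      simp only [Matrix.mul_smul, Matrix.smul_mul, Matrix.mul_assoc, yi, Units.mul_inv, Matrix.mul_one,
        Units.inv_mul_cancel_left] at this
      exact this
    calc (x : Matrix (Fin 5) (Fin 5) F) * ((y : Matrix (Fin 5) (Fin 5) F) * M * yi)
        = ω • ((y : Matrix (Fin 5) (Fin 5) F) * ((x : Matrix (Fin 5) (Fin 5) F) * (M * yi))) := by
          simp only [← Matrix.mul_assoc]; rw [e1]; simp only [Matrix.smul_mul]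
      _ = (y : Matrix (Fin 5) (Fin 5) F) * ((x : Matrix (Fin 5) (Fin 5) F) * M * xi) * (ω • ((x : Matrix (Fin 5) (Fin 5) F) * yi)) := by
          simp only [Matrix.mul_smul, Matrix.mul_assoc, xi, Units.inv_mul_cancel_left]
      _ = _ := by rw [← e2]; simp only [cj, Matrix.mul_assoc, xi]
  have hxyk : ∀ (k : ℕ) (M : Matrix (Fin 5) (Fin 5) F), cj y (cj (x ^ k) M) = cj (x ^ k) (cj y M) := by
    intro k
    induction k with
    | zero => intro M; simp [cj_one]
    | succ k ih => intro M; rw [pow_succ, cj_mul, ih, ← hxy, ← cj_mul]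
  have key : ∀ M ∈ A, ∀ a b : Fin 5, ¬ (a = 0 ∧ b = 0) → wproj ω x (a : ℕ) (wproj ω y (b : ℕ) M) = 0 := by
    intro M hM a b hab0
    set E := wproj ω x (a : ℕ) (wproj ω y (b : ℕ) M) with hE
    have hEA : E ∈ A := by
      refine A.sum_mem fun k _ => A.smul_mem _ (mem_span_cj (hn _ (pow_mem hx _)) ?_)
      exact A.sum_mem fun l _ => A.smul_mem _ (mem_span_cj (hn _ (pow_mem hy _)) hM)
    have hEX : Xm ω * E = ω ^ (a : ℕ) • (E * Xm ω) := by
      rw [← ex, ← Matrix.smul_mul, ← cj_eq_iff, hE, cj_wproj h hx5]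
    have hEY : (Ym : Matrix (Fin 5) (Fin 5) F) * E = ω ^ (b : ℕ) • (E * Ym) := by
      rw [← ey, ← Matrix.smul_mul, ← cj_eq_iff, hE, wproj, cj_sum, Finset.smul_sum]
      refine Finset.sum_congr rfl fun k _ => ?_
      rw [cj_smul, hxyk, cj_wproj h hy5, cj_smul, smul_comm]
    obtain ⟨c, hc⟩ := weyl h hEX hEY
    rw [Matrix.mul_assoc, ← pow_add, show (b : ℕ) + 3 * (b : ℕ) = 4 * (b : ℕ) by ring] at hc
    by_contra hE0
    have hc0 : c ≠ 0 := fun e => hE0 (by rw [hc, e, zero_smul])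
    set N : Matrix (Fin 5) (Fin 5) F := (Ym : Matrix (Fin 5) (Fin 5) F) ^ (a : ℕ) * Xm ω ^ (4 * (b : ℕ)) with hN
    have hNc : ∀ g ∈ H, cj g N * N = N * cj g N := by
      intro g hg
      have e := span_commutes hab (mem_span_cj (hn g hg) hEA) hEA
      rw [hc, cj_smul, Matrix.smul_mul, Matrix.mul_smul, Matrix.smul_mul, Matrix.mul_smul, smul_smul, smul_smul] at e
      exact smul_right_injective _ (mul_ne_zero hc0 hc0) e
    have hN0 : IsUnit N := by
      rw [hN, ← ex, ← ey, ← Units.val_pow_eq_pow_val, ← Units.val_pow_eq_pow_val, ← Units.val_mul]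
      exact Units.isUnit _
    -- the diagonal conjugate
    have hWY : cj w (Ym : Matrix (Fin 5) (Fin 5) F) = ω • ((Ym : Matrix (Fin 5) (Fin 5) F) * Xm ω ^ 2) := by
      rw [cj_eq_iff, ew, Wm_Ym h, Matrix.smul_mul, pow_two, ← Matrix.mul_assoc (Ym : Matrix (Fin 5) (Fin 5) F)]
    have hXN : ∀ m : ℕ, Xm ω ^ m * N = ω ^ (m * (a : ℕ)) • (N * Xm ω ^ m) := by
      intro m
      induction m with
      | zero => simp
      | succ m ih =>
        have e : Xm ω * N = ω ^ (a : ℕ) • (N * Xm ω) := by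
          rw [hN, ← Matrix.mul_assoc, Xm_Ym_pow h, Matrix.smul_mul, Matrix.mul_assoc, ← pow_succ', pow_succ,
            ← Matrix.mul_assoc]
        rw [pow_succ, Matrix.mul_assoc, e, Matrix.mul_smul, ← Matrix.mul_assoc, ih, Matrix.smul_mul, smul_smul,
          Matrix.mul_assoc, ← pow_add]
        congr 2
        ring
    have hWN : ∀ j : ℕ, ∃ d : F, d ≠ 0 ∧ cj w ((Ym : Matrix (Fin 5) (Fin 5) F) ^ j * Xm ω ^ (4 * (b : ℕ))) =
        d • ((Ym : Matrix (Fin 5) (Fin 5) F) ^ j * Xm ω ^ (4 * (b : ℕ)) * Xm ω ^ (2 * j)) := by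
      intro j
      induction j with
      | zero =>
        refine ⟨1, one_ne_zero, ?_⟩
        rw [one_smul, Nat.mul_zero, pow_zero, pow_zero, Matrix.one_mul, Matrix.mul_one, cj_eq_iff, ew]
        have : Commute (Wm ω) (Xm ω) := Wm_Xm h
        exact (this.pow_right _).eq
      | succ j ih =>
        obtain ⟨d, hd0, hd⟩ := ih
        refine ⟨ω * d * ω ^ (2 * j), mul_ne_zero (mul_ne_zero h.ne_zero hd0) (pow_ne_zero _ h.ne_zero), ?_⟩
        have hm : cj w ((Ym : Matrix (Fin 5) (Fin 5) F) ^ (j + 1) * Xm ω ^ (4 * (b : ℕ))) =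
            cj w (Ym : Matrix (Fin 5) (Fin 5) F) * cj w ((Ym : Matrix (Fin 5) (Fin 5) F) ^ j * Xm ω ^ (4 * (b : ℕ))) := by
          simp only [cj, pow_succ', Matrix.mul_assoc, Units.inv_mul_cancel_left]
        have e2 : (Xm ω : Matrix (Fin 5) (Fin 5) F) ^ 2 * (Ym : Matrix (Fin 5) (Fin 5) F) ^ j =
            ω ^ (2 * j) • ((Ym : Matrix (Fin 5) (Fin 5) F) ^ j * Xm ω ^ 2) := by
          rw [pow_two, Matrix.mul_assoc, Xm_Ym_pow h, Matrix.mul_smul, ← Matrix.mul_assoc, Xm_Ym_pow h, Matrix.smul_mul,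
            smul_smul, Matrix.mul_assoc, ← pow_add, show j + j = 2 * j by ring]
        rw [hm, hWY, hd, Matrix.smul_mul, Matrix.mul_smul, smul_smul]
        simp only [← Matrix.mul_assoc]
        rw [Matrix.mul_assoc (Ym : Matrix (Fin 5) (Fin 5) F) (Xm ω ^ 2), e2]
        simp only [Matrix.mul_smul, Matrix.smul_mul, smul_smul, Matrix.mul_assoc, ← pow_add]
        rw [← Matrix.mul_assoc, ← pow_succ', show 2 + 4 * (b : ℕ) + 2 * j = 4 * (b : ℕ) + 2 * (j + 1) by ring]
    obtain ⟨d, hd0, hd⟩ := hWN (a : ℕ)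
    rw [← hN] at hd
    have e1 := hNc w hw
    rw [hd, Matrix.smul_mul, Matrix.mul_smul] at e1
    have e2 : N * Xm ω ^ (2 * (a : ℕ)) * N = N * (N * Xm ω ^ (2 * (a : ℕ))) := smul_right_injective _ hd0 e1
    rw [Matrix.mul_assoc, hXN, Matrix.mul_smul] at e2
    have hu2 : IsUnit (N * (N * Xm ω ^ (2 * (a : ℕ)))) := by
      refine hN0.mul (hN0.mul ?_)
      rw [← ex, ← Units.val_pow_eq_pow_val]
      exact Units.isUnit _
    have ha : (a : ℕ) = 0 := by
      have e3 : (ω ^ (2 * (a : ℕ) * (a : ℕ)) - 1) • (N * (N * Xm ω ^ (2 * (a : ℕ)))) = 0 := by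
        rw [sub_smul, one_smul, e2, sub_self]
      have hd5 := h.pow_eq_one (sub_eq_zero.1 ((smul_eq_zero.1 e3).resolve_right hu2.ne_zero))
      rcases Nat.prime_five.dvd_mul.1 hd5 with e | e
      · rcases Nat.prime_five.dvd_mul.1 e with e | e
        · norm_num at e
        · exact Nat.eq_zero_of_dvd_of_lt e a.2
      · exact Nat.eq_zero_of_dvd_of_lt e a.2
    -- the Fourier conjugate
    set k : ℕ := 4 * (b : ℕ) with hk
    have hNk : N = Xm ω ^ k := by rw [hN, ha, pow_zero, Matrix.one_mul]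
    have hfx : cj f⁻¹ (Xm ω : Matrix (Fin 5) (Fin 5) F) = Ym := by
      rw [cj, inv_inv, Matrix.mul_assoc, ef, Fm_Xm h, ← Matrix.mul_assoc, ← ef, Units.inv_mul, Matrix.one_mul]
    have hfxk : cj f⁻¹ ((Xm ω : Matrix (Fin 5) (Fin 5) F) ^ k) = (Ym : Matrix (Fin 5) (Fin 5) F) ^ k := by
      rw [← hfx, cj, cj, inv_inv, Units.conj_pow']
    have e4 := hNc f⁻¹ (inv_mem hf)
    rw [hNk, hfxk] at e4
    have hk5 : ∀ m : ℕ, Xm ω ^ m * (Ym : Matrix (Fin 5) (Fin 5) F) ^ k = ω ^ (m * k) • ((Ym : Matrix (Fin 5) (Fin 5) F) ^ k * Xm ω ^ m) := by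
      intro m
      induction m with
      | zero => simp
      | succ m ih =>
        rw [pow_succ, Matrix.mul_assoc, Xm_Ym_pow h, Matrix.mul_smul, ← Matrix.mul_assoc, ih, Matrix.smul_mul, smul_smul,
          Matrix.mul_assoc, ← pow_add]
        congr 2
        ring
    rw [hk5] at e4
    have hu3 : IsUnit ((Ym : Matrix (Fin 5) (Fin 5) F) ^ k * Xm ω ^ k) := by
      rw [← ex, ← ey, ← Units.val_pow_eq_pow_val, ← Units.val_pow_eq_pow_val, ← Units.val_mul]
      exact Units.isUnit _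
    have e5 : (ω ^ (k * k) - 1) • ((Ym : Matrix (Fin 5) (Fin 5) F) ^ k * Xm ω ^ k) = 0 := by
      rw [sub_smul, one_smul, ← e4, sub_self]
    have hk0 := h.pow_eq_one (sub_eq_zero.1 ((smul_eq_zero.1 e5).resolve_right hu3.ne_zero))
    refine hab0 ⟨Fin.ext ha, Fin.ext ?_⟩
    have hk1 : 5 ∣ 4 * (b : ℕ) := (Nat.prime_five.dvd_mul.1 hk0).elim id id
    have := b.2
    simp only [Fin.val_zero]
    omega
  intro s hs
  have hsA : (s : Matrix (Fin 5) (Fin 5) F) ∈ A := Submodule.subset_span ⟨s, hs, rfl⟩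
  set M : Matrix (Fin 5) (Fin 5) F := (s : Matrix (Fin 5) (Fin 5) F)
  have hsum : ∑ a : Fin 5, ∑ b : Fin 5, wproj ω x (a : ℕ) (wproj ω y (b : ℕ) M) = ((5 : F) * 5) • M := by
    rw [Finset.sum_comm]
    simp only [sum_wproj h x]
    rw [← Finset.smul_sum, sum_wproj h y, smul_smul]
  set E0 := wproj ω x 0 (wproj ω y 0 M) with hE0
  have hred : ∑ a : Fin 5, ∑ b : Fin 5, wproj ω x (a : ℕ) (wproj ω y (b : ℕ) M) = E0 := by
    rw [Finset.sum_eq_single (0 : Fin 5) (fun a _ ha => Finset.sum_eq_zero fun b _ => key M hsA a b fun e => ha e.1)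
      (by simp), Finset.sum_eq_single (0 : Fin 5) (fun b _ hb => key M hsA 0 b fun e => hb e.2) (by simp)]
    rfl
  obtain ⟨c, hc⟩ := commutant_five h (M := E0) (by
      have := cj_wproj h hx5 0 (wproj ω y 0 M)
      rw [pow_zero, one_smul, cj_eq_iff, ex] at this
      exact this) (by
      have : cj y E0 = E0 := by
        rw [hE0, wproj, cj_sum]
        refine Finset.sum_congr rfl fun k _ => ?_
        rw [cj_smul, hxyk, cj_wproj h hy5, pow_zero, one_smul]
      rw [cj_eq_iff, ey] at this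
      exact this)
  refine ⟨((5 : F) * 5)⁻¹ * c, ?_⟩
  rw [mul_smul, ← hc, ← hred, hsum, smul_smul, inv_mul_cancel₀ (mul_ne_zero h.five_ne h.five_ne), one_smul]

end CfsgLib.MaxSub.HeisFive
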