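/-
An overgroup in which the central involution is isolated normalises the group of order 125.
-/
import Cfsg.Agent.Lib.MaxSub.HeisFive.Weyl
import Cfsg.Agent.Lib.ZStar.Main
import Cfsg.Agent.Lib.OddOrder.FeitThompson

set_option autoImplicit false
set_option linter.unusedSectionVars false
set_option linter.style.haveILetI false
set_option maxHeartbeats 800000

namespace CfsgLib.MaxSub.HeisFive

open Matrix

section Group

variable {G : Type*} [Group G]

/-- A five-element normalising a finite five-group has a fixed point. -/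
theorem exists_fixed (P : Subgroup G) [Finite ↥P] (h5 : 5 ∣ Nat.card ↥P) (a : G) (ha : a ^ 5 = 1)
    (hn : ∀ p ∈ P, a * p * a⁻¹ ∈ P) : ∃ p ∈ P, p ≠ 1 ∧ a * p = p * a := by
  classical
  haveI := Fintype.ofFinite ↥P
  haveI : Fact (Nat.Prime 5) := ⟨Nat.prime_five⟩
  let c : ↥P → ↥P := fun p => ⟨a * (p : G) * a⁻¹, hn _ p.2⟩
  have hinj : Function.Injective c := fun p q e => Subtype.ext (conj_injective (congrArg Subtype.val e))
  let f : Equiv.Perm ↥P := Equiv.ofBijective c (Finite.injective_iff_bijective.1 hinj)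
  have hf : ∀ (k : ℕ) (p : ↥P), ((f ^ k) p : G) = a ^ k * (p : G) * (a ^ k)⁻¹ := by
    intro k
    induction k with
    | zero => intro p; simp
    | succ k ih =>
      intro p
      rw [pow_succ', Equiv.Perm.mul_apply, pow_succ', _root_.mul_inv_rev]
      show a * ((f ^ k) p : G) * a⁻¹ = _
      rw [ih]
      group
  have hf5 : f ^ 5 ^ 1 = 1 := Equiv.ext fun p => Subtype.ext (by
    rw [pow_one, hf, ha, one_mul, inv_one, mul_one]; rfl)
  have hmod := Equiv.Perm.card_compl_support_modEq hf5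
  rw [← Nat.card_eq_fintype_card, Nat.modEq_iff_dvd' ] at hmod
  · obtain ⟨p, hp, hp1⟩ : ∃ p ∈ f.supportᶜ, p ≠ 1 := by
      by_contra hcon
      push Not at hcon
      have h1 : (1 : ↥P) ∈ f.supportᶜ := by
        rw [Finset.mem_compl, Equiv.Perm.notMem_support]
        exact Subtype.ext (show a * (1 : G) * a⁻¹ = 1 by group)
      have hcard : f.supportᶜ.card = 1 := Finset.card_eq_one.2 ⟨1, Finset.eq_singleton_iff_unique_mem.2 ⟨h1, hcon⟩⟩
      rw [hcard] at hmod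
      have := Nat.card_pos (α := ↥P)
      omega
    refine ⟨p, p.2, fun e => hp1 (Subtype.ext e), ?_⟩
    rw [Finset.mem_compl, Equiv.Perm.notMem_support] at hp
    exact mul_inv_eq_iff_eq_mul.1 (congrArg Subtype.val hp)
  · rw [Nat.card_eq_fintype_card]; exact Finset.card_le_univ _

/-- Two commuting five-elements normalising a nontrivial group of exponent five have a common fixed point. -/
theorem exists_fixed_two (P : Subgroup G) [Finite ↥P] (hexp : ∀ p ∈ P, p ^ 5 = 1) (hne : ∃ p ∈ P, p ≠ 1)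
    (a b : G) (hab : a * b = b * a) (ha : a ^ 5 = 1) (hb : b ^ 5 = 1) (hna : ∀ p ∈ P, a * p * a⁻¹ ∈ P)
    (hnb : ∀ p ∈ P, b * p * b⁻¹ ∈ P) : ∃ p ∈ P, p ≠ 1 ∧ a * p = p * a ∧ b * p = p * b := by
  have h5 : ∀ Q : Subgroup G, Q ≤ P → (∃ p ∈ Q, p ≠ 1) → 5 ∣ Nat.card ↥Q := by
    rintro Q hQ ⟨p, hp, hp1⟩
    have ho : orderOf p = 5 := by
      haveI : Fact (Nat.Prime 5) := ⟨Nat.prime_five⟩
      exact orderOf_eq_prime (hexp p (hQ hp)) hp1
    have := orderOf_dvd_natCard (⟨p, hp⟩ : ↥Q)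
    rwa [Subgroup.orderOf_mk, ho] at this
  obtain ⟨p, hp, hp1, hpa⟩ := exists_fixed P (h5 P le_rfl hne) a ha hna
  set Q := P ⊓ Subgroup.centralizer {a} with hQ
  haveI : Finite ↥Q := Finite.of_injective (Subgroup.inclusion inf_le_left) (Subgroup.inclusion_injective _)
  have hmem : ∀ r, r ∈ Q ↔ r ∈ P ∧ a * r = r * a := fun r => by
    rw [hQ, Subgroup.mem_inf, Subgroup.mem_centralizer_singleton_iff]
    exact and_congr_right fun _ => ⟨Eq.symm, Eq.symm⟩
  obtain ⟨q, hq, hq1, hqb⟩ := exists_fixed Q (h5 Q inf_le_left ⟨p, (hmem p).2 ⟨hp, hpa⟩, hp1⟩) b hb fun r hr => by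
    obtain ⟨hrP, hra⟩ := (hmem r).1 hr
    refine (hmem _).2 ⟨hnb r hrP, ?_⟩
    calc a * (b * r * b⁻¹) = b * (a * r) * b⁻¹ := by
          rw [← mul_assoc, ← mul_assoc, hab, mul_assoc b a r]
      _ = b * r * (a * b⁻¹) := by rw [hra]; simp only [mul_assoc]
      _ = b * r * (b⁻¹ * a) := by
          rw [show a * b⁻¹ = b⁻¹ * a by rw [eq_inv_mul_iff_mul_eq, ← mul_assoc, ← hab, mul_inv_cancel_right]]
      _ = b * r * b⁻¹ * a := by simp only [mul_assoc]
  exact ⟨q, ((hmem q).1 hq).1, hq1, ((hmem q).1 hq).2, hqb⟩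

/-- A nonscalar term with scalar commutators: a minimal normal candidate. -/
theorem exists_minimal [Finite G] (Sc : Subgroup G) (N : Subgroup G) [N.Normal] (hN : Group.IsSolvable ↥N)
    (hne : ¬ N ≤ Sc) : ∃ T : Subgroup G, T.Normal ∧ T ≤ N ∧ ¬ T ≤ Sc ∧ ⁅T, T⁆ ≤ Sc := by
  classical
  have hs : ∃ n, ∃ T : Subgroup G, T.Normal ∧ T ≤ N ∧ ¬ T ≤ Sc ∧ Nat.card ↥T = n := ⟨_, N, inferInstance, le_rfl, hne, rfl⟩
  obtain ⟨T, hT, hTN, hTS, hcard⟩ := Nat.find_spec hs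
  refine ⟨T, hT, hTN, hTS, ?_⟩
  by_contra hc
  haveI := hT
  have hle : ⁅T, T⁆ ≤ T := Subgroup.commutator_le_left T T
  have heq : ⁅T, T⁆ = T := by
    refine Subgroup.eq_of_le_of_card_ge hle ?_
    rw [hcard]
    exact Nat.find_min' hs ⟨_, Subgroup.commutator_normal T T, hle.trans hTN, hc, rfl⟩
  haveI := hN
  haveI : Group.IsSolvable ↥T := Group.isSolvable_of_isSolvable_injective (Subgroup.inclusion_injective hTN)
  have hder : ∀ n, derivedSeries ↥T n = ⊤ := by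
    intro n
    induction n with
    | zero => rfl
    | succ n ih =>
      rw [derivedSeries_succ, ih]
      apply Subgroup.map_injective T.subtype_injective
      rw [Subgroup.map_commutator, ← MonoidHom.range_eq_map, T.range_subtype, heq]
  obtain ⟨n, hn⟩ := (inferInstance : Group.IsSolvable ↥T).solvable
  rw [hder n] at hn
  refine hTS fun t ht => ?_
  have : (⟨t, ht⟩ : ↥T) ∈ (⊥ : Subgroup ↥T) := hn ▸ Subgroup.mem_top _
  rw [Subgroup.mem_bot] at this
  have e : t = 1 := congrArg Subtype.val this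
  rw [e]
  exact one_mem _

end Group

variable {F : Type*} [Field F]

local notation "M5" => Matrix (Fin 5) (Fin 5) F
local notation "G5" => GL (Fin 5) F

theorem mk_eq_iff (s t : GL (Fin 5) F) :
    (QuotientGroup.mk s : GL (Fin 5) F ⧸ Cfsg.Geo.scalars (Fin 5) F) = QuotientGroup.mk t ↔
      ∃ c : F, c ≠ 0 ∧ (t : Matrix (Fin 5) (Fin 5) F) = c • (s : Matrix (Fin 5) (Fin 5) F) := by
  rw [QuotientGroup.eq, Cfsg.Geo.mem_scalars_iff]
  constructor
  · rintro ⟨c, hc⟩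
    refine ⟨c, c.ne_zero, ?_⟩
    have := congrArg (fun M => (s : Matrix (Fin 5) (Fin 5) F) * M) hc
    simpa [Units.val_mul, ← Matrix.mul_assoc] using this
  · rintro ⟨c, hc0, hc⟩
    refine ⟨Units.mk0 c hc0, ?_⟩
    rw [Units.val_mul, hc, Matrix.mul_smul, Units.inv_mul]
    rfl

theorem scalars_comm {z : G5} (hz : z ∈ Cfsg.Geo.scalars (Fin 5) F) (g : G5) : z * g = g * z := by
  obtain ⟨c, hc⟩ := (Cfsg.Geo.mem_scalars_iff z).1 hz
  exact Units.ext (by rw [Units.val_mul, Units.val_mul]; exact (IsScal.comm ⟨(c : F), hc⟩ _))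

/-- An element commuting modulo scalars with both generators is a monomial in them. -/
theorem monomial_of {ω : F} (h : Root ω) {x y s : G5} (ex : (x : M5) = Xm ω) (ey : (y : M5) = Ym)
    (hsx : (QuotientGroup.mk (x * s) : G5 ⧸ Cfsg.Geo.scalars (Fin 5) F) = QuotientGroup.mk (s * x))
    (hsy : (QuotientGroup.mk (y * s) : G5 ⧸ Cfsg.Geo.scalars (Fin 5) F) = QuotientGroup.mk (s * y)) :
    ∃ (c : F) (i k : ℕ), c ≠ 0 ∧ (s : M5) = c • ((y ^ i * x ^ k : G5) : M5) := by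
  have key : ∀ g : G5, (g : M5).det = 1 →
      (QuotientGroup.mk (g * s) : G5 ⧸ Cfsg.Geo.scalars (Fin 5) F) = QuotientGroup.mk (s * g) →
        ∃ i : ℕ, (g : M5) * (s : M5) = ω ^ i • ((s : M5) * (g : M5)) := by
    intro g hg e
    obtain ⟨c, hc0, hc⟩ := (mk_eq_iff _ _).1 e.symm
    rw [Units.val_mul, Units.val_mul] at hc
    have hd := congrArg Matrix.det hc
    rw [det_smul, det_mul, det_mul, hg, one_mul, mul_one, Fintype.card_fin] at hd
    have hc5 : c ^ 5 = 1 := by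
      have hne : (s : M5).det ≠ 0 := (Matrix.isUnit_iff_isUnit_det _).1 s.isUnit |>.ne_zero
      exact (mul_eq_right₀ hne).1 hd.symm
    obtain ⟨i, -, hi⟩ := h.prim.eq_pow_of_pow_eq_one hc5
    exact ⟨i, by rw [hi]; exact hc⟩
  obtain ⟨a, ha⟩ := key x (by rw [ex]; exact det_Xm h) hsx
  obtain ⟨b, hb⟩ := key y (by rw [ey]; exact det_Ym h) hsy
  rw [ex] at ha
  rw [ey] at hb
  obtain ⟨c, hc⟩ := weyl h ha hb
  refine ⟨c, a, b + 3 * b, fun e => ?_, ?_⟩
  · rw [e, zero_smul] at hc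
    exact s.ne_zero hc
  · rw [Units.val_mul, Units.val_pow_eq_pow_val, Units.val_pow_eq_pow_val, ex, ey, pow_add, ← Matrix.mul_assoc]
    exact hc

/-- An overgroup with isolated central involution normalises the standard group. -/
theorem normalises_of_isolated [Finite F] {ω : F} {H : Subgroup (GL (Fin 5) F)} (O : Over ω H)
    (hiso : ∀ g ∈ H, Jg * (g * Jg * g⁻¹) = g * Jg * g⁻¹ * Jg → g * Jg * g⁻¹ = Jg)
    {x y : GL (Fin 5) F} (ex : (x : Matrix (Fin 5) (Fin 5) F) = Xm ω) (ey : (y : Matrix (Fin 5) (Fin 5) F) = Ym) :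
    ∀ g ∈ H, ∀ r ∈ Subgroup.closure ({x, y} : Set (GL (Fin 5) F)), g * r * g⁻¹ ∈ Subgroup.closure ({x, y} : Set _) := by
  classical
  have h := O.root
  obtain ⟨x', hxH, ex'⟩ := O.hX
  obtain ⟨y', hyH, ey'⟩ := O.hY
  obtain rfl : x' = x := Units.ext (ex'.trans ex.symm)
  obtain rfl : y' = y := Units.ext (ey'.trans ey.symm)
  obtain ⟨w, hwH, ew⟩ := O.hW
  obtain ⟨f, hfH, ef⟩ := O.hF
  set x := x'
  set y := y'
  have hx5 : x ^ 5 = 1 := Units.ext (by rw [Units.val_pow_eq_pow_val, ex, Xm_pow_five h, Units.val_one])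
  have hy5 : y ^ 5 = 1 := Units.ext (by rw [Units.val_pow_eq_pow_val, ey, Ym_pow_five h, Units.val_one])
  -- the odd core
  set u : ↥H := ⟨Jg, O.Jg_mem⟩
  have hu1 : (Jg : GL (Fin 5) F) ≠ 1 := fun e => by
    have := congrFun (congrFun (congrArg (fun g : GL (Fin 5) F => (g : Matrix (Fin 5) (Fin 5) F)) e) 1) 1
    simp [Jg_val, Jm, Fin.ext_iff, Fin.coe_neg] at this
  have hu : orderOf u = 2 := orderOf_eq_prime (by rw [pow_two]; exact Subtype.ext Jg_mul_self)
    fun e => hu1 (congrArg Subtype.val e)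
  have hui : Cfsg.IsIsolated u := fun g hg => Subtype.ext (hiso g g.2 (congrArg Subtype.val hg.eq))
  set Oc : Subgroup ↥H := Cfsg.pPrimeCore 2 ↥H
  haveI hOcN : Oc.Normal := inferInstance
  have hOsol : Group.IsSolvable ↥Oc :=
    CfsgLib.OddOrder.feitThompson (Nat.coprime_two_right.1 (CfsgLib.card_pPrimeCore_coprime 2))
  have hgen : ∀ (g : GL (Fin 5) F) (hg : g ∈ H), g ^ 5 = 1 → Jg * g * Jg * g = 1 → (⟨g, hg⟩ : ↥H) ∈ Oc := by
    intro g hg h5 hinv
    have hc := CfsgLib.ZStar.commutator_mem hu hui ⟨g, hg⟩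
    have e : u * ⟨g, hg⟩ * u⁻¹ * (⟨g, hg⟩ : ↥H)⁻¹ = (⟨g, hg⟩ : ↥H)⁻¹ * (⟨g, hg⟩ : ↥H)⁻¹ := by
      refine Subtype.ext ?_
      show Jg * g * Jg⁻¹ * g⁻¹ = g⁻¹ * g⁻¹
      rw [Jg_inv, eq_inv_of_mul_eq_one_left hinv]
    rw [e] at hc
    have h2 := Oc.pow_mem (Oc.inv_mem hc) 3
    have h6 : ((⟨g, hg⟩ : ↥H)⁻¹ * (⟨g, hg⟩ : ↥H)⁻¹)⁻¹ ^ 3 = ⟨g, hg⟩ := Subtype.ext (by
      show (g⁻¹ * g⁻¹)⁻¹ ^ 3 = g
      rw [_root_.mul_inv_rev, inv_inv, ← pow_two, ← pow_mul, show 2 * 3 = 5 + 1 from rfl, pow_succ, h5, one_mul])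
    rwa [h6] at h2
  have hxO : (⟨x, hxH⟩ : ↥H) ∈ Oc :=
    hgen x hxH hx5 (Units.ext (by simp only [Units.val_mul, Jg_val, ex]; exact Jm_Xm h))
  -- the layer with scalar commutators
  set Sc : Subgroup ↥H := (Cfsg.Geo.scalars (Fin 5) F).comap H.subtype
  have hxS : x ∉ Cfsg.Geo.scalars (Fin 5) F := fun e => by
    have e1 : (x : Matrix (Fin 5) (Fin 5) F) * y = y * x := by
      rw [← Units.val_mul, ← Units.val_mul, scalars_comm e]
    rw [ex, ey, Xm_Ym h] at e1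
    have e2 : (ω - 1) • ((Ym : Matrix (Fin 5) (Fin 5) F) * Xm ω) = 0 := by rw [sub_smul, one_smul, e1, sub_self]
    rcases smul_eq_zero.1 e2 with e | e
    · exact h.ne_one (sub_eq_zero.1 e)
    · rw [← ex, ← ey, ← Units.val_mul] at e
      exact (y * x).ne_zero e
  obtain ⟨T0, hT0, hTO, hTS, hTc⟩ := exists_minimal Sc Oc hOsol (fun hle => hxS (hle hxO))
  set T : Subgroup (GL (Fin 5) F) := T0.map H.subtype with hT
  have hTH : T ≤ H := Subgroup.map_subtype_le T0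
  have hTn : ∀ g ∈ H, ∀ t ∈ T, g * t * g⁻¹ ∈ T := by
    rintro g hg _ ⟨t, ht, rfl⟩
    exact ⟨_, hT0.conj_mem t ht ⟨g, hg⟩, rfl⟩
  have hTcomm : ∀ a ∈ T, ∀ b ∈ T, a * b * a⁻¹ * b⁻¹ ∈ Cfsg.Geo.scalars (Fin 5) F := by
    rintro _ ⟨a, ha, rfl⟩ _ ⟨b, hb, rfl⟩
    exact hTc (Subgroup.commutator_mem_commutator ha hb)
  set S : Subgroup (GL (Fin 5) F) := T ⊓ Subgroup.centralizer (T : Set (GL (Fin 5) F))
  have hSscal : ∀ s ∈ S, IsScal (s : Matrix (Fin 5) (Fin 5) F) := by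
    refine abelian_five_scalar O S (fun s hs t ht => (Subgroup.mem_centralizer_iff.1 hs.2 t ht.1).symm)
      fun g hg s hs => ⟨hTn g hg s hs.1, Subgroup.mem_centralizer_iff.2 fun t ht => ?_⟩
    have e := Subgroup.mem_centralizer_iff.1 hs.2 _ (hTn g⁻¹ (inv_mem hg) t ht)
    calc t * (g * s * g⁻¹) = g * (g⁻¹ * t * g⁻¹⁻¹ * s) * g⁻¹ := by group
      _ = g * (s * (g⁻¹ * t * g⁻¹⁻¹)) * g⁻¹ := by rw [e]
      _ = g * s * g⁻¹ * t := by group
  have hT5 : ∀ t ∈ T, t ^ 5 ∈ Cfsg.Geo.scalars (Fin 5) F := by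
    intro t ht
    refine mem_scalars_of_isScal (hSscal _ ⟨pow_mem ht 5, Subgroup.mem_centralizer_iff.2 fun s hs => ?_⟩) (by norm_num)
    have hz := hTcomm t ht s hs
    obtain ⟨c, hc⟩ := (Cfsg.Geo.mem_scalars_iff _).1 hz
    have hd := congrArg Matrix.det hc
    rw [O.det _ (hTH (mul_mem (mul_mem (mul_mem ht hs) (inv_mem ht)) (inv_mem hs))), det_smul, det_one, mul_one,
      Fintype.card_fin] at hd
    set z := t * s * t⁻¹ * s⁻¹ with hzdef
    have hz5 : z ^ 5 = 1 := Units.ext (by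
      rw [Units.val_pow_eq_pow_val, hc, smul_pow, one_pow, ← hd, one_smul, Units.val_one])
    have key : ∀ k : ℕ, t ^ k * s = z ^ k * (s * t ^ k) := by
      intro k
      induction k with
      | zero => simp
      | succ k ih =>
        calc t ^ (k + 1) * s = t ^ k * (t * s) := by rw [pow_succ, mul_assoc]
          _ = t ^ k * (z * (s * t)) := by rw [hzdef]; group
          _ = z * (t ^ k * s * t) := by rw [← mul_assoc, ← scalars_comm hz]; simp only [mul_assoc]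
          _ = _ := by rw [ih, pow_succ', pow_succ t]; simp only [mul_assoc]
    rw [key 5, hz5, one_mul]
  -- the projective image
  set π := QuotientGroup.mk' (Cfsg.Geo.scalars (Fin 5) F) with hπ
  set P := T.map π with hP
  have hPn : ∀ g ∈ H, ∀ p ∈ P, π g * p * (π g)⁻¹ ∈ P := by
    rintro g hg _ ⟨t, ht, rfl⟩
    exact ⟨_, hTn g hg t ht, by simp⟩
  have hxy : π x * π y = π y * π x := by
    rw [← map_mul, ← map_mul]
    exact (mk_eq_iff _ _).2 ⟨ω⁻¹, inv_ne_zero h.ne_zero, by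
      rw [Units.val_mul, Units.val_mul, ex, ey, Xm_Ym h, smul_smul, inv_mul_cancel₀ h.ne_zero, one_smul]⟩
  have hπx5 : π x ^ 5 = 1 := by rw [← map_pow, hx5, map_one]
  have hπy5 : π y ^ 5 = 1 := by rw [← map_pow, hy5, map_one]
  obtain ⟨p, hp, hp1, hpx, hpy⟩ := exists_fixed_two P
    (by rintro _ ⟨t, ht, rfl⟩; rw [← map_pow]; exact (QuotientGroup.eq_one_iff _).2 (hT5 t ht))
    (by
      obtain ⟨t, ht, htS⟩ := SetLike.not_le_iff_exists.1 hTS
      exact ⟨π t, ⟨t, ⟨t, ht, rfl⟩, rfl⟩, fun e => htS ((QuotientGroup.eq_one_iff (t : GL (Fin 5) F)).1 e)⟩)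
    (π x) (π y) hxy hπx5 hπy5 (hPn x hxH) (hPn y hyH)
  obtain ⟨t, ht, rfl⟩ := hp
  rw [← map_mul, ← map_mul] at hpx hpy
  obtain ⟨c, i, k, hc0, hct⟩ := monomial_of h ex ey hpx hpy
  have hmono : ∀ (s : GL (Fin 5) F) (c : F) (i k : ℕ), c ≠ 0 →
      (s : Matrix (Fin 5) (Fin 5) F) = c • ((y ^ i * x ^ k : GL (Fin 5) F) : Matrix (Fin 5) (Fin 5) F) →
      π s = π y ^ i * π x ^ k := by
    intro s c i k hc0 hs
    rw [← map_pow, ← map_pow, ← map_mul]
    exact ((mk_eq_iff _ _).2 ⟨c, hc0, hs⟩).symm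
  have hp' : π y ^ i * π x ^ k ∈ P := ⟨t, ht, hmono t c i k hc0 hct⟩
  have hmod : ∀ {g : GL (Fin 5) F ⧸ Cfsg.Geo.scalars (Fin 5) F} {m : ℕ}, g ^ 5 = 1 → ¬ 5 ∣ m → g ^ m ∈ P → g ∈ P := by
    intro g m hg hm hgm
    obtain ⟨m', -, hm'⟩ := Nat.exists_mul_mod_eq_one_of_coprime
      ((Nat.prime_five.coprime_iff_not_dvd).2 hm).symm (by norm_num)
    have := P.pow_mem hgm m'
    rwa [← pow_mul, pow_eq_pow_mod _ hg, hm', pow_one] at this
  have hxP : π x ∈ P := by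
    by_cases hi : 5 ∣ i
    · obtain ⟨i', rfl⟩ := hi
      rw [pow_mul, hπy5, one_pow, one_mul] at hp'
      refine hmod hπx5 (fun hk => hp1 ?_) hp'
      obtain ⟨k', rfl⟩ := hk
      rw [hmono t c _ _ hc0 hct, pow_mul, hπy5, one_pow, one_mul, pow_mul, hπx5, one_pow]
    · have hwx : Commute (π w) (π x) := by
        rw [commute_iff_eq, ← map_mul, ← map_mul]
        exact congrArg π (Units.ext (by rw [Units.val_mul, Units.val_mul, ew, ex, Wm_Xm h]))
      have hwy : π w * π y * (π w)⁻¹ = π y * π x ^ 2 := by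
        rw [← map_inv, ← map_mul, ← map_mul, ← map_pow, ← map_mul]
        refine ((mk_eq_iff _ _).2 ⟨ω⁻¹, inv_ne_zero h.ne_zero, ?_⟩)
        have e : (w : Matrix (Fin 5) (Fin 5) F) * y * ((w⁻¹ : GL (Fin 5) F) : Matrix (Fin 5) (Fin 5) F) =
            ω • ((y : Matrix (Fin 5) (Fin 5) F) * (x : Matrix (Fin 5) (Fin 5) F) ^ 2) := by
          rw [ew, ey, ex, Wm_Ym h, Matrix.smul_mul, ← ew, Matrix.mul_assoc, Units.mul_inv, Matrix.mul_one, pow_two,
            Matrix.mul_assoc]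
        simp only [Units.val_mul, Units.val_pow_eq_pow_val]
        rw [e, smul_smul, inv_mul_cancel₀ h.ne_zero, one_smul]
      have hcj : π w * (π y ^ i * π x ^ k) * (π w)⁻¹ = π y ^ i * π x ^ k * π x ^ (2 * i) := by
        have e1 : π w * (π y ^ i * π x ^ k) * (π w)⁻¹ = (π w * π y ^ i * (π w)⁻¹) * π x ^ k := by
          simp only [mul_assoc]
          rw [(hwx.pow_right k).inv_left.eq]
        rw [e1, ← conj_pow, hwy, Commute.mul_pow ((Commute.symm hxy).pow_right 2), ← pow_mul, mul_assoc, mul_assoc,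
          ← pow_add, ← pow_add, Nat.add_comm k]
      have h2i : π x ^ (2 * i) ∈ P := by
        have := hPn w hwH _ hp'
        rw [hcj] at this
        exact (P.mul_mem_cancel_left hp').1 this
      exact hmod hπx5 (fun hd => hi ((Nat.prime_five.dvd_mul.1 hd).resolve_left (by norm_num))) h2i
  have hfy : π f⁻¹ * π x * (π f⁻¹)⁻¹ = π y := by
    rw [← map_inv, ← map_mul, ← map_mul, inv_inv]
    refine congrArg π ?_
    rw [mul_assoc, inv_mul_eq_iff_eq_mul]
    exact Units.ext (by rw [Units.val_mul, Units.val_mul, ex, ef, ey, Fm_Xm h])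
  have hyP : π y ∈ P := hfy ▸ hPn f⁻¹ (inv_mem hfH) _ hxP
  have habel : ∀ p ∈ P, ∀ q ∈ P, p * q = q * p := by
    rintro _ ⟨a, ha, rfl⟩ _ ⟨b, hb, rfl⟩
    rw [← commutatorElement_eq_one_iff_mul_comm, ← map_commutatorElement]
    exact (QuotientGroup.eq_one_iff _).2 (hTcomm a ha b hb)
  -- back to the standard group
  set R := Subgroup.closure ({x, y} : Set (GL (Fin 5) F))
  have hxR : x ∈ R := Subgroup.subset_closure (Set.mem_insert _ _)
  have hyR : y ∈ R := Subgroup.subset_closure (Set.mem_insert_of_mem _ rfl)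
  have hzR : ∀ (j : ℕ) (g : GL (Fin 5) F),
      (g : Matrix (Fin 5) (Fin 5) F) = ω ^ j • (1 : Matrix (Fin 5) (Fin 5) F) → g ∈ R := by
    intro j g hg
    have e : g = (x * y * x⁻¹ * y⁻¹) ^ j := by
      refine Units.ext ?_
      have e1 : ((x * y * x⁻¹ * y⁻¹ : GL (Fin 5) F) : Matrix (Fin 5) (Fin 5) F) = ω • 1 := by
        rw [Units.val_mul, Units.val_mul, Units.val_mul, ex, ey, Xm_Ym h, ← ex, ← ey, Matrix.smul_mul, Matrix.smul_mul,
          Matrix.mul_assoc (y : Matrix (Fin 5) (Fin 5) F), Units.mul_inv, Matrix.mul_one, Units.mul_inv]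
      rw [Units.val_pow_eq_pow_val, e1, smul_pow, one_pow, hg]
    rw [e]
    exact pow_mem (mul_mem (mul_mem (mul_mem hxR hyR) (inv_mem hxR)) (inv_mem hyR)) j
  have hback : ∀ g ∈ H, π g ∈ P → g ∈ R := by
    intro g hg hgP
    obtain ⟨c, i, k, hc0, hcg⟩ := monomial_of h ex ey (s := g)
      (by have := habel _ hxP _ hgP; rwa [← map_mul, ← map_mul] at this)
      (by have := habel _ hyP _ hgP; rwa [← map_mul, ← map_mul] at this)
    have hyx : (y ^ i * x ^ k : GL (Fin 5) F) ∈ R := mul_mem (pow_mem hyR i) (pow_mem hxR k)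
    have hd := congrArg Matrix.det hcg
    rw [O.det g hg, det_smul, Fintype.card_fin, O.det _ (mul_mem (pow_mem hyH i) (pow_mem hxH k)), mul_one] at hd
    obtain ⟨j, -, hj⟩ := h.prim.eq_pow_of_pow_eq_one hd.symm
    have hz := hzR j (g * (y ^ i * x ^ k)⁻¹) (by
      rw [Units.val_mul, hcg, hj, Matrix.smul_mul, Units.mul_inv])
    have := R.mul_mem hz hyx
    rwa [inv_mul_cancel_right] at this
  intro g hg r hr
  induction hr using Subgroup.closure_induction with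
  | mem r hr =>
    have hrH : r ∈ H ∧ π r ∈ P := by
      rcases hr with rfl | rfl
      · exact ⟨hxH, hxP⟩
      · exact ⟨hyH, hyP⟩
    refine hback _ (mul_mem (mul_mem hg hrH.1) (inv_mem hg)) ?_
    rw [map_mul, map_mul, map_inv]
    exact hPn g hg _ hrH.2
  | one => rw [mul_one, mul_inv_cancel]; exact one_mem _
  | mul a b _ _ ha hb =>
    rw [show g * (a * b) * g⁻¹ = g * a * g⁻¹ * (g * b * g⁻¹) by group]
    exact mul_mem ha hb
  | inv a _ ha =>
    rw [show g * a⁻¹ * g⁻¹ = (g * a * g⁻¹)⁻¹ by group]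
    exact inv_mem ha

end CfsgLib.MaxSub.HeisFive
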