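/-
Commuting involutions of the three-space and the centraliser of one of them.
-/
import Cfsg.Agent.Lib.MaxSub.HeisFive.Scalar
import Cfsg.Agent.Lib.PSLThreeInvolution

set_option autoImplicit false
set_option linter.unusedSectionVars false
set_option linter.style.haveILetI false
set_option maxHeartbeats 800000

namespace CfsgLib.MaxSub.HeisFive

open Matrix

variable {F : Type*} [Field F]

/-- The Cayley–Hamilton relation in dimension three. -/
theorem cayley_three (M : Matrix (Fin 3) (Fin 3) F) :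
    M * M * M - M.trace • (M * M) +
      (M 0 0 * M 1 1 - M 0 1 * M 1 0 + (M 0 0 * M 2 2 - M 0 2 * M 2 0) + (M 1 1 * M 2 2 - M 1 2 * M 2 1)) • M -
      M.det • (1 : Matrix (Fin 3) (Fin 3) F) = 0 := by
  ext i j
  fin_cases i <;> fin_cases j <;>
    simp [Matrix.mul_apply, Fin.sum_univ_three, Matrix.trace, Matrix.det_fin_three] <;> ring

/-- A non-trivial involution of determinant one of the three-space has trace minus one. -/
theorem trace_involution {M : Matrix (Fin 3) (Fin 3) F} (hM : M * M = 1) (hd : M.det = 1) (hne : M ≠ 1) :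
    M.trace = -1 := by
  have h := cayley_three M
  rw [hM, Matrix.one_mul, hd, one_smul] at h
  set m := M 0 0 * M 1 1 - M 0 1 * M 1 0 + (M 0 0 * M 2 2 - M 0 2 * M 2 0) + (M 1 1 * M 2 2 - M 1 2 * M 2 1)
  have h' : (1 + m) • M = (M.trace + 1) • (1 : Matrix (Fin 3) (Fin 3) F) := by
    linear_combination (norm := module) h
  by_cases hm : 1 + m = 0
  · rw [hm, zero_smul] at h'
    exact eq_neg_of_add_eq_zero_left ((smul_eq_zero.1 h'.symm).resolve_right one_ne_zero)
  exfalso
  have hs : M = ((1 + m)⁻¹ * (M.trace + 1)) • (1 : Matrix (Fin 3) (Fin 3) F) := by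
    rw [mul_smul, ← h', smul_smul, inv_mul_cancel₀ hm, one_smul]
  set c := (1 + m)⁻¹ * (M.trace + 1)
  rw [hs, det_smul, det_one, mul_one, Fintype.card_fin] at hd
  rw [hs, Matrix.smul_mul, Matrix.mul_smul, smul_smul, Matrix.one_mul] at hM
  have hc := congrFun (congrFun hM 0) 0
  simp at hc
  exact hne (by rw [hs, show c = 1 by linear_combination hd - c * hc, one_smul])

/-- Two commuting involutions determine the third. -/
theorem third_involution (h2 : (2 : F) ≠ 0) {z a b : GL (Fin 3) F}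
    (hd : ∀ x ∈ ({z, a, b} : Set (GL (Fin 3) F)), (x : Matrix (Fin 3) (Fin 3) F).det = 1)
    (hz : z * z = 1) (ha : a * a = 1) (hb : b * b = 1) (hz1 : z ≠ 1) (ha1 : a ≠ 1) (hb1 : b ≠ 1)
    (za : z * a = a * z) (zb : z * b = b * z) (ab : a * b = b * a) (naz : z ≠ a) (nbz : z ≠ b) (nab : a ≠ b) :
    b = z * a := by
  classical
  have dz := hd z (by simp)
  have da := hd a (by simp)
  have db := hd b (by simp)
  have inv1 : ∀ x : GL (Fin 3) F, x * x = 1 → x ≠ 1 → (x : Matrix (Fin 3) (Fin 3) F).det = 1 →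
      (x : Matrix (Fin 3) (Fin 3) F).trace = -1 := fun x hx hx1 hxd =>
    trace_involution (by rw [← Units.val_mul, hx, Units.val_one]) hxd
      (fun e => hx1 (Units.ext (by rw [e, Units.val_one])))
  have psq : ∀ x y : GL (Fin 3) F, x * y = y * x → x * x = 1 → y * y = 1 → x * y * (x * y) = 1 := fun x y e hx hy => by
    rw [show x * y * (x * y) = x * (y * x) * y by group, ← e, show x * (x * y) * y = (x * x) * (y * y) by group, hx, hy,
      one_mul]
  have hne : ∀ x y : GL (Fin 3) F, y * y = 1 → x ≠ y → x * y ≠ 1 := fun x y hy hxy e => hxy (by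
    calc x = x * (y * y) := by rw [hy, mul_one]
      _ = y := by rw [← mul_assoc, e, one_mul])
  -- the relation between two involutions and their product
  have rel : ∀ x y : GL (Fin 3) F, x * x = 1 → y * y = 1 → x * y = y * x → x ≠ 1 → y ≠ 1 → x ≠ y →
      (x : Matrix (Fin 3) (Fin 3) F).det = 1 → (y : Matrix (Fin 3) (Fin 3) F).det = 1 →
      (1 + (x : Matrix (Fin 3) (Fin 3) F) + y + (x : Matrix (Fin 3) (Fin 3) F) * y) = 0 := by
    intro x y hx hy e hx1 hy1 hxy dx dy
    set X : Matrix (Fin 3) (Fin 3) F := (x : Matrix (Fin 3) (Fin 3) F) with hX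
    set Y : Matrix (Fin 3) (Fin 3) F := (y : Matrix (Fin 3) (Fin 3) F) with hY
    have hXX : X * X = 1 := by rw [hX, ← Units.val_mul, hx, Units.val_one]
    have hYY : Y * Y = 1 := by rw [hY, ← Units.val_mul, hy, Units.val_one]
    have hYX : Y * X = X * Y := by rw [hX, hY, ← Units.val_mul, ← Units.val_mul, e]
    have hXY : (X * Y).trace = -1 := by
      rw [hX, hY, ← Units.val_mul]
      exact inv1 _ (psq x y e hx hy) (hne x y hy hxy) (by rw [Units.val_mul, det_mul, dx, dy, one_mul])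
    set E := 1 + X + Y + X * Y with hE
    have hXYX : X * Y * X = Y := by rw [Matrix.mul_assoc, hYX, ← Matrix.mul_assoc, hXX, Matrix.one_mul]
    have hXYY : X * Y * Y = X := by rw [Matrix.mul_assoc, hYY, Matrix.mul_one]
    have hEE : E * E = (4 : F) • E := by
      have eX : E * X = E := by
        rw [hE, add_mul, add_mul, add_mul, Matrix.one_mul, hXX, hYX, hXYX]; abel
      have eY : E * Y = E := by
        rw [hE, add_mul, add_mul, add_mul, Matrix.one_mul, hYY, hXYY]; abel
      conv_lhs => arg 2; rw [hE]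
      rw [mul_add, mul_add, mul_add, Matrix.mul_one, eX, ← Matrix.mul_assoc, eX, eY]
      module
    have htE : E.trace = 0 := by
      rw [hE, trace_add, trace_add, trace_add, trace_one, Fintype.card_fin, hXY, hX, hY, inv1 x hx hx1 dx,
        inv1 y hy hy1 dy]
      norm_num
    have h4 : (4 : F) ≠ 0 := by rw [show (4 : F) = 2 * 2 by norm_num]; exact mul_ne_zero h2 h2
    have hdiag : (E * E).trace = 0 := by rw [hEE, trace_smul, htE, smul_zero]
    have hCH := cayley_three E
    rw [htE, zero_smul, sub_zero] at hCH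
    have hm : E 0 0 * E 1 1 - E 0 1 * E 1 0 + (E 0 0 * E 2 2 - E 0 2 * E 2 0) + (E 1 1 * E 2 2 - E 1 2 * E 2 1) = 0 := by
      have e1 : E 0 0 + E 1 1 + E 2 2 = 0 := by rw [← htE, Matrix.trace, Fin.sum_univ_three]; rfl
      simp [Matrix.trace, Fin.sum_univ_three, Matrix.mul_apply] at hdiag
      refine mul_left_cancel₀ h2 ?_
      linear_combination (E 0 0 + E 1 1 + E 2 2) * e1 - hdiag
    rw [hm, zero_smul, add_zero, hEE, Matrix.smul_mul, hEE, smul_smul, sub_eq_zero] at hCH
    have ht := congrArg Matrix.trace hCH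
    rw [trace_smul, htE, smul_zero, trace_smul, trace_one, Fintype.card_fin, smul_eq_mul] at ht
    by_cases h3 : (3 : F) = 0
    · -- characteristic three
      have hd0 : E.det = 0 := by
        by_contra hd0
        have hu : IsUnit E := (Matrix.isUnit_iff_isUnit_det _).2 (Ne.isUnit hd0)
        have : E = (4 : F) • 1 := hu.mul_left_cancel (by rw [hEE, Matrix.mul_smul, Matrix.mul_one])
        have hX' : X = Y * X * Y := by rw [hYX, Matrix.mul_assoc, hYY, Matrix.mul_one]
        have eX : E * X = E := by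
          rw [hE, add_mul, add_mul, add_mul, Matrix.one_mul, hXX, hYX, hXYX]; abel
        have : X = 1 := hu.mul_left_cancel (by rw [eX, Matrix.mul_one])
        exact hx1 (Units.ext this)
      rw [hd0, zero_smul] at hCH
      exact (smul_eq_zero.1 hCH).resolve_left (mul_ne_zero h4 h4)
    have hd0 : E.det = 0 := (mul_eq_zero.1 ht.symm).resolve_right (by exact_mod_cast h3)
    rw [hd0, zero_smul] at hCH
    exact (smul_eq_zero.1 hCH).resolve_left (mul_ne_zero h4 h4)
  have r1 := rel z a hz ha za hz1 ha1 naz dz da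
  have r2 := rel z b hz hb zb hz1 hb1 nbz dz db
  have r3 := rel a b ha hb ab ha1 hb1 nab da db
  by_contra hne'
  have h12 := rel (z * a) b (psq z a za hz ha) hb
    (by rw [mul_assoc, ab, ← mul_assoc, zb, mul_assoc]) (hne z a ha naz) hb1 (Ne.symm hne')
    (by rw [Units.val_mul, det_mul, dz, da, one_mul]) db
  rw [Units.val_mul] at h12
  set Z : Matrix (Fin 3) (Fin 3) F := (z : Matrix (Fin 3) (Fin 3) F)
  set A : Matrix (Fin 3) (Fin 3) F := (a : Matrix (Fin 3) (Fin 3) F)
  set B : Matrix (Fin 3) (Fin 3) F := (b : Matrix (Fin 3) (Fin 3) F)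
  have hZA : Z * A = -1 - Z - A := by linear_combination (norm := abel) r1
  have hZAB : Z * A * B = 2 • (1 : Matrix (Fin 3) (Fin 3) F) + Z + A + B := by
    rw [hZA, sub_mul, sub_mul, neg_mul, Matrix.one_mul,
      show Z * B = -1 - Z - B by linear_combination (norm := abel) r2,
      show A * B = -1 - A - B by linear_combination (norm := abel) r3]
    abel
  rw [hZAB, hZA] at h12
  have : (2 : ℕ) • (1 : Matrix (Fin 3) (Fin 3) F) + (2 : ℕ) • B = 0 := by linear_combination (norm := abel) h12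
  have e2 : (2 : F) • ((1 : Matrix (Fin 3) (Fin 3) F) + B) = 0 := by
    rw [smul_add, ← this, ← Nat.cast_smul_eq_nsmul F, ← Nat.cast_smul_eq_nsmul F, Nat.cast_ofNat]
  have hB := eq_neg_of_add_eq_zero_right ((smul_eq_zero.1 e2).resolve_left h2)
  have := db
  rw [hB, det_neg, det_one, Fintype.card_fin] at this
  exact h2 (by linear_combination -this)

/-- Two plane matrices commuting with a non-scalar one commute. -/
theorem comm_of_comm_nonscalar (h2 : (2 : F) ≠ 0) {M A B : Matrix (Fin 2) (Fin 2) F} (hM : ¬ IsScal M)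
    (ha : M * A = A * M) (hb : M * B = B * M) : A * B = B * A := by
  set m0 : Matrix (Fin 2) (Fin 2) F := (2 : F) • M - M.trace • 1
  have hm0 : m0 ≠ 0 := fun e => hM ⟨M.trace / 2, by
    have e' : (2 : F) • M = M.trace • (1 : Matrix (Fin 2) (Fin 2) F) := sub_eq_zero.1 e
    calc M = (2 : F)⁻¹ • ((2 : F) • M) := by rw [smul_smul, inv_mul_cancel₀ h2, one_smul]
      _ = _ := by rw [e', smul_smul, div_eq_inv_mul]⟩
  have hkey : ∀ X : Matrix (Fin 2) (Fin 2) F, M * X = X * M → ∃ α : F, (2 : F) • X - X.trace • 1 = α • m0 := by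
    intro X hX
    refine prop_of_comm_traceless hm0 (by simp [m0, Matrix.trace, Fin.sum_univ_two]; ring)
      (by simp [Matrix.trace, Fin.sum_univ_two]; ring) h2 ?_
    simp only [m0, Matrix.mul_sub, Matrix.sub_mul, Matrix.mul_smul, Matrix.smul_mul, Matrix.mul_one, Matrix.one_mul,
      smul_sub, smul_smul, hX]
    module
  obtain ⟨x, hx⟩ := hkey A ha
  obtain ⟨y, hy⟩ := hkey B hb
  have hab : ((2 : F) • A - A.trace • (1 : Matrix (Fin 2) (Fin 2) F)) * ((2 : F) • B - B.trace • 1) =
      ((2 : F) • B - B.trace • (1 : Matrix (Fin 2) (Fin 2) F)) * ((2 : F) • A - A.trace • 1) := by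
    rw [hx, hy]; simp only [Matrix.smul_mul, Matrix.mul_smul, smul_smul, mul_comm]
  simp only [Matrix.mul_sub, Matrix.sub_mul, Matrix.mul_smul, Matrix.smul_mul, Matrix.mul_one, Matrix.one_mul,
    smul_sub, smul_smul] at hab
  have h4 : (2 * 2 : F) • (A * B) = (2 * 2 : F) • (B * A) := by linear_combination (norm := module) hab
  exact smul_right_injective _ (mul_ne_zero h2 h2) h4

section Split

variable (B : GL (Fin 3) F)

/-- The centraliser of an involution given by a frame. -/
def splitGroup : Subgroup (GL (Fin 3) F) where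
  carrier := {g | ∀ i j, CfsgLib.PSLThree.dvec (F := F) i ≠ CfsgLib.PSLThree.dvec (F := F) j →
    (((B⁻¹ * g * B : GL (Fin 3) F)) : Matrix (Fin 3) (Fin 3) F) i j = 0}
  one_mem' := fun i j hij => by
    rw [mul_one, inv_mul_cancel, Units.val_one, Matrix.one_apply_ne]
    rintro rfl; exact hij rfl
  mul_mem' := fun {a b} ha hb i j hij => by
    rw [show B⁻¹ * (a * b) * B = (B⁻¹ * a * B) * (B⁻¹ * b * B) by group, Units.val_mul, Matrix.mul_apply]
    refine Finset.sum_eq_zero fun k _ => ?_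
    by_cases hik : CfsgLib.PSLThree.dvec (F := F) i = CfsgLib.PSLThree.dvec (F := F) k
    · rw [hb k j (fun e => hij (hik.trans e)), mul_zero]
    · rw [ha i k hik, zero_mul]
  inv_mem' := fun {a} ha => by
    set D : Matrix (Fin 3) (Fin 3) F := diagonal (CfsgLib.PSLThree.dvec (F := F))
    set A := B⁻¹ * a * B with hA
    have hc : D * (A : Matrix (Fin 3) (Fin 3) F) = (A : Matrix (Fin 3) (Fin 3) F) * D := by
      ext i j
      rw [diagonal_mul, mul_diagonal]
      by_cases hij : CfsgLib.PSLThree.dvec (F := F) i = CfsgLib.PSLThree.dvec (F := F) j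
      · rw [hij, mul_comm]
      · rw [ha i j hij]; simp
    intro i j hij
    rw [show B⁻¹ * a⁻¹ * B = A⁻¹ by rw [hA]; group]
    set Ai : Matrix (Fin 3) (Fin 3) F := ((A⁻¹ : GL (Fin 3) F) : Matrix (Fin 3) (Fin 3) F) with hAi
    have hc' : Ai * D = D * Ai := by
      have e1 : Ai * (D * (A : Matrix (Fin 3) (Fin 3) F)) * Ai = Ai * ((A : Matrix (Fin 3) (Fin 3) F) * D) * Ai := by
        rw [hc]
      rw [hAi] at e1 ⊢
      rw [Matrix.mul_assoc, Matrix.mul_assoc D, Units.mul_inv, Matrix.mul_one, ← Matrix.mul_assoc _ _ D,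
        Units.inv_mul, Matrix.one_mul] at e1
      exact e1
    have e := congrFun (congrFun hc' i) j
    rw [diagonal_mul, mul_diagonal] at e
    have : (CfsgLib.PSLThree.dvec (F := F) j - CfsgLib.PSLThree.dvec (F := F) i) * Ai i j = 0 := by linear_combination e
    exact (mul_eq_zero.1 this).resolve_left (sub_ne_zero.2 (Ne.symm hij))

variable (h2 : (2 : F) ≠ 0)
include h2

theorem split_zero {g : GL (Fin 3) F} (hg : g ∈ splitGroup B) :
    ((B⁻¹ * g * B : GL (Fin 3) F) : Matrix (Fin 3) (Fin 3) F) 0 2 = 0 ∧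
    ((B⁻¹ * g * B : GL (Fin 3) F) : Matrix (Fin 3) (Fin 3) F) 1 2 = 0 ∧
    ((B⁻¹ * g * B : GL (Fin 3) F) : Matrix (Fin 3) (Fin 3) F) 2 0 = 0 ∧
    ((B⁻¹ * g * B : GL (Fin 3) F) : Matrix (Fin 3) (Fin 3) F) 2 1 = 0 := by
  have hne : (-1 : F) ≠ 1 := fun e => h2 (by linear_combination -e)
  refine ⟨hg 0 2 ?_, hg 1 2 ?_, hg 2 0 ?_, hg 2 1 ?_⟩ <;> simp [CfsgLib.PSLThree.dvec, hne, hne.symm]

/-- The action on the negated plane. -/
def splitPlane : ↥(splitGroup B) →* GL (Fin 2) F :=
  MonoidHom.toHomUnits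
    { toFun := fun g => Matrix.of fun i j : Fin 2 =>
        ((B⁻¹ * (g : GL (Fin 3) F) * B : GL (Fin 3) F) : Matrix (Fin 3) (Fin 3) F) i.castSucc j.castSucc
      map_one' := by
        ext i j
        rw [OneMemClass.coe_one, mul_one, inv_mul_cancel, Units.val_one]
        simp [Matrix.one_apply]
      map_mul' := fun a b => by
        ext i j
        rw [Subgroup.coe_mul, show B⁻¹ * ((a : GL (Fin 3) F) * b) * B =
          (B⁻¹ * (a : GL (Fin 3) F) * B) * (B⁻¹ * (b : GL (Fin 3) F) * B) by group, Units.val_mul]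
        obtain ⟨-, -, b0, b1⟩ := split_zero B h2 b.2
        rw [Matrix.mul_apply, Matrix.of_apply, Matrix.mul_apply, Fin.sum_univ_three, Fin.sum_univ_two]
        fin_cases j <;> simp [b0, b1] }

theorem split_ext {g h : ↥(splitGroup B)} (hp : splitPlane B h2 g = splitPlane B h2 h)
    (hl : ((B⁻¹ * (g : GL (Fin 3) F) * B : GL (Fin 3) F) : Matrix (Fin 3) (Fin 3) F) 2 2 =
      ((B⁻¹ * (h : GL (Fin 3) F) * B : GL (Fin 3) F) : Matrix (Fin 3) (Fin 3) F) 2 2) : g = h := by
  have hp' := congrArg (fun x : GL (Fin 2) F => (x : Matrix (Fin 2) (Fin 2) F)) hp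
  obtain ⟨g0, g1, g2, g3⟩ := split_zero B h2 g.2
  obtain ⟨k0, k1, k2, k3⟩ := split_zero B h2 h.2
  have e00 := congrFun (congrFun hp' 0) 0
  have e01 := congrFun (congrFun hp' 0) 1
  have e10 := congrFun (congrFun hp' 1) 0
  have e11 := congrFun (congrFun hp' 1) 1
  have : (B⁻¹ * (g : GL (Fin 3) F) * B : GL (Fin 3) F) = B⁻¹ * (h : GL (Fin 3) F) * B := by
    refine Units.ext ?_
    ext i j
    fin_cases i <;> fin_cases j
    · exact e00
    · exact e01
    · exact g0.trans k0.symm
    · exact e10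
    · exact e11
    · exact g1.trans k1.symm
    · exact g2.trans k2.symm
    · exact g3.trans k3.symm
    · exact hl
  exact Subtype.ext (mul_left_cancel (mul_right_cancel this))

theorem split_line_mul (a b : ↥(splitGroup B)) :
    ((B⁻¹ * ((a * b : ↥(splitGroup B)) : GL (Fin 3) F) * B : GL (Fin 3) F) : Matrix (Fin 3) (Fin 3) F) 2 2 =
      ((B⁻¹ * (a : GL (Fin 3) F) * B : GL (Fin 3) F) : Matrix (Fin 3) (Fin 3) F) 2 2 *
      ((B⁻¹ * (b : GL (Fin 3) F) * B : GL (Fin 3) F) : Matrix (Fin 3) (Fin 3) F) 2 2 := by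
  obtain ⟨-, -, a0, a1⟩ := split_zero B h2 a.2
  rw [Subgroup.coe_mul, show B⁻¹ * ((a : GL (Fin 3) F) * b) * B =
    (B⁻¹ * (a : GL (Fin 3) F) * B) * (B⁻¹ * (b : GL (Fin 3) F) * B) by group, Units.val_mul, Matrix.mul_apply,
    Fin.sum_univ_three, a0, a1]
  ring

theorem split_det (g : ↥(splitGroup B)) :
    (((g : GL (Fin 3) F)) : Matrix (Fin 3) (Fin 3) F).det =
      ((B⁻¹ * (g : GL (Fin 3) F) * B : GL (Fin 3) F) : Matrix (Fin 3) (Fin 3) F) 2 2 *
        ((splitPlane B h2 g : GL (Fin 2) F) : Matrix (Fin 2) (Fin 2) F).det := by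
  obtain ⟨g0, g1, g2, g3⟩ := split_zero B h2 g.2
  have e : ((B⁻¹ * (g : GL (Fin 3) F) * B : GL (Fin 3) F) : Matrix (Fin 3) (Fin 3) F).det =
      (((g : GL (Fin 3) F)) : Matrix (Fin 3) (Fin 3) F).det := by
    rw [Units.val_mul, Units.val_mul, Matrix.det_units_conj']
  rw [← e, Matrix.det_fin_three, g0, g1, g2, g3, Matrix.det_fin_two]
  show _ = _ * (((B⁻¹ * (g : GL (Fin 3) F) * B : GL (Fin 3) F) : Matrix (Fin 3) (Fin 3) F) 0 0 *
      ((B⁻¹ * (g : GL (Fin 3) F) * B : GL (Fin 3) F) : Matrix (Fin 3) (Fin 3) F) 1 1 -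
    ((B⁻¹ * (g : GL (Fin 3) F) * B : GL (Fin 3) F) : Matrix (Fin 3) (Fin 3) F) 0 1 *
      ((B⁻¹ * (g : GL (Fin 3) F) * B : GL (Fin 3) F) : Matrix (Fin 3) (Fin 3) F) 1 0)
  ring

end Split

end CfsgLib.MaxSub.HeisFive
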