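/-
The kernel of the action on the plane is scalar when the other kernel is small.
-/
import Cfsg.Agent.Lib.MaxSub.HeisFive.Ctx
import Cfsg.Agent.Lib.MaxSub.HeisFive.Plane3
import Cfsg.Agent.Lib.AfterFT.MetacyclicSylowTwo
import Cfsg.Agent.Lib.OddOrder.FeitThompson

set_option autoImplicit false
set_option linter.unusedSectionVars false
set_option linter.style.haveILetI false
set_option maxHeartbeats 800000

namespace CfsgLib.MaxSub.HeisFive

open Matrix

variable {F : Type*} [Field F] [NeZero (2 : F)]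

/-- A five-element power. -/
theorem exists_five_part {G : Type*} [Group G] [Finite G] (n : G) :
    ∃ e k : ℕ, (n ^ e) ^ 5 ^ k = 1 ∧ e % 5 = 1 := by
  obtain ⟨a, b, hb, hn⟩ := Nat.exists_eq_pow_mul_and_not_dvd (orderOf_pos n).ne' 5 (by norm_num)
  refine ⟨b ^ 4, a, ?_, ?_⟩
  · rw [← pow_mul]
    refine orderOf_dvd_iff_pow_eq_one.1 ?_
    rw [hn, mul_comm (b ^ 4)]
    exact Nat.mul_dvd_mul_left _ (dvd_pow_self b (by norm_num))
  · rw [Nat.pow_mod]
    have hlt := Nat.mod_lt b (by norm_num : 0 < 5)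
    have h0 : b % 5 ≠ 0 := fun e => hb (Nat.dvd_of_mod_eq_zero e)
    interval_cases b % 5 <;> simp_all

theorem pow_eq_self_of_mod {G : Type*} [Group G] {x : G} (hx : x ^ 5 = 1) {e : ℕ} (he : e % 5 = 1) : x ^ e = x := by
  conv_lhs => rw [← Nat.div_add_mod e 5, pow_add, pow_mul, hx, one_pow, one_mul, he, pow_one]

variable [Finite F] {ω : F} {H : Subgroup (GL (Fin 5) F)} (O : Over ω H)
include O

/-- The kernel on the plane acts by scalars on the three-space if the other kernel is small. -/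
theorem kernel_scalar
    (hK2 : ∀ g : ↥(cenJ H), pA O.h2 H g = 1 → bn ((g : GL (Fin 5) F) : Matrix (Fin 5) (Fin 5) F) = 1 ∨
      bn ((g : GL (Fin 5) F) : Matrix (Fin 5) (Fin 5) F) = -1)
    (g : ↥(cenJ H)) (hg : pB O.h2 H g = 1) : IsScal ((pA O.h2 H g : GL (Fin 3) F) : Matrix (Fin 3) (Fin 3) F) := by
  classical
  have h2 := O.h2
  haveI : Fact (Nat.Prime 2) := ⟨Nat.prime_two⟩
  set N : Subgroup ↥(cenJ H) := (pB O.h2 H).ker with hN
  haveI : N.Normal := MonoidHom.normal_ker _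
  have hinj : ∀ a ∈ N, ∀ b ∈ N, pA O.h2 H a = pA O.h2 H b → a = b := fun a ha b hb e =>
    blocks_inj h2 e ((MonoidHom.mem_ker.1 ha).trans (MonoidHom.mem_ker.1 hb).symm)
  set S := N.map (pA O.h2 H) with hS
  have hnorm : ∀ c : ↥(cenJ H), ∀ s ∈ S, pA O.h2 H c * s * (pA O.h2 H c)⁻¹ ∈ S := by
    rintro c _ ⟨a, ha, rfl⟩
    exact ⟨c * a * c⁻¹, (inferInstance : N.Normal).conj_mem a ha c, by rw [map_mul, map_mul, map_inv]⟩
  suffices hsol : Group.IsSolvable ↥N by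
    haveI := hsol
    have hsolS : Group.IsSolvable ↥S := solvable_of_surjective (MonoidHom.subgroupMap_surjective (pA O.h2 H) N)
    exact soluble_three_scalar O.root _ _ O.pA_W O.pA_V S hsolS (hnorm _) (hnorm _) _ ⟨g, MonoidHom.mem_ker.2 hg, rfl⟩
  by_contra hns
  obtain ⟨P⟩ := (inferInstance : Nonempty (Sylow 2 ↥N))
  have hPc : ¬ IsCyclic (P : Subgroup ↥N) := fun hc => hns
    (CfsgLib.AfterFT.Metacyclic.solvable_of_complement (fun K _ _ hK => CfsgLib.OddOrder.feitThompson hK)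
      (CfsgLib.HSub.hasNormalPComplement_of_cyclic (fun q hq _ => hq.two_le) P hc))
  set PC := (P : Subgroup ↥N).map N.subtype with hPC
  have hPCN : PC ≤ N := Subgroup.map_subtype_le _
  -- five-elements normalising the Sylow group
  have lift : ∀ c : ↥(cenJ H), c ^ 5 = 1 → ∃ l : ↥(cenJ H), pB O.h2 H l = pB O.h2 H c ∧
      (∃ k, l ^ 5 ^ k = 1) ∧ ∀ x ∈ PC, l * x * l⁻¹ ∈ PC := by
    intro c hc
    have hmem : c ∈ Subgroup.normalizer (PC : Set ↥(cenJ H)) ⊔ N := by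
      rw [hPC, Sylow.normalizer_sup_eq_top]; exact Subgroup.mem_top _
    obtain ⟨n, hn, a, ha, rfl⟩ := Subgroup.mem_sup_of_normal_right.1 hmem
    have hB : pB O.h2 H n = pB O.h2 H (n * a) := by rw [map_mul, MonoidHom.mem_ker.1 ha, mul_one]
    obtain ⟨e, k, hk, he⟩ := exists_five_part n
    refine ⟨n ^ e, ?_, ⟨k, hk⟩, fun x hx => ?_⟩
    · rw [map_pow, hB]
      exact pow_eq_self_of_mod (by rw [← map_pow, hc, map_one]) he
    · exact (Subgroup.mem_normalizer_iff.1 (Subgroup.pow_mem _ hn e) x).1 hx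
  obtain ⟨lw, hlw, ⟨kw, hkw⟩, hlwP⟩ := lift _ O.cW_pow
  obtain ⟨lv, hlv, ⟨kv, hkv⟩, hlvP⟩ := lift _ O.cV_pow
  have hnc : pA O.h2 H lw * pA O.h2 H lv ≠ pA O.h2 H lv * pA O.h2 H lw := by
    intro e
    have h1 : pA O.h2 H (lw * lv * (lv * lw)⁻¹) = 1 := by
      rw [map_mul, map_inv, map_mul, map_mul, e, mul_inv_cancel]
    have e1 : ((pB O.h2 H (lw * lv) : GL (Fin 2) F) : Matrix (Fin 2) (Fin 2) F) =
        ((pB O.h2 H (lw * lv * (lv * lw)⁻¹) : GL (Fin 2) F) : Matrix (Fin 2) (Fin 2) F) *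
          ((pB O.h2 H (lv * lw) : GL (Fin 2) F) : Matrix (Fin 2) (Fin 2) F) := by
      rw [← Units.val_mul, ← map_mul, inv_mul_cancel_right]
    rw [pB_val h2 (lw * lv * (lv * lw)⁻¹), map_mul, map_mul, Units.val_mul, Units.val_mul, hlw, hlv, O.pB_W, O.pB_V] at e1
    have hwv : wM ω * vM ω = vM ω * wM ω := comm_of_sign (by rw [det_wM O.root]; exact one_ne_zero)
      (by rw [trace_vM O.root]; exact trace_wM_ne O.root) h2 (by
        rcases hK2 _ h1 with e2 | e2 <;> rw [e2] at e1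
        · exact Or.inl (by rw [e1, Matrix.one_mul])
        · exact Or.inr (by rw [e1, Matrix.neg_mul, Matrix.one_mul]))
    exact (vM_off O.root).1 (diag_of_comm O.root hwv.symm).1
  -- the image in the three-space
  set P3 := PC.map (pA O.h2 H) with hP3
  have hP32 : IsPGroup 2 ↥P3 := (P.2.map N.subtype).map (pA O.h2 H)
  have hdet : ∀ x ∈ P3, ((x : GL (Fin 3) F) : Matrix (Fin 3) (Fin 3) F).det = 1 := by
    rintro _ ⟨a, ha, rfl⟩
    have := O.det_pA_pB a
    rwa [MonoidHom.mem_ker.1 (hPCN ha), Units.val_one, det_one, mul_one] at this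
  have hconj : ∀ l, (∀ x ∈ PC, l * x * l⁻¹ ∈ PC) → ∀ x ∈ P3, pA O.h2 H l * x * (pA O.h2 H l)⁻¹ ∈ P3 := by
    rintro l hl _ ⟨a, ha, rfl⟩
    exact ⟨l * a * l⁻¹, hl a ha, by rw [map_mul, map_mul, map_inv]⟩
  let f : (P : Subgroup ↥N) →* GL (Fin 3) F := ((pA O.h2 H).comp N.subtype).comp (P : Subgroup ↥N).subtype
  have hf : Function.Injective f := fun a b e => Subtype.ext (Subtype.ext (hinj _ (a : ↥N).2 _ (b : ↥N).2 e))
  have hfP : ∀ a, f a ∈ P3 := fun a => ⟨_, ⟨a.1, a.2, rfl⟩, rfl⟩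
  haveI : Nontrivial ↥P3 := by
    rw [Subgroup.nontrivial_iff_ne_bot]
    intro e
    refine hPc ?_
    haveI : Subsingleton (P : Subgroup ↥N) := ⟨fun a b => hf (by
      have ha := hfP a
      have hb := hfP b
      rw [e, Subgroup.mem_bot] at ha hb
      rw [ha, hb])⟩
    exact isCyclic_of_subsingleton
  -- a central involution fixed by both
  haveI := hP32.center_nontrivial
  obtain ⟨z, hz⟩ := exists_prime_orderOf_dvd_card' (G := Subgroup.center ↥P3) 2 (by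
    have hcp : IsPGroup 2 ↥(Subgroup.center ↥P3) := hP32.to_subgroup _
    obtain ⟨k, hk⟩ := hcp.exists_card_eq
    rcases k with _ | k
    · rw [pow_zero] at hk
      exact absurd hk (Finite.one_lt_card).ne'
    · rw [hk, pow_succ]; exact Dvd.intro_left _ rfl)
  set E : Set (GL (Fin 3) F) := {x | x ∈ P3 ∧ x * x = 1 ∧ x ≠ 1 ∧ ∀ y ∈ P3, x * y = y * x} with hE
  set zg : GL (Fin 3) F := ((z : ↥P3) : GL (Fin 3) F) with hzg
  have hzE : zg ∈ E := by
    refine ⟨(z : ↥P3).2, ?_, ?_, fun y hy => ?_⟩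
    · have : z * z = 1 := by rw [← pow_two, ← hz]; exact pow_orderOf_eq_one z
      exact congrArg (fun x : Subgroup.center ↥P3 => ((x : ↥P3) : GL (Fin 3) F)) this
    · intro e
      have : z = 1 := Subtype.ext (Subtype.ext e)
      rw [this, orderOf_one] at hz
      norm_num at hz
    · exact congrArg Subtype.val (Subgroup.mem_center_iff.1 z.2 ⟨y, hy⟩).symm
  have hEl : ∀ l, (∀ x ∈ PC, l * x * l⁻¹ ∈ PC) → (∀ x ∈ E, pA O.h2 H l * x * (pA O.h2 H l)⁻¹ ∈ E) := by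
    intro l hl x hx
    obtain ⟨hx3, hxx, hx1, hxc⟩ := hx
    refine ⟨hconj l hl x hx3, by rw [show pA O.h2 H l * x * (pA O.h2 H l)⁻¹ * (pA O.h2 H l * x * (pA O.h2 H l)⁻¹) =
      pA O.h2 H l * (x * x) * (pA O.h2 H l)⁻¹ by group, hxx, mul_one, mul_inv_cancel], fun e => hx1 ?_, fun y hy => ?_⟩
    · rwa [mul_inv_eq_one, mul_eq_left] at e
    · obtain ⟨y', hy', rfl⟩ : ∃ y' ∈ P3, pA O.h2 H l * y' * (pA O.h2 H l)⁻¹ = y := by
        obtain ⟨⟨y', hy'⟩, e⟩ := Finite.surjective_of_injective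
          (f := fun a : ↥P3 => (⟨pA O.h2 H l * a.1 * (pA O.h2 H l)⁻¹, hconj l hl a.1 a.2⟩ : ↥P3))
          (fun a b e => Subtype.ext (by simpa using congrArg Subtype.val e)) ⟨y, hy⟩
        exact ⟨y', hy', congrArg Subtype.val e⟩
      calc _ = pA O.h2 H l * (x * y') * (pA O.h2 H l)⁻¹ := by group
        _ = pA O.h2 H l * (y' * x) * (pA O.h2 H l)⁻¹ := by rw [hxc y' hy']
        _ = _ := by group
  have hfix : ∀ l, (∀ x ∈ PC, l * x * l⁻¹ ∈ PC) → (∃ k, l ^ 5 ^ k = 1) → pA O.h2 H l * zg = zg * pA O.h2 H l := by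
    intro l hl ⟨k, hk⟩
    set L := pA O.h2 H l with hL
    have hLk : L ^ 5 ^ k = 1 := by rw [hL, ← map_pow, hk, map_one]
    have hgo : ∀ m : ℕ, Nat.Coprime m (5 ^ k) → L ^ m * zg = zg * L ^ m → L * zg = zg * L := by
      intro m hm e
      obtain ⟨j, hj⟩ := exists_pow_eq_self_of_coprime (hm.coprime_dvd_right (orderOf_dvd_of_pow_eq_one hLk))
      rw [← hj]
      exact (Commute.pow_left (show Commute (L ^ m) zg from e) j).eq
    by_contra hne
    set a := L * zg * L⁻¹ with ha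
    have haz : zg ≠ a := fun e => hne (mul_inv_eq_iff_eq_mul.1 e.symm)
    set b := L * a * L⁻¹ with hb
    have hab : a ≠ b := fun e => haz (by
      rw [hb] at e
      conv_rhs at e => rw [ha]
      rw [ha] at e
      exact mul_left_cancel (mul_right_cancel e))
    have haE := hEl l hl _ hzE
    have hbE := hEl l hl _ haE
    by_cases hbz : zg = b
    · refine hne (hgo 2 (Nat.Coprime.pow_right k (by norm_num)) ?_)
      rw [← mul_inv_eq_iff_eq_mul]
      conv_rhs => rw [hbz, hb, ha]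
      rw [pow_two]
      group
    have hb' : b = zg * a := third_involution h2 (z := zg) (a := a) (b := b) (by
        rintro x (rfl | rfl | rfl)
        exacts [hdet _ hzE.1, hdet _ haE.1, hdet _ hbE.1])
      hzE.2.1 haE.2.1 hbE.2.1 hzE.2.2.1 haE.2.2.1 hbE.2.2.1 (hzE.2.2.2 a haE.1) (hzE.2.2.2 b hbE.1)
      (haE.2.2.2 b hbE.1) haz hbz hab
    refine hne (hgo 3 (Nat.Coprime.pow_right k (by norm_num)) ?_)
    rw [← mul_inv_eq_iff_eq_mul]
    calc L ^ 3 * zg * (L ^ 3)⁻¹ = L * b * L⁻¹ := by rw [hb, ha, pow_succ', pow_two]; group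
      _ = a * b := by rw [hb', show L * (zg * a) * L⁻¹ = (L * zg * L⁻¹) * (L * a * L⁻¹) by group, ← ha, ← hb, hb']
      _ = zg := by
        rw [hb', ← mul_assoc, ← hzE.2.2.2 a haE.1, mul_assoc, haE.2.1, mul_one]
  have hzw := hfix lw hlwP ⟨kw, hkw⟩
  have hzv := hfix lv hlvP ⟨kv, hkv⟩
  -- the frame
  set T : Matrix (Fin 3) (Fin 3) F := (zg : Matrix (Fin 3) (Fin 3) F)
  haveI : Fintype F := Fintype.ofFinite F
  obtain ⟨B, hB⟩ := CfsgLib.PSLThree.exists_diag_form h2 (T := T) (by rw [← Units.val_mul, hzE.2.1, Units.val_one])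
    (hdet _ hzE.1) (fun e => hzE.2.2.1 (Units.ext e))
  have hsplit : ∀ x : GL (Fin 3) F, x * zg = zg * x → x ∈ splitGroup B := by
    intro x hx i j hij
    set X : GL (Fin 3) F := B⁻¹ * x * B with hX
    have hzg' : ((B⁻¹ * zg * B : GL (Fin 3) F) : Matrix (Fin 3) (Fin 3) F) = diagonal (CfsgLib.PSLThree.dvec (F := F)) := by
      rw [Units.val_mul, Units.val_mul, show (zg : Matrix (Fin 3) (Fin 3) F) = T from rfl, hB, ← Matrix.mul_assoc,
        ← Matrix.mul_assoc, Units.inv_mul, Matrix.one_mul, Matrix.mul_assoc, Units.inv_mul, Matrix.mul_one]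
    have hc : X * (B⁻¹ * zg * B) = (B⁻¹ * zg * B) * X := by
      rw [hX]
      calc _ = B⁻¹ * (x * zg) * B := by group
        _ = B⁻¹ * (zg * x) * B := by rw [hx]
        _ = _ := by group
    have e : ((X * (B⁻¹ * zg * B) : GL (Fin 3) F) : Matrix (Fin 3) (Fin 3) F) i j =
        (((B⁻¹ * zg * B) * X : GL (Fin 3) F) : Matrix (Fin 3) (Fin 3) F) i j := by rw [hc]
    rw [Units.val_mul X, Units.val_mul _ X, hzg', mul_diagonal, diagonal_mul] at e
    have : (CfsgLib.PSLThree.dvec (F := F) i - CfsgLib.PSLThree.dvec (F := F) j) *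
        (X : Matrix (Fin 3) (Fin 3) F) i j = 0 := by linear_combination -e
    exact (mul_eq_zero.1 this).resolve_left (sub_ne_zero.2 hij)
  let lw3 : ↥(splitGroup B) := ⟨pA O.h2 H lw, hsplit _ hzw⟩
  let lv3 : ↥(splitGroup B) := ⟨pA O.h2 H lv, hsplit _ hzv⟩
  have hPsplit : P3 ≤ splitGroup B := fun x hx => hsplit x (hzE.2.2.2 x hx).symm
  let q : ↥P3 →* GL (Fin 2) F := (splitPlane B h2).comp (Subgroup.inclusion hPsplit)
  set a2 := splitPlane B h2 lw3
  set b2 := splitPlane B h2 lv3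
  have hne2 : a2 * b2 ≠ b2 * a2 := fun e => hnc (congrArg Subtype.val (show lw3 * lv3 = lv3 * lw3 from
    split_ext B h2 (by rw [map_mul, map_mul]; exact e) (by rw [split_line_mul B h2, split_line_mul B h2, mul_comm])))
  have h5of : ∀ l : ↥(cenJ H), ∀ hl : pA O.h2 H l ∈ splitGroup B, (∃ k, l ^ 5 ^ k = 1) →
      ∃ k, (splitPlane B h2 ⟨_, hl⟩) ^ 5 ^ k = 1 := fun l hl ⟨k, hk⟩ => ⟨k, by
    rw [← map_pow, show (⟨pA O.h2 H l, hl⟩ : ↥(splitGroup B)) ^ 5 ^ k = 1 from Subtype.ext (by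
      rw [SubmonoidClass.coe_pow, ← map_pow, hk, map_one]; rfl), map_one]⟩
  have hscal : ∀ x ∈ q.range, IsScal ((x : GL (Fin 2) F) : Matrix (Fin 2) (Fin 2) F) := by
    refine soluble_scalar Nat.prime_two (by norm_num) {a2, b2} ?_ (fun M hM => ?_) (fun S => IsPGroup 2 ↥S)
      (fun S T hS hTS => hS.to_le hTS)
      (fun S hS hab hL => abelian_two_scalar h2 {a2, b2} ?_ ⟨a2, Set.mem_insert _ _, b2, Set.mem_insert_of_mem _ rfl, hne2⟩
        S hS hab hL) q.range ?_ ?_ ?_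
    · rintro l (rfl | rfl)
      exacts [h5of lw _ ⟨kw, hkw⟩, h5of lv _ ⟨kv, hkv⟩]
    · by_contra hM'
      exact hne2 (Units.ext (by
        rw [Units.val_mul, Units.val_mul]
        exact comm_of_comm_nonscalar h2 hM' (hM a2 (Set.mem_insert _ _)) (hM b2 (Set.mem_insert_of_mem _ rfl))))
    · rintro l (rfl | rfl)
      exacts [h5of lw _ ⟨kw, hkw⟩, h5of lv _ ⟨kv, hkv⟩]
    · exact hP32.of_surjective q.rangeRestrict q.rangeRestrict_surjective
    · haveI : Group.IsNilpotent ↥q.range :=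
        (hP32.of_surjective q.rangeRestrict q.rangeRestrict_surjective).isNilpotent
      infer_instance
    · rintro l hl _ ⟨y, rfl⟩
      rcases hl with rfl | rfl
      · refine ⟨⟨pA O.h2 H lw * y.1 * (pA O.h2 H lw)⁻¹, hconj lw hlwP _ y.2⟩, ?_⟩
        exact (congrArg (splitPlane B h2) (Subtype.ext rfl :
          _ = lw3 * Subgroup.inclusion hPsplit y * lw3⁻¹)).trans (by rw [map_mul, map_mul, map_inv]; rfl)
      · refine ⟨⟨pA O.h2 H lv * y.1 * (pA O.h2 H lv)⁻¹, hconj lv hlvP _ y.2⟩, ?_⟩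
        exact (congrArg (splitPlane B h2) (Subtype.ext rfl :
          _ = lv3 * Subgroup.inclusion hPsplit y * lv3⁻¹)).trans (by rw [map_mul, map_mul, map_inv]; rfl)
  refine hPc ?_
  let χ : (P : Subgroup ↥N) →* F :=
    { toFun := fun a => ((q ⟨f a, hfP a⟩ : GL (Fin 2) F) : Matrix (Fin 2) (Fin 2) F) 0 0
      map_one' := by
        rw [show (⟨f 1, hfP 1⟩ : ↥P3) = 1 from Subtype.ext (map_one f), map_one, Units.val_one, Matrix.one_apply_eq]
      map_mul' := fun a b => by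
        rw [show (⟨f (a * b), hfP _⟩ : ↥P3) = ⟨f a, hfP a⟩ * ⟨f b, hfP b⟩ from Subtype.ext (map_mul f a b), map_mul,
          Units.val_mul]
        obtain ⟨c, hc⟩ := hscal _ ⟨⟨f a, hfP a⟩, rfl⟩
        rw [hc, Matrix.smul_mul, Matrix.one_mul, Matrix.smul_apply, Matrix.smul_apply, Matrix.one_apply_eq,
          smul_eq_mul, smul_eq_mul, mul_one] }
  refine isCyclic_of_injective_ringHom χ fun a b e => ?_
  obtain ⟨ca, hca⟩ := hscal _ ⟨⟨f a, hfP a⟩, rfl⟩
  obtain ⟨cb, hcb⟩ := hscal _ ⟨⟨f b, hfP b⟩, rfl⟩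
  have hcab : ca = cb := by
    have e' : ((q ⟨f a, hfP a⟩ : GL (Fin 2) F) : Matrix (Fin 2) (Fin 2) F) 0 0 =
      ((q ⟨f b, hfP b⟩ : GL (Fin 2) F) : Matrix (Fin 2) (Fin 2) F) 0 0 := e
    rw [hca, hcb] at e'
    simpa using e'
  refine hf ?_
  have hpl : q ⟨f a, hfP a⟩ = q ⟨f b, hfP b⟩ := Units.ext (by rw [hca, hcb, hcab])
  have da := split_det B h2 ⟨f a, hPsplit (hfP a)⟩
  have db := split_det B h2 ⟨f b, hPsplit (hfP b)⟩
  rw [hdet _ (hfP a)] at da
  rw [hdet _ (hfP b)] at db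
  have hd0 : ((q ⟨f b, hfP b⟩ : GL (Fin 2) F) : Matrix (Fin 2) (Fin 2) F).det ≠ 0 :=
    ((Matrix.isUnit_iff_isUnit_det _).1 (q ⟨f b, hfP b⟩).isUnit).ne_zero
  have hpa : splitPlane B h2 ⟨f a, hPsplit (hfP a)⟩ = q ⟨f b, hfP b⟩ := hpl
  rw [hpa] at da
  exact congrArg Subtype.val (split_ext B h2 (g := ⟨f a, hPsplit (hfP a)⟩) (h := ⟨f b, hPsplit (hfP b)⟩) hpl
    (mul_right_cancel₀ hd0 (da.symm.trans db)))

end CfsgLib.MaxSub.HeisFive
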