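/-
The special linear group of the negated plane generates the special linear group with the standard normaliser.
-/
import Cfsg.Agent.Lib.MaxSub.HeisFive.Ctx
import Cfsg.Agent.Lib.StSL.Presentation

set_option autoImplicit false
set_option linter.unusedSectionVars false
set_option linter.style.haveILetI false
set_option maxHeartbeats 800000

namespace CfsgLib.MaxSub.HeisFive

open Matrix

variable {F : Type*} [Field F]

/-- The transvection matrix with centre `u` and axis `φ`. -/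
def tv (u φ : Fin 5 → F) : Matrix (Fin 5) (Fin 5) F := 1 + vecMulVec u φ

/-- The group contains a given matrix. -/
def Mem (H : Subgroup (GL (Fin 5) F)) (M : Matrix (Fin 5) (Fin 5) F) : Prop :=
  ∃ g ∈ H, (g : Matrix (Fin 5) (Fin 5) F) = M

section Transvections

variable {H : Subgroup (GL (Fin 5) F)}

theorem tv_mul (u φ v ψ : Fin 5 → F) :
    tv u φ * tv v ψ = 1 + vecMulVec u φ + vecMulVec v ψ + (φ ⬝ᵥ v) • vecMulVec u ψ := by
  rw [tv, tv, add_mul, mul_add, mul_add, Matrix.one_mul, Matrix.mul_one, Matrix.one_mul, vecMulVec_mul_vecMulVec]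
  rw [vecMulVec_smul]
  abel

theorem tv_pow {u φ : Fin 5 → F} (h0 : φ ⬝ᵥ u = 0) (n : ℕ) : tv u φ ^ n = tv u ((n : F) • φ) := by
  induction n with
  | zero => simp [tv]
  | succ n ih =>
    rw [pow_succ, ih, tv_mul, smul_dotProduct, h0, smul_zero, zero_smul, add_zero, tv, add_assoc]
    congr 1
    rw [← vecMulVec_add, Nat.cast_succ, add_smul, one_smul]

theorem mem_conj {u φ u' φ' : Fin 5 → F} (h : Mem H (tv u φ)) {g : GL (Fin 5) F} (hg : g ∈ H)
    (hu : (g : Matrix (Fin 5) (Fin 5) F) *ᵥ u = u') (hφ : φ' ᵥ* (g : Matrix (Fin 5) (Fin 5) F) = φ) :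
    Mem H (tv u' φ') := by
  obtain ⟨t, ht, e⟩ := h
  refine ⟨g * t * g⁻¹, mul_mem (mul_mem hg ht) (inv_mem hg), ?_⟩
  have h1 : (g : Matrix (Fin 5) (Fin 5) F) * tv u φ = tv u' φ' * (g : Matrix (Fin 5) (Fin 5) F) := by
    rw [tv, tv, Matrix.mul_add, Matrix.add_mul, Matrix.mul_one, Matrix.one_mul, mul_vecMulVec, vecMulVec_mul, hu, hφ]
  rw [Units.val_mul, Units.val_mul, e, h1, Matrix.mul_assoc, Units.mul_inv, Matrix.mul_one]

theorem mem_comm {u φ v ψ : Fin 5 → F} (ha : Mem H (tv u φ)) (hb : Mem H (tv v ψ)) (hu : ψ ⬝ᵥ u = 0)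
    (hv : ψ ⬝ᵥ v = 0) : Mem H (tv u ((φ ⬝ᵥ v) • ψ)) := by
  obtain ⟨a, ha, ea⟩ := ha
  obtain ⟨b, hb, eb⟩ := hb
  refine ⟨a * b * (b * a)⁻¹, mul_mem (mul_mem ha hb) (inv_mem (mul_mem hb ha)), ?_⟩
  have h1 : tv u ((φ ⬝ᵥ v) • ψ) * (tv v ψ * tv u φ) = tv u φ * tv v ψ := by
    rw [tv_mul v ψ, hu, zero_smul, add_zero, tv_mul u φ]
    rw [tv, add_mul, Matrix.one_mul, mul_add, mul_add, Matrix.mul_one, vecMulVec_mul_vecMulVec,
      vecMulVec_mul_vecMulVec, smul_dotProduct, smul_dotProduct, hu, hv, smul_zero, zero_smul, vecMulVec_smul]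
    simp only [zero_smul, vecMulVec_zero, add_zero]
    abel
  rw [Units.val_mul, Units.val_mul, ea, eb, ← h1, ← ea, ← eb, ← Units.val_mul b a, Matrix.mul_assoc, Units.mul_inv,
    Matrix.mul_one]

theorem mem_smul (hprime : ∀ c : F, ∃ n : ℕ, (n : F) = c) {u φ : Fin 5 → F} (h0 : φ ⬝ᵥ u = 0)
    (h : Mem H (tv u φ)) (c : F) : Mem H (tv u (c • φ)) := by
  obtain ⟨t, ht, e⟩ := h
  obtain ⟨n, rfl⟩ := hprime c
  exact ⟨t ^ n, pow_mem ht n, by rw [Units.val_pow_eq_pow_val, e, tv_pow h0]⟩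

theorem mem_add {u φ ψ : Fin 5 → F} (hφ : φ ⬝ᵥ u = 0) (h : Mem H (tv u φ)) (h' : Mem H (tv u ψ)) :
    Mem H (tv u (φ + ψ)) := by
  obtain ⟨a, ha, ea⟩ := h
  obtain ⟨b, hb, eb⟩ := h'
  refine ⟨a * b, mul_mem ha hb, ?_⟩
  rw [Units.val_mul, ea, eb, tv_mul, hφ, zero_smul, add_zero, tv, vecMulVec_add, add_assoc]

/-- All transvections with this centre lie in the group. -/
def Full (H : Subgroup (GL (Fin 5) F)) (u : Fin 5 → F) : Prop := ∀ ψ : Fin 5 → F, ψ ⬝ᵥ u = 0 → Mem H (tv u ψ)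

theorem full_smul {u : Fin 5 → F} (hu : Full H u) (c : F) : Full H (c • u) := by
  intro ψ hψ
  by_cases hc : c = 0
  · exact ⟨1, one_mem H, by rw [hc, zero_smul, tv, zero_vecMulVec, add_zero, Units.val_one]⟩
  rw [dotProduct_smul, smul_eq_zero] at hψ
  have := hu (c • ψ) (by rw [smul_dotProduct, hψ.resolve_left hc, smul_zero])
  rwa [tv, vecMulVec_smul, ← smul_vecMulVec] at this

theorem full_map {u : Fin 5 → F} (hu : Full H u) {g : GL (Fin 5) F} (hg : g ∈ H) :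
    Full H ((g : Matrix (Fin 5) (Fin 5) F) *ᵥ u) := fun ψ hψ =>
  mem_conj (hu (ψ ᵥ* (g : Matrix (Fin 5) (Fin 5) F)) (by rw [← dotProduct_mulVec]; exact hψ)) hg rfl rfl

theorem exists_dot {u w : Fin 5 → F} (h : u ∉ Submodule.span F {w}) : ∃ ψ : Fin 5 → F, ψ ⬝ᵥ w = 0 ∧ ψ ⬝ᵥ u = 1 := by
  obtain ⟨f, hfu, hf⟩ := Submodule.exists_dual_map_eq_bot_of_notMem h inferInstance
  have hfw : f w = 0 := by
    rw [← Submodule.mem_bot F, ← hf]
    exact ⟨w, Submodule.mem_span_singleton_self w, rfl⟩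
  refine ⟨(f u)⁻¹ • fun i => f (Pi.single i 1), ?_⟩
  have hval : ∀ x : Fin 5 → F, (fun i => f (Pi.single i 1)) ⬝ᵥ x = f x := fun x => by
    conv_rhs => rw [pi_eq_sum_univ' x]
    rw [map_sum, dotProduct]
    exact Finset.sum_congr rfl fun i _ => by rw [map_smul, smul_eq_mul, mul_comm]
  constructor
  · rw [smul_dotProduct, hval, hfw, smul_zero]
  · rw [smul_dotProduct, hval, smul_eq_mul, inv_mul_cancel₀ hfu]

theorem full_add {u w : Fin 5 → F} (hu : Full H u) (hw : Full H w) : Full H (u + w) := by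
  by_cases hs : u ∈ Submodule.span F {w}
  · obtain ⟨c, rfl⟩ := Submodule.mem_span_singleton.1 hs
    have := full_smul hw (c + 1)
    rwa [add_smul, one_smul] at this
  obtain ⟨ψ, hψw, hψu⟩ := exists_dot hs
  obtain ⟨g, hg, e⟩ := hw ψ hψw
  have := full_map hu hg
  rwa [e, tv, Matrix.add_mulVec, Matrix.one_mulVec, vecMulVec_mulVec, hψu, MulOpposite.op_one, one_smul] at this

end Transvections

variable [NeZero (2 : F)] {ω : F} {H : Subgroup (GL (Fin 5) F)} (O : Over ω H)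
include O

theorem top_of_plane (hprime : ∀ c : F, ∃ n : ℕ, (n : F) = c)
    (hSL : ∀ s : Matrix.SpecialLinearGroup (Fin 2) F, ∃ g ∈ cenJ H,
      bp (g : Matrix (Fin 5) (Fin 5) F) = 1 ∧ bn (g : Matrix (Fin 5) (Fin 5) F) = s.1)
    (s : Matrix.SpecialLinearGroup (Fin 5) F) : Matrix.SpecialLinearGroup.toGL s ∈ H := by
  classical
  have r := O.root
  have h2 := O.h2
  -- transvections of the plane
  have plane : ∀ a b : Fin 2 → F, b ⬝ᵥ a = 0 → Mem H (tv ((En : Matrix (Fin 5) (Fin 2) F) *ᵥ a) (b ᵥ* (Ln : Matrix (Fin 2) (Fin 5) F))) := by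
    intro a b hab
    have hd : (1 + vecMulVec a b).det = 1 := by
      rw [vecMulVec_eq Unit, det_one_add_replicateCol_mul_replicateRow, hab, add_zero]
    obtain ⟨g, hg, hA, hB⟩ := hSL ⟨_, hd⟩
    refine ⟨g, (mem_cenJ.1 hg).1, ?_⟩
    rw [eq_blocks h2 (mem_cenJ.1 hg).2, hA, hB, Matrix.mul_one, Matrix.mul_add, Matrix.add_mul, Matrix.mul_one,
      mul_vecMulVec, vecMulVec_mul, ← add_assoc, Ep_Lp_add h2, tv]
  set u : Fin 5 → F := ![0, 1, 0, 0, -1] with hu
  have hhalf : ∀ (v ψ : Fin 5 → F) (a b : Fin 2 → F), b ⬝ᵥ a = 0 → (En : Matrix (Fin 5) (Fin 2) F) *ᵥ a = v →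
      (2 : F) • (b ᵥ* (Ln : Matrix (Fin 2) (Fin 5) F)) = ψ → ψ ⬝ᵥ v = 0 → Mem H (tv v ψ) := by
    intro v ψ a b hab hv hψ _
    have hb2 : ((2 : F) • b) ⬝ᵥ a = 0 := by rw [smul_dotProduct, hab, smul_zero]
    have := plane a ((2 : F) • b) hb2
    rw [hv, smul_vecMul, hψ] at this
    exact this
  have hφ : Mem H (tv u ![0, 0, 1, -1, 0]) := by
    refine hhalf _ _ ![1, 0] ![0, 1] (by simp [dotProduct]) ?_ ?_ (by simp [u, dotProduct, Fin.sum_univ_five])
    · funext i; fin_cases i <;> simp [En, u, Matrix.mulVec, dotProduct, Fin.sum_univ_two]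
    · funext i; fin_cases i <;> simp [Ln, Matrix.vecMul, dotProduct, Fin.sum_univ_two, h2]
  have h01 : Mem H (tv ![0, 0, 1, -1, 0] ![0, 1, 0, 0, -1]) := by
    refine hhalf _ _ ![0, 1] ![1, 0] (by simp [dotProduct]) ?_ ?_ (by simp [dotProduct, Fin.sum_univ_five])
    · funext i; fin_cases i <;> simp [En, Matrix.mulVec, dotProduct, Fin.sum_univ_two]
    · funext i; fin_cases i <;> simp [Ln, Matrix.vecMul, dotProduct, Fin.sum_univ_two, h2]
  have h11 : Mem H (tv ![0, 1, 1, -1, -1] ![0, 1, -1, 1, -1]) := by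
    refine hhalf _ _ ![1, 1] ![1, -1] (by simp [dotProduct]) ?_ ?_ (by simp [dotProduct, Fin.sum_univ_five])
    · funext i; fin_cases i <;> simp [En, Matrix.mulVec, dotProduct, Fin.sum_univ_two]
    · funext i; fin_cases i <;> simp [Ln, Matrix.vecMul, dotProduct, Fin.sum_univ_two, h2]
  obtain ⟨y, hy, ey⟩ := O.hY
  obtain ⟨x, hx, ex⟩ := O.hX
  have hYv : ∀ v : Fin 5 → F, ∀ i, ((Ym : Matrix (Fin 5) (Fin 5) F) *ᵥ v) i = v (i - 1) := fun v i => by
    simp only [Matrix.mulVec, dotProduct]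
    rw [Finset.sum_eq_single (i - 1)]
    · simp [Ym]
    · intro b _ hb
      have : i ≠ b + 1 := fun e => hb (by rw [e, add_sub_cancel_right])
      simp [Ym, this]
    · simp
  have hvY : ∀ v : Fin 5 → F, ∀ i, (v ᵥ* (Ym : Matrix (Fin 5) (Fin 5) F)) i = v (i + 1) := fun v i => by
    simp only [Matrix.vecMul, dotProduct]
    rw [Finset.sum_eq_single (i + 1)]
    · simp [Ym]
    · intro b _ hb
      simp [Ym, hb]
    · simp
  -- three further axes
  have p1 : Mem H (tv u ![-1, 0, 1, 0, 0]) := by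
    have h := mem_conj h01 hy (u' := ![0, 0, 0, 1, -1]) (φ' := ![-1, 0, 1, 0, 0])
      (by rw [ey]; funext i; rw [hYv]; fin_cases i <;> rfl)
      (by rw [ey]; funext i; rw [hvY]; fin_cases i <;> rfl)
    have h' := mem_smul hprime (by simp [u, dotProduct, Fin.sum_univ_five]) (mem_comm hφ h
      (by simp [u, dotProduct, Fin.sum_univ_five]) (by simp [dotProduct, Fin.sum_univ_five])) (-1)
    have e : ((-1 : F)) • ((![0, 0, 1, -1, 0] : Fin 5 → F) ⬝ᵥ ![0, 0, 0, 1, -1]) • (![-1, 0, 1, 0, 0] : Fin 5 → F) =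
        ![-1, 0, 1, 0, 0] := by simp [dotProduct, Fin.sum_univ_five]
    rwa [e] at h'
  have p2 : Mem H (tv u ![1, -1, 0, 1, -1]) := by
    have h := mem_conj h11 (mul_mem hy hy) (u' := ![-1, -1, 0, 1, 1]) (φ' := ![1, -1, 0, 1, -1])
      (by rw [Units.val_mul, ey, ← Matrix.mulVec_mulVec]; funext i; rw [hYv, hYv]; fin_cases i <;> rfl)
      (by rw [Units.val_mul, ey, ← Matrix.vecMul_vecMul]; funext i; rw [hvY, hvY]; fin_cases i <;> rfl)
    have h' := mem_smul hprime (by simp [u, dotProduct, Fin.sum_univ_five]) (mem_comm hφ h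
      (by simp [u, dotProduct, Fin.sum_univ_five]) (by simp [dotProduct, Fin.sum_univ_five])) (-1)
    have e : ((-1 : F)) • ((![0, 0, 1, -1, 0] : Fin 5 → F) ⬝ᵥ ![-1, -1, 0, 1, 1]) • (![1, -1, 0, 1, -1] : Fin 5 → F) =
        ![1, -1, 0, 1, -1] := by simp [dotProduct, Fin.sum_univ_five]
    rwa [e] at h'
  have p3 : Mem H (tv u ![-1, 0, ω ^ 3, 0, 0]) := by
    have h5 := r.pow_five
    have hXv : ∀ v : Fin 5 → F, ∀ i, ((Xm ω : Matrix (Fin 5) (Fin 5) F) *ᵥ v) i = ω ^ (i : ℕ) * v i :=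
      fun v i => Matrix.mulVec_diagonal _ _ _
    have hvX : ∀ v : Fin 5 → F, ∀ i, (v ᵥ* (Xm ω : Matrix (Fin 5) (Fin 5) F)) i = v i * ω ^ (i : ℕ) :=
      fun v i => Matrix.vecMul_diagonal _ _ _
    have h := mem_conj h01 (mul_mem hx hy) (u' := ![0, 0, 0, ω ^ 3, -ω ^ 4]) (φ' := ![-1, 0, ω ^ 3, 0, 0])
      (by rw [Units.val_mul, ey, ex, ← Matrix.mulVec_mulVec]; funext i; rw [hXv, hYv]; fin_cases i <;> simp)
      (by rw [Units.val_mul, ey, ex, ← Matrix.vecMul_vecMul]; funext i; rw [hvY, hvX]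
          fin_cases i <;> simp [← pow_add, h5])
    have h' := mem_smul hprime (by simp [u, dotProduct, Fin.sum_univ_five]) (mem_comm hφ h
      (by simp [u, dotProduct, Fin.sum_univ_five]) (by simp [dotProduct, Fin.sum_univ_five])) (-(ω ^ 2))
    have e : (-(ω ^ 2) : F) • ((![0, 0, 1, -1, 0] : Fin 5 → F) ⬝ᵥ ![0, 0, 0, ω ^ 3, -ω ^ 4]) •
        (![-1, 0, ω ^ 3, 0, 0] : Fin 5 → F) = ![-1, 0, ω ^ 3, 0, 0] := by
      rw [smul_smul, show -(ω ^ 2) * ((![0, 0, 1, -1, 0] : Fin 5 → F) ⬝ᵥ ![0, 0, 0, ω ^ 3, -ω ^ 4]) = 1 by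
        simp [dotProduct, Fin.sum_univ_five, ← pow_add, h5], one_smul]
    rwa [e] at h'
  have hfull : Full H u := by
    intro c hc
    have hc4 : c 4 = c 1 := by
      simp [u, dotProduct, Fin.sum_univ_five] at hc
      linear_combination -hc
    have hne : ω ^ 3 - 1 ≠ 0 := sub_ne_zero.2 fun e => absurd (r.pow_eq_one e) (by norm_num)
    set k2 := -c 1
    set a := k2 - c 3
    set d := (c 2 - a - k2 + c 0) / (ω ^ 3 - 1)
    set b := k2 - d - c 0
    have e : c = a • (![0, 0, 1, -1, 0] : Fin 5 → F) + (b • (![-1, 0, 1, 0, 0] : Fin 5 → F) +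
        (k2 • (![1, -1, 0, 1, -1] : Fin 5 → F) + d • (![-1, 0, ω ^ 3, 0, 0] : Fin 5 → F))) := by
      have hd : d * (ω ^ 3 - 1) = c 2 - (-c 1 - c 3) - -c 1 + c 0 := div_mul_cancel₀ _ hne
      funext i
      fin_cases i <;> simp [a, b, k2, hc4] <;> first | linear_combination hd | linear_combination -hd | ring1
    rw [e]
    refine mem_add ?_ (mem_smul hprime ?_ hφ a) (mem_add ?_ (mem_smul hprime ?_ p1 b)
      (mem_add ?_ (mem_smul hprime ?_ p2 k2) (mem_smul hprime ?_ p3 d))) <;>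
      simp [u, dotProduct, Fin.sum_univ_five]
  -- all centres
  let S : Submodule F (Fin 5 → F) :=
    { carrier := {w | Full H w}
      add_mem' := fun ha hb => full_add ha hb
      zero_mem' := fun ψ _ => ⟨1, one_mem H, by rw [tv, zero_vecMulVec, add_zero, Units.val_one]⟩
      smul_mem' := fun c _ hw => full_smul hw c }
  have hXS : ∀ w ∈ S, (Xm ω : Matrix (Fin 5) (Fin 5) F) *ᵥ w ∈ S := fun w hw => ex ▸ full_map hw hx
  have hpow : ∀ k : ℕ, ∀ w ∈ S, (fun i : Fin 5 => ω ^ (k * (i : ℕ)) * w i) ∈ S := by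
    intro k
    induction k with
    | zero => intro w hw; simpa using hw
    | succ k ih =>
      intro w hw
      have := hXS _ (ih w hw)
      convert this using 1
      funext i
      rw [Xm, Matrix.mulVec_diagonal, ← mul_assoc, ← pow_add]
      congr 2
      ring
  have he1 : (Pi.single (1 : Fin 5) (1 : F)) ∈ S := by
    have hmem : ∑ k : Fin 5, (ω ^ (4 * (k : ℕ))) • (fun i : Fin 5 => ω ^ ((k : ℕ) * (i : ℕ)) * u i) ∈ S :=
      S.sum_mem fun k _ => S.smul_mem _ (hpow k u hfull)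
    have e : ∑ k : Fin 5, (ω ^ (4 * (k : ℕ))) • (fun i : Fin 5 => ω ^ ((k : ℕ) * (i : ℕ)) * u i) =
        (5 : F) • Pi.single (1 : Fin 5) (1 : F) := by
      funext i
      rw [Finset.sum_apply]
      have : ∀ k : Fin 5, (ω ^ (4 * (k : ℕ)) • fun l : Fin 5 => ω ^ ((k : ℕ) * (l : ℕ)) * u l) i =
          ω ^ ((4 + (i : ℕ)) * (k : ℕ)) * u i := fun k => by
        simp only [Pi.smul_apply, smul_eq_mul]
        rw [← mul_assoc, ← pow_add]
        congr 2
        ring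
      simp only [this]
      rw [← Finset.sum_mul, r.sum_pow]
      fin_cases i <;> simp [u]
    rw [e] at hmem
    exact (S.smul_mem_iff r.five_ne).1 hmem
  have hstep : ∀ l : Fin 5, Pi.single l (1 : F) ∈ S → Pi.single (l + 1) (1 : F) ∈ S := by
    intro l hl
    have h' := full_map hl hy
    rw [ey] at h'
    convert (show _ ∈ S from h') using 1
    funext i
    rw [hYv]
    by_cases hi : i = l + 1
    · subst hi; rw [Pi.single_eq_same, add_sub_cancel_right, Pi.single_eq_same]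
    · rw [Pi.single_eq_of_ne hi, Pi.single_eq_of_ne fun e => hi (by rw [← e, sub_add_cancel])]
  have hall : ∀ i : Fin 5, Full H (Pi.single i 1) := by
    have s2 : Pi.single (2 : Fin 5) (1 : F) ∈ S := hstep 1 he1
    have s3 : Pi.single (3 : Fin 5) (1 : F) ∈ S := hstep 2 s2
    have s4 : Pi.single (4 : Fin 5) (1 : F) ∈ S := hstep 3 s3
    have s0 : Pi.single (0 : Fin 5) (1 : F) ∈ S := hstep 4 s4
    intro i
    fin_cases i
    exacts [s0, he1, s2, s3, s4]
  have hT : H.comap (Matrix.SpecialLinearGroup.toGL : Matrix.SpecialLinearGroup (Fin 5) F →* GL (Fin 5) F) = ⊤ := by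
    rw [eq_top_iff, ← CfsgLib.StSL.closure_transvection_eq_top (K := F) (n := 5) (by norm_num), Subgroup.closure_le]
    rintro _ ⟨i, j, hij, c, rfl⟩
    obtain ⟨g, hg, e⟩ := hall i (c • Pi.single j 1) (by simp [hij.symm])
    show Matrix.SpecialLinearGroup.toGL _ ∈ H
    convert hg using 1
    refine Units.ext ?_
    rw [e]
    show Matrix.transvection i j c = _
    rw [Matrix.transvection, tv]
    congr 1
    ext a b
    rw [vecMulVec_apply, Matrix.single_apply, Pi.smul_apply, smul_eq_mul]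
    by_cases ha : i = a <;> by_cases hb : j = b
    · subst ha; subst hb; simp
    · subst ha; simp [hb, Pi.single_eq_of_ne (Ne.symm hb)]
    · subst hb; simp [ha, Pi.single_eq_of_ne (Ne.symm ha)]
    · simp [ha, Pi.single_eq_of_ne (Ne.symm ha)]
  exact Subgroup.mem_comap.1 (hT ▸ Subgroup.mem_top s)

end CfsgLib.MaxSub.HeisFive
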