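/-
The involution is isolated in a proper overgroup of the standard normaliser.
-/
import Cfsg.Agent.Lib.MaxSub.HeisFive.Kernel
import Cfsg.Agent.Lib.MaxSub.HeisFive.Transv
import Cfsg.Agent.Lib.ZStar.Main

set_option autoImplicit false
set_option linter.unusedSectionVars false
set_option linter.style.haveILetI false
set_option maxHeartbeats 800000

namespace CfsgLib.MaxSub.HeisFive

open Matrix

variable {F : Type*} [Field F] [NeZero (2 : F)]

/-- An involution of the plane is a sign or has trace zero. -/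
theorem plane_involution {M : Matrix (Fin 2) (Fin 2) F} (hM : M * M = 1) :
    M = 1 ∨ M = -1 ∨ M.trace = 0 := by
  by_cases ht : M.trace = 0
  · exact Or.inr (Or.inr ht)
  have hCH : M * M - M.trace • M + M.det • (1 : Matrix (Fin 2) (Fin 2) F) = 0 := by
    ext i j
    fin_cases i <;> fin_cases j <;>
      simp [Matrix.mul_apply, Fin.sum_univ_two, Matrix.trace, Matrix.det_fin_two] <;> ring
  rw [hM] at hCH
  have hs : M.trace • M = (1 + M.det) • (1 : Matrix (Fin 2) (Fin 2) F) := by linear_combination (norm := module) -hCH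
  have hMc : M = (M.trace⁻¹ * (1 + M.det)) • (1 : Matrix (Fin 2) (Fin 2) F) := by
    rw [mul_smul, ← hs, smul_smul, inv_mul_cancel₀ ht, one_smul]
  set c := M.trace⁻¹ * (1 + M.det)
  rw [hMc, Matrix.smul_mul, Matrix.mul_smul, smul_smul, Matrix.one_mul] at hM
  have hc : c * c = 1 := by simpa using congrFun (congrFun hM 0) 0
  rcases mul_self_eq_one_iff.1 hc with e | e
  · exact Or.inl (by rw [hMc, e, one_smul])
  · exact Or.inr (Or.inl (by rw [hMc, e, neg_smul, one_smul]))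

/-- A frame of a reflection of the plane. -/
theorem exists_refl_frame (h2 : (2 : F) ≠ 0) {M : Matrix (Fin 2) (Fin 2) F} (hM : M * M = 1) (ht : M.trace = 0) :
    ∃ P : GL (Fin 2) F, M * (P : Matrix (Fin 2) (Fin 2) F) = (P : Matrix (Fin 2) (Fin 2) F) * diagonal ![1, -1] := by
  have h11 : M 1 1 = -M 0 0 := by rw [Matrix.trace, Fin.sum_univ_two] at ht; exact eq_neg_of_add_eq_zero_right ht
  have h00 : M 0 0 * M 0 0 + M 0 1 * M 1 0 = 1 := by simpa [Matrix.mul_apply, Fin.sum_univ_two] using congrFun (congrFun hM 0) 0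
  have mk : ∀ P : Matrix (Fin 2) (Fin 2) F, P.det ≠ 0 → M * P = P * diagonal ![1, -1] →
      ∃ P : GL (Fin 2) F, M * (P : Matrix (Fin 2) (Fin 2) F) = (P : Matrix (Fin 2) (Fin 2) F) * diagonal ![1, -1] :=
    fun P hP e => ⟨Matrix.GeneralLinearGroup.mkOfDetNeZero P hP, e⟩
  by_cases hb : M 0 1 = 0
  · by_cases hc : M 1 0 = 0
    · rw [hb, zero_mul, add_zero] at h00
      rcases mul_self_eq_one_iff.1 h00 with e | e
      · refine mk 1 (by simp) ?_
        ext i j
        fin_cases i <;> fin_cases j <;> simp [e, hb, hc, h11]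
      · refine mk !![0, 1; 1, 0] (by simp [Matrix.det_fin_two]) ?_
        ext i j
        fin_cases i <;> fin_cases j <;> simp [e, hb, hc, h11, Matrix.mul_apply, Fin.sum_univ_two]
    · refine mk !![1 + M 0 0, M 0 0 - 1; M 1 0, M 1 0] ?_ ?_
      · rw [Matrix.det_fin_two]; simp
        exact fun e => hc ((mul_eq_zero.1 (by linear_combination e : (2 : F) * M 1 0 = 0)).resolve_left h2)
      · ext i j
        fin_cases i <;> fin_cases j <;> simp [Matrix.mul_apply, Fin.sum_univ_two, h11] <;>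
          first | linear_combination h00 | linear_combination -h00 | ring1
  · refine mk !![M 0 1, M 0 1; 1 - M 0 0, -1 - M 0 0] ?_ ?_
    · rw [Matrix.det_fin_two]; simp
      exact fun e => hb ((mul_eq_zero.1 (by linear_combination -e : (2 : F) * M 0 1 = 0)).resolve_left h2)
    · ext i j
      fin_cases i <;> fin_cases j <;> simp [Matrix.mul_apply, Fin.sum_univ_two, h11] <;>
        first | linear_combination h00 | linear_combination -h00 | ring1

variable {ω : F} {H : Subgroup (GL (Fin 5) F)}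

theorem conjJ_mul_self (h : GL (Fin 5) F) : h * Jg * h⁻¹ * (h * Jg * h⁻¹) = 1 := by
  rw [show h * Jg * h⁻¹ * (h * Jg * h⁻¹) = h * (Jg * Jg) * h⁻¹ by group, Jg_mul_self, mul_one, mul_inv_cancel]

variable (O : Over ω H)
include O

theorem trace_conjJ (h : GL (Fin 5) F) : ((h * Jg * h⁻¹ : GL (Fin 5) F) : Matrix (Fin 5) (Fin 5) F).trace = 1 := by
  rw [Units.val_mul, Units.val_mul, Matrix.trace_units_conj, Jg_val, trace_blocks O.h2 rfl, bp, bn, Matrix.mul_assoc,
    Jm_Ep O.h2, Lp_Ep O.h2, Matrix.mul_assoc, Jm_En O.h2, Matrix.mul_neg, Ln_En O.h2, trace_one, trace_neg, trace_one,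
    Fintype.card_fin, Fintype.card_fin]
  norm_num

/-- Elements whose plane part commutes with that of a reflection commute with it. -/
theorem commute_of_plane
    (hker : ∀ g : ↥(cenJ H), pB O.h2 H g = 1 → IsScal ((pA O.h2 H g : GL (Fin 3) F) : Matrix (Fin 3) (Fin 3) F))
    {s g : ↥(cenJ H)} (hs : ((pA O.h2 H s : GL (Fin 3) F) : Matrix (Fin 3) (Fin 3) F).trace = 1)
    (hc : pB O.h2 H g * pB O.h2 H s = pB O.h2 H s * pB O.h2 H g) : g * s = s * g := by
  set k := g * s * (s * g)⁻¹ with hk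
  obtain ⟨c, hc'⟩ := hker k (by rw [hk, map_mul, map_inv, map_mul, map_mul, hc, mul_inv_cancel])
  have e : g * s = k * (s * g) := by rw [hk, inv_mul_cancel_right]
  have eA := congrArg (fun x => ((pA O.h2 H x : GL (Fin 3) F) : Matrix (Fin 3) (Fin 3) F)) e
  simp only [map_mul, Units.val_mul, hc', Matrix.smul_mul, Matrix.one_mul] at eA
  have h1 : c = 1 := by
    have := congrArg (fun M => (M * (((pA O.h2 H g)⁻¹ : GL (Fin 3) F) : Matrix (Fin 3) (Fin 3) F)).trace) eA
    simp only [Matrix.smul_mul, trace_smul, Matrix.trace_units_conj] at this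
    rw [Matrix.mul_assoc, Units.mul_inv, Matrix.mul_one, hs, smul_eq_mul, mul_one] at this
    exact this.symm
  refine blocks_inj O.h2 (Units.ext ?_) (by rw [map_mul, map_mul]; exact hc)
  rw [map_mul, map_mul, Units.val_mul, Units.val_mul, eA, h1, one_smul]

variable [Fintype F]

/-- There is a conjugate of the involution acting on the negated plane as a reflection. -/
theorem exists_refl
    (hbad : ∃ h ∈ H, Jg * (h * Jg * h⁻¹) = h * Jg * h⁻¹ * Jg ∧ h * Jg * h⁻¹ ≠ Jg) :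
    ∃ (h : GL (Fin 5) F) (t s : ↥(cenJ H)), h ∈ H ∧ (t : GL (Fin 5) F) = h * Jg * h⁻¹ ∧ (s : GL (Fin 5) F) = h⁻¹ * Jg * h ∧
      ((pB O.h2 H t : GL (Fin 2) F) : Matrix (Fin 2) (Fin 2) F).trace = 0 ∧
      ((pB O.h2 H s : GL (Fin 2) F) : Matrix (Fin 2) (Fin 2) F).trace = 0 ∧
      ((pA O.h2 H t : GL (Fin 3) F) : Matrix (Fin 3) (Fin 3) F).trace = 1 ∧
      ((pA O.h2 H s : GL (Fin 3) F) : Matrix (Fin 3) (Fin 3) F).trace = 1 := by
  have h2 := O.h2
  have h4 : (4 : F) ≠ 0 := by rw [show (4 : F) = 2 * 2 by norm_num]; exact mul_ne_zero h2 h2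
  set A : ↥(cenJ H) → Matrix (Fin 3) (Fin 3) F := fun g => ((pA O.h2 H g : GL (Fin 3) F) : Matrix (Fin 3) (Fin 3) F) with hA
  set B : ↥(cenJ H) → Matrix (Fin 2) (Fin 2) F := fun g => ((pB O.h2 H g : GL (Fin 2) F) : Matrix (Fin 2) (Fin 2) F) with hB
  have hconj : ∀ h ∈ H, Jg * (h * Jg * h⁻¹) = h * Jg * h⁻¹ * Jg →
      h * Jg * h⁻¹ ∈ cenJ H ∧ h⁻¹ * Jg * h ∈ cenJ H := by
    intro h hh hc
    refine ⟨Subgroup.mem_inf.2 ⟨mul_mem (mul_mem hh O.Jg_mem) (inv_mem hh), Subgroup.mem_centralizer_singleton_iff.2 hc.symm⟩,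
      Subgroup.mem_inf.2 ⟨mul_mem (mul_mem (inv_mem hh) O.Jg_mem) hh, Subgroup.mem_centralizer_singleton_iff.2 ?_⟩⟩
    calc h⁻¹ * Jg * h * Jg = h⁻¹ * (Jg * (h * Jg * h⁻¹)) * h := by group
      _ = h⁻¹ * (h * Jg * h⁻¹ * Jg) * h := by rw [hc]
      _ = _ := by group
  have htr : ∀ t : ↥(cenJ H), ∀ h : GL (Fin 5) F, (t : GL (Fin 5) F) = h * Jg * h⁻¹ →
      (A t).trace + (B t).trace = 1 ∧ A t * A t = 1 ∧ B t * B t = 1 := by
    intro t h e
    refine ⟨?_, ?_, ?_⟩
    · show (bp _).trace + (bn _).trace = 1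
      rw [← trace_blocks h2 (cenJ_comm t), e, trace_conjJ O]
    · have : t * t = 1 := Subtype.ext (by rw [Subgroup.coe_mul, e, conjJ_mul_self]; rfl)
      rw [hA, ← Units.val_mul, ← map_mul, this, map_one, Units.val_one]
    · have : t * t = 1 := Subtype.ext (by rw [Subgroup.coe_mul, e, conjJ_mul_self]; rfl)
      rw [hB, ← Units.val_mul, ← map_mul, this, map_one, Units.val_one]
  have hdetA : ∀ t : ↥(cenJ H), (B t).det = 1 → (A t).det = 1 := fun t hb => by
    have := O.det_pA_pB t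
    rwa [hb, mul_one] at this
  have hJ' : ∀ g : ↥(cenJ H), ((g * O.Jc : ↥(cenJ H)) : GL (Fin 5) F) = (g : GL (Fin 5) F) * Jg := fun g => rfl
  -- equality of the traces
  have hsym : ∀ h t s, h ∈ H → (t : ↥(cenJ H)).1 = h * Jg * h⁻¹ → (s : ↥(cenJ H)).1 = h⁻¹ * Jg * h → (B s).trace = (B t).trace := by
    intro h t s _ et es
    have t1 := (htr t h et).1
    have s1 := (htr s h⁻¹ (by rw [es, inv_inv])).1
    have hX : ∀ g : ↥(cenJ H), (((g : GL (Fin 5) F) * Jg : GL (Fin 5) F) : Matrix (Fin 5) (Fin 5) F).trace =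
        (A g).trace - (B g).trace := by
      intro g
      rw [← hJ', trace_blocks h2 (cenJ_comm (g * O.Jc))]
      show ((pA O.h2 H (g * O.Jc) : GL (Fin 3) F) : Matrix (Fin 3) (Fin 3) F).trace +
        ((pB O.h2 H (g * O.Jc) : GL (Fin 2) F) : Matrix (Fin 2) (Fin 2) F).trace = _
      rw [map_mul, map_mul, Units.val_mul, Units.val_mul, O.pA_Jc, O.pB_Jc, Units.val_one, Matrix.mul_one, Matrix.mul_neg,
        Matrix.mul_one, trace_neg, ← sub_eq_add_neg]
    have e : ((s.1 * Jg : GL (Fin 5) F) : Matrix (Fin 5) (Fin 5) F).trace = ((t.1 * Jg : GL (Fin 5) F) : Matrix (Fin 5) (Fin 5) F).trace := by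
      rw [es, et, Units.val_mul, Units.val_mul, Units.val_mul, Units.val_mul (h * Jg * h⁻¹), Units.val_mul, Units.val_mul,
        Matrix.mul_assoc ((h⁻¹ : GL (Fin 5) F) : Matrix (Fin 5) (Fin 5) F), Matrix.mul_assoc ((h⁻¹ : GL (Fin 5) F) : Matrix (Fin 5) (Fin 5) F),
        Matrix.trace_mul_comm, Matrix.mul_assoc, Matrix.mul_assoc, Matrix.mul_assoc, Matrix.trace_mul_comm]
      simp only [Matrix.mul_assoc]
    rw [hX, hX] at e
    have h' : (2 : F) * ((B s).trace - (B t).trace) = 0 := by linear_combination s1 - t1 - e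
    exact sub_eq_zero.1 ((mul_eq_zero.1 h').resolve_left h2)
  suffices hR : ∃ (h : GL (Fin 5) F) (hh : h ∈ H) (hc : Jg * (h * Jg * h⁻¹) = h * Jg * h⁻¹ * Jg),
      (B ⟨_, (hconj h hh hc).1⟩).trace = 0 by
    obtain ⟨h, hh, hc, ht⟩ := hR
    obtain ⟨m1, m2⟩ := hconj h hh hc
    have hs := (hsym h ⟨_, m1⟩ ⟨_, m2⟩ hh rfl rfl).trans ht
    refine ⟨h, ⟨_, m1⟩, ⟨_, m2⟩, hh, rfl, rfl, ht, hs, ?_, ?_⟩
    · have := (htr ⟨_, m1⟩ h rfl).1
      rwa [ht, add_zero] at this
    · have := (htr ⟨_, m2⟩ h⁻¹ (by simp only [inv_inv])).1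
      rwa [hs, add_zero] at this
  obtain ⟨h, hh, hc, hne⟩ := hbad
  obtain ⟨m1, m2⟩ := hconj h hh hc
  set t : ↥(cenJ H) := ⟨_, m1⟩
  set s : ↥(cenJ H) := ⟨_, m2⟩
  obtain ⟨ttr, tA, tB⟩ := htr t h rfl
  rcases plane_involution tB with eB | eB | eB
  swap
  · -- the conjugate would be the involution itself
    exfalso
    rw [eB, trace_neg, trace_one, Fintype.card_fin] at ttr
    push_cast at ttr
    have hA1 : A t = 1 := by
      by_contra hne1
      have := trace_involution tA (hdetA t (by rw [eB, det_neg, det_one, Fintype.card_fin]; norm_num)) hne1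
      rw [this] at ttr
      exact h4 (by linear_combination -ttr)
    exact hne (congrArg Subtype.val (blocks_inj h2 (a := t) (b := O.Jc) (Units.ext (by rw [O.pA_Jc]; exact hA1))
      (Units.ext (eB.trans O.pB_Jc.symm))))
  swap
  · exact ⟨h, hh, hc, eB⟩
  -- the conjugate is trivial on the plane
  have sB : B s = 1 := by
    have hs2 := hsym h t s hh rfl rfl
    rw [eB, trace_one, Fintype.card_fin] at hs2
    push_cast at hs2
    obtain ⟨-, -, sB⟩ := htr s h⁻¹ (by simp only [s, inv_inv])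
    rcases plane_involution sB with e | e | e
    · exact e
    · rw [e, trace_neg, trace_one, Fintype.card_fin] at hs2
      push_cast at hs2
      exact absurd (by linear_combination -hs2 : (4 : F) = 0) h4
    · rw [e] at hs2
      exact absurd hs2.symm h2
  set N : Subgroup ↥(cenJ H) := (pB O.h2 H).ker
  have hsN : s ∈ N := MonoidHom.mem_ker.2 (Units.ext sB)
  obtain ⟨str, sA, -⟩ := htr s h⁻¹ (by simp only [s, inv_inv])
  rw [sB, trace_one, Fintype.card_fin] at str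
  push_cast at str
  have sA1 : A s ≠ 1 := fun e => h4 (by rw [e, trace_one, Fintype.card_fin] at str; push_cast at str; linear_combination str)
  set u : ↥N := ⟨s, hsN⟩
  have hu2 : orderOf u = 2 := by
    haveI : Fact (Nat.Prime 2) := ⟨Nat.prime_two⟩
    refine orderOf_eq_prime (Subtype.ext (Subtype.ext ?_)) fun e => sA1 ?_
    · rw [pow_two]
      show (s : GL (Fin 5) F) * s = 1
      have := conjJ_mul_self h⁻¹
      rw [inv_inv] at this
      exact this
    · show ((pA O.h2 H (u : ↥(cenJ H)) : GL (Fin 3) F) : Matrix (Fin 3) (Fin 3) F) = 1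
      rw [e, OneMemClass.coe_one, map_one, Units.val_one]
  by_cases hiso : Cfsg.IsIsolated u
  · -- an isolated one is central
    exfalso
    haveI : N.Normal := MonoidHom.normal_ker _
    set O2 : Subgroup ↥(cenJ H) := (Cfsg.pPrimeCore 2 ↥N).map N.subtype
    haveI : (Cfsg.pPrimeCore 2 ↥N).Characteristic := CfsgLib.pPrimeCore_characteristic 2
    haveI : O2.Normal := inferInstance
    have hodd : Odd (Nat.card ↥(Cfsg.pPrimeCore 2 ↥N)) := Nat.coprime_two_right.1 (CfsgLib.card_pPrimeCore_coprime 2)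
    haveI := CfsgLib.OddOrder.feitThompson hodd
    set S := O2.map (pA O.h2 H) with hS
    have hsolO : Group.IsSolvable ↥O2 := Group.isSolvable_of_surjective (MonoidHom.subgroupMap_surjective N.subtype _)
    haveI := hsolO
    have hsol : Group.IsSolvable ↥S := Group.isSolvable_of_surjective (MonoidHom.subgroupMap_surjective (pA O.h2 H) O2)
    have hn : ∀ c : ↥(cenJ H), ∀ x ∈ S, pA O.h2 H c * x * (pA O.h2 H c)⁻¹ ∈ S := by
      rintro c _ ⟨a, ha, rfl⟩
      exact ⟨c * a * c⁻¹, Subgroup.Normal.conj_mem inferInstance a ha c, by rw [map_mul, map_mul, map_inv]⟩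
    have hscal := soluble_three_scalar O.root _ _ O.pA_W O.pA_V S hsol (hn _) (hn _)
    -- the involution is central in the kernel
    set Z : Subgroup (GL (Fin 3) F) := (N ⊓ Subgroup.centralizer (N : Set ↥(cenJ H))).map (pA O.h2 H) with hZ
    have hsc : s ∈ Subgroup.centralizer (N : Set ↥(cenJ H)) := by
      intro k hk
      obtain ⟨c, hc'⟩ := hscal (pA O.h2 H (s * k * s⁻¹ * k⁻¹)) ⟨_, ⟨_, CfsgLib.ZStar.commutator_mem hu2 hiso ⟨k, hk⟩, rfl⟩, rfl⟩
      have e : s * k = s * k * s⁻¹ * k⁻¹ * (k * s) := by group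
      have eA := congrArg (fun x => ((pA O.h2 H x : GL (Fin 3) F) : Matrix (Fin 3) (Fin 3) F)) e
      simp only [map_mul (pA O.h2 H) _ (k * s), Units.val_mul, hc', Matrix.smul_mul, Matrix.one_mul] at eA
      simp only [map_mul, Units.val_mul] at eA
      have h1 : c = 1 := by
        have := congrArg (fun M => ((((pA O.h2 H k)⁻¹ : GL (Fin 3) F) : Matrix (Fin 3) (Fin 3) F) * M).trace) eA
        simp only [Matrix.mul_smul, trace_smul, Units.inv_mul_cancel_left, smul_eq_mul] at this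
        rw [← Matrix.mul_assoc, Matrix.trace_units_conj'] at this
        change (A s).trace = c * (A s).trace at this
        have hs0 : (A s).trace ≠ 0 := fun e0 => by
          rw [trace_involution sA (hdetA s (by rw [sB, det_one])) sA1] at e0
          exact one_ne_zero (neg_eq_zero.1 e0)
        exact (mul_right_cancel₀ hs0 (by rw [one_mul, ← this])).symm
      have hsk : s * k = k * s := blocks_inj h2
        (Units.ext (by rw [map_mul, map_mul, Units.val_mul, Units.val_mul, eA, h1, one_smul]))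
        (by rw [map_mul, map_mul, MonoidHom.mem_ker.1 hsN, MonoidHom.mem_ker.1 hk])
      exact hsk.symm
    haveI : (N ⊓ Subgroup.centralizer (N : Set ↥(cenJ H))).Normal := inferInstance
    have hZn : ∀ c : ↥(cenJ H), ∀ x ∈ Z, pA O.h2 H c * x * (pA O.h2 H c)⁻¹ ∈ Z := by
      rintro c _ ⟨a, ha, rfl⟩
      exact ⟨c * a * c⁻¹, Subgroup.Normal.conj_mem inferInstance a ha c, by rw [map_mul, map_mul, map_inv]⟩
    have hZab : ∀ x ∈ Z, ∀ y ∈ Z, x * y = y * x := by
      rintro _ ⟨a, ha, rfl⟩ _ ⟨b, hb, rfl⟩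
      rw [← map_mul, ← map_mul, (Subgroup.mem_inf.1 hb).2 a (Subgroup.mem_inf.1 ha).1]
    obtain ⟨c, hc'⟩ := abelian_three_scalar O.root _ _ O.pA_W O.pA_V Z hZab (hZn _) (hZn _) _
      ⟨s, Subgroup.mem_inf.2 ⟨hsN, hsc⟩, rfl⟩
    refine sA1 ?_
    have hd := hdetA s (by rw [sB, det_one])
    change A s = _ at hc'
    rw [hc', det_smul, det_one, mul_one, Fintype.card_fin] at hd
    rw [hc', Matrix.smul_mul, Matrix.mul_smul, smul_smul, Matrix.one_mul] at sA
    have hcc : c * c = 1 := by simpa using congrFun (congrFun sA 0) 0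
    rw [hc', show c = 1 by linear_combination hd - c * hcc, one_smul]
  obtain ⟨k, hk, hkne⟩ := by
    simpa only [Cfsg.IsIsolated, not_forall, exists_prop] using hiso
  -- the translated conjugate
  set k' : GL (Fin 5) F := (k : ↥(cenJ H)).1 with hk'
  set h' : GL (Fin 5) F := h * k' * h⁻¹ with hh'
  have hh'm : h' ∈ H := mul_mem (mul_mem hh (mem_cenJ.1 (k : ↥(cenJ H)).2).1) (inv_mem hh)
  have hk5 : (k' * (h⁻¹ * Jg * h) * k'⁻¹) * (h⁻¹ * Jg * h) = (h⁻¹ * Jg * h) * (k' * (h⁻¹ * Jg * h) * k'⁻¹) :=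
    congrArg (fun x : ↥N => ((x : ↥(cenJ H)) : GL (Fin 5) F)) hk.eq.symm
  have hc' : Jg * (h' * Jg * h'⁻¹) = h' * Jg * h'⁻¹ * Jg := by
    calc Jg * (h' * Jg * h'⁻¹) = h * ((h⁻¹ * Jg * h) * (k' * (h⁻¹ * Jg * h) * k'⁻¹)) * h⁻¹ := by rw [hh']; group
      _ = h * ((k' * (h⁻¹ * Jg * h) * k'⁻¹) * (h⁻¹ * Jg * h)) * h⁻¹ := by rw [hk5]
      _ = _ := by rw [hh']; group
  obtain ⟨m1', -⟩ := hconj h' hh'm hc'
  refine ⟨h', hh'm, hc', ?_⟩
  set t' : ↥(cenJ H) := ⟨h' * Jg * h'⁻¹, m1'⟩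
  obtain ⟨t'tr, -, -⟩ := htr t' h' rfl
  set s1 : ↥(cenJ H) := ((k * u * k⁻¹ : ↥N) : ↥(cenJ H)) with hs1
  -- the product with the translated involution
  have hP : (((t'.1 * Jg : GL (Fin 5) F)) : Matrix (Fin 5) (Fin 5) F).trace =
      (((s1 * s : ↥(cenJ H)) : GL (Fin 5) F) : Matrix (Fin 5) (Fin 5) F).trace := by
    have e : t'.1 * Jg = h * ((s1 * s : ↥(cenJ H)) : GL (Fin 5) F) * h⁻¹ := by
      show h' * Jg * h'⁻¹ * Jg = h * (k' * (h⁻¹ * Jg * h) * k'⁻¹ * (h⁻¹ * Jg * h)) * h⁻¹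
      rw [hh']; group
    rw [e, Units.val_mul (h * _), Units.val_mul h, Matrix.trace_units_conj]
  rw [← hJ', trace_blocks h2 (cenJ_comm (t' * O.Jc)), trace_blocks h2 (cenJ_comm (s1 * s))] at hP
  change ((pA O.h2 H (t' * O.Jc) : GL (Fin 3) F) : Matrix (Fin 3) (Fin 3) F).trace +
    ((pB O.h2 H (t' * O.Jc) : GL (Fin 2) F) : Matrix (Fin 2) (Fin 2) F).trace =
    ((pA O.h2 H (s1 * s) : GL (Fin 3) F) : Matrix (Fin 3) (Fin 3) F).trace +
    ((pB O.h2 H (s1 * s) : GL (Fin 2) F) : Matrix (Fin 2) (Fin 2) F).trace at hP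
  have hs1N : s1 ∈ N := (k * u * k⁻¹ : ↥N).2
  have hA3 : (A (s1 * s)).trace = -1 := by
    refine trace_involution ?_ (hdetA _ ?_) fun e => hkne ?_
    · have hu : u * u = 1 := by rw [← pow_two, ← hu2]; exact pow_orderOf_eq_one u
      have : k * u * k⁻¹ * u * (k * u * k⁻¹ * u) = 1 := by
        rw [show k * u * k⁻¹ * u * (k * u * k⁻¹ * u) = k * u * k⁻¹ * (u * (k * u * k⁻¹)) * u by group, hk.eq,
          show k * u * k⁻¹ * (k * u * k⁻¹ * u) * u = k * (u * u) * k⁻¹ * (u * u) by group, hu, mul_one, mul_one, mul_inv_cancel]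
      rw [hA, ← Units.val_mul, ← map_mul,
        show (s1 * s) * (s1 * s) = ((k * u * k⁻¹ * u * (k * u * k⁻¹ * u) : ↥N) : ↥(cenJ H)) from rfl, this,
        OneMemClass.coe_one, map_one, Units.val_one]
    · show ((pB O.h2 H (s1 * s) : GL (Fin 2) F) : Matrix (Fin 2) (Fin 2) F).det = 1
      rw [MonoidHom.mem_ker.1 (mul_mem hs1N hsN), Units.val_one, det_one]
    · have e1 : s1 * s = 1 := eq_one_of_blocks h2 (Units.ext (by rw [Units.val_one]; exact e))
        (MonoidHom.mem_ker.1 (mul_mem hs1N hsN))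
      refine Subtype.ext ?_
      have hss : s * s = 1 := congrArg Subtype.val (show u * u = 1 by rw [← pow_two, ← hu2]; exact pow_orderOf_eq_one u)
      exact mul_right_cancel (e1.trans hss.symm)
  rw [map_mul, map_mul, Units.val_mul, Units.val_mul, O.pA_Jc, O.pB_Jc, Units.val_one, Matrix.mul_one, Matrix.mul_neg,
    Matrix.mul_one, trace_neg, show ((pA O.h2 H (s1 * s) : GL (Fin 3) F) : Matrix (Fin 3) (Fin 3) F).trace = -1 from hA3,
    MonoidHom.mem_ker.1 (mul_mem hs1N hsN), Units.val_one, trace_one, Fintype.card_fin] at hP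
  push_cast at hP
  change (A t').trace + -(B t').trace = -1 + 2 at hP
  have h0 : (2 : F) * (B t').trace = 0 := by linear_combination t'tr - hP
  exact (mul_eq_zero.1 h0).resolve_left h2

omit [Fintype F] in
/-- A lift of a plane element with scalar square, normalised to square to the involution. -/
theorem adjust_square
    (hker : ∀ g : ↥(cenJ H), pB O.h2 H g = 1 → IsScal ((pA O.h2 H g : GL (Fin 3) F) : Matrix (Fin 3) (Fin 3) F))
    {s x0 : ↥(cenJ H)} (hcomm : x0 * s = s * x0)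
    (hsq : ((pB O.h2 H x0 : GL (Fin 2) F) : Matrix (Fin 2) (Fin 2) F) * (pB O.h2 H x0 : GL (Fin 2) F) = -1) :
    ∃ x : ↥(cenJ H), x * x = O.Jc ∧ x * s = s * x := by
  set z := x0 * x0 * O.Jc with hz
  have hzB : pB O.h2 H z = 1 := Units.ext (by
    rw [hz, map_mul, map_mul, Units.val_mul, Units.val_mul, hsq, O.pB_Jc, neg_mul_neg, Matrix.one_mul, Units.val_one])
  obtain ⟨c, hc⟩ := hker z hzB
  have hd := O.det_pA_pB z
  rw [hzB, Units.val_one, det_one, mul_one, hc, det_smul, det_one, mul_one, Fintype.card_fin] at hd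
  have hA0 : ((pA O.h2 H x0 : GL (Fin 3) F) : Matrix (Fin 3) (Fin 3) F) * (pA O.h2 H x0 : GL (Fin 3) F) =
      c • (1 : Matrix (Fin 3) (Fin 3) F) := by
    rw [← hc, hz, map_mul, map_mul, O.pA_Jc, mul_one, Units.val_mul]
  clear_value z
  have hzs : z * s = s * z := blocks_inj O.h2
    (Units.ext (by rw [map_mul, map_mul, Units.val_mul, Units.val_mul]; exact IsScal.comm ⟨c, hc⟩ _))
    (by rw [map_mul, map_mul, hzB, one_mul, mul_one])
  refine ⟨x0 * z, blocks_inj O.h2 (Units.ext ?_) (Units.ext ?_), ?_⟩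
  · rw [O.pA_Jc, map_mul, map_mul, Units.val_mul, Units.val_mul, hc, Units.val_one]
    simp only [Matrix.mul_smul, Matrix.smul_mul, Matrix.mul_one, smul_smul, hA0]
    rw [show c * (c * c) = 1 by linear_combination hd, one_smul]
  · rw [O.pB_Jc, map_mul, map_mul, hzB, mul_one, Units.val_mul]
    exact hsq
  · rw [mul_assoc, hzs, ← mul_assoc, hcomm, mul_assoc]

omit [Fintype F] in
/-- The torus element of the plane attached to a reflection. -/
theorem exists_tau [Finite F]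
    (hker : ∀ g : ↥(cenJ H), pB O.h2 H g = 1 → IsScal ((pA O.h2 H g : GL (Fin 3) F) : Matrix (Fin 3) (Fin 3) F))
    {s : ↥(cenJ H)} (hs : ((pA O.h2 H s : GL (Fin 3) F) : Matrix (Fin 3) (Fin 3) F).trace = 1)
    (hss : s * s = 1) {P : GL (Fin 2) F}
    (hP : ((pB O.h2 H s : GL (Fin 2) F) : Matrix (Fin 2) (Fin 2) F) * (P : Matrix (Fin 2) (Fin 2) F) =
      (P : Matrix (Fin 2) (Fin 2) F) * diagonal ![1, -1])
    {b : F} (hb : b ≠ 0)
    (hall : ∀ M : Matrix (Fin 2) (Fin 2) F, (M = wM ω ∨ M = !![0, b; -b⁻¹, 0]) →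
      ∀ q : Matrix.SpecialLinearGroup (Fin 2) F,
        q.1 = (P : Matrix (Fin 2) (Fin 2) F) * M * ((P⁻¹ : GL (Fin 2) F) : Matrix (Fin 2) (Fin 2) F) →
          Matrix.SpecialLinearGroup.toGL q ∈ (pB O.h2 H).range) :
    (∃ v : Fin 3 → F, v ≠ 0 ∧ ((pA O.h2 H s : GL (Fin 3) F) : Matrix (Fin 3) (Fin 3) F) *ᵥ v = -v) ∧
    ∃ τ : ↥(cenJ H), τ * s = s * τ ∧
      ((pB O.h2 H τ : GL (Fin 2) F) : Matrix (Fin 2) (Fin 2) F) * (P : Matrix (Fin 2) (Fin 2) F) =
        (P : Matrix (Fin 2) (Fin 2) F) * wM ω ∧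
      ∀ v : Fin 3 → F, ((pA O.h2 H s : GL (Fin 3) F) : Matrix (Fin 3) (Fin 3) F) *ᵥ v = -v →
        ((pA O.h2 H τ : GL (Fin 3) F) : Matrix (Fin 3) (Fin 3) F) *ᵥ v = v := by
  have h2 := O.h2
  have r := O.root
  set Pm : Matrix (Fin 2) (Fin 2) F := (P : Matrix (Fin 2) (Fin 2) F) with hPm
  set Pi' : Matrix (Fin 2) (Fin 2) F := ((P⁻¹ : GL (Fin 2) F) : Matrix (Fin 2) (Fin 2) F) with hPi
  have hii : Pm * Pi' = 1 := Units.mul_inv P
  have hi' : Pi' * Pm = 1 := Units.inv_mul P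
  have hB : ((pB O.h2 H s : GL (Fin 2) F) : Matrix (Fin 2) (Fin 2) F) = Pm * diagonal ![1, -1] * Pi' := by
    rw [← hP, Matrix.mul_assoc, hii, Matrix.mul_one]
  have hdB : ((pB O.h2 H s : GL (Fin 2) F) : Matrix (Fin 2) (Fin 2) F).det = -1 := by
    rw [hB, hPm, hPi, det_units_conj, det_diagonal, Fin.prod_univ_two]; simp
  have hdA : ((pA O.h2 H s : GL (Fin 3) F) : Matrix (Fin 3) (Fin 3) F).det = -1 := by
    have := O.det_pA_pB s
    rw [hdB] at this
    linear_combination -this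
  -- the frame on the three-space
  set T : Matrix (Fin 3) (Fin 3) F := -((pA O.h2 H s : GL (Fin 3) F) : Matrix (Fin 3) (Fin 3) F) with hT
  haveI : Fintype F := Fintype.ofFinite F
  obtain ⟨Q, hQ⟩ := CfsgLib.PSLThree.exists_diag_form h2 (T := T)
    (by rw [hT, neg_mul_neg, ← Units.val_mul, ← map_mul, hss, map_one, Units.val_one])
    (by rw [hT, det_neg, hdA, Fintype.card_fin]; norm_num)
    (fun e => by
      have := congrArg Matrix.trace e
      rw [hT, trace_neg, hs, trace_one, Fintype.card_fin] at this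
      push_cast at this
      exact mul_ne_zero h2 h2 (by linear_combination -this))
  set Qi : Matrix (Fin 3) (Fin 3) F := ((Q⁻¹ : GL (Fin 3) F) : Matrix (Fin 3) (Fin 3) F) with hQi
  have hQQ : Qi * (Q : Matrix (Fin 3) (Fin 3) F) = 1 := Units.inv_mul Q
  have hQQ' : (Q : Matrix (Fin 3) (Fin 3) F) * Qi = 1 := Units.mul_inv Q
  set As : Matrix (Fin 3) (Fin 3) F := ((pA O.h2 H s : GL (Fin 3) F) : Matrix (Fin 3) (Fin 3) F) with hAs
  have hfr : Qi * T * (Q : Matrix (Fin 3) (Fin 3) F) = diagonal (CfsgLib.PSLThree.dvec (F := F)) := by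
    rw [hQ, ← Matrix.mul_assoc, ← Matrix.mul_assoc, hQQ, Matrix.one_mul, Matrix.mul_assoc, hQQ, Matrix.mul_one]
  have hsplit : ∀ g : ↥(cenJ H), g * s = s * g → pA O.h2 H g ∈ splitGroup Q := by
    intro g hg i j hij
    set X : Matrix (Fin 3) (Fin 3) F := ((Q⁻¹ * pA O.h2 H g * Q : GL (Fin 3) F) : Matrix (Fin 3) (Fin 3) F) with hX
    have hc : X * diagonal (CfsgLib.PSLThree.dvec (F := F)) = diagonal (CfsgLib.PSLThree.dvec (F := F)) * X := by
      have e : ((pA O.h2 H g : GL (Fin 3) F) : Matrix (Fin 3) (Fin 3) F) * T = T * (pA O.h2 H g : GL (Fin 3) F) := by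
        rw [hT, Matrix.mul_neg, Matrix.neg_mul, hAs, ← Units.val_mul, ← Units.val_mul, ← map_mul, ← map_mul, hg]
      rw [hX, ← hfr, Units.val_mul, Units.val_mul, ← hQi]
      simp only [Matrix.mul_assoc]
      rw [← Matrix.mul_assoc (Q : Matrix (Fin 3) (Fin 3) F) Qi, hQQ', Matrix.one_mul,
        ← Matrix.mul_assoc (Q : Matrix (Fin 3) (Fin 3) F) Qi, hQQ', Matrix.one_mul, ← Matrix.mul_assoc _ T, e,
        Matrix.mul_assoc]
    have e := congrFun (congrFun hc i) j
    rw [mul_diagonal, diagonal_mul] at e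
    have : (CfsgLib.PSLThree.dvec (F := F) i - CfsgLib.PSLThree.dvec (F := F) j) * X i j = 0 := by linear_combination -e
    exact (mul_eq_zero.1 this).resolve_left (sub_ne_zero.2 hij)
  let a : ↥(cenJ H) → F := fun g => ((Q⁻¹ * pA O.h2 H g * Q : GL (Fin 3) F) : Matrix (Fin 3) (Fin 3) F) 2 2
  have hamul : ∀ g g' : ↥(cenJ H), g * s = s * g → g' * s = s * g' → a (g * g') = a g * a g' := by
    intro g g' hg hg'
    have := split_line_mul Q h2 ⟨_, hsplit g hg⟩ ⟨_, hsplit g' hg'⟩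
    simp only [a, map_mul]
    exact this
  have hv : ∀ v : Fin 3 → F, As *ᵥ v = -v → ∀ g : ↥(cenJ H), g * s = s * g →
      ((pA O.h2 H g : GL (Fin 3) F) : Matrix (Fin 3) (Fin 3) F) *ᵥ v = a g • v := by
    intro v hv g hg
    set x := Qi *ᵥ v with hx
    have hvx : v = (Q : Matrix (Fin 3) (Fin 3) F) *ᵥ x := by
      rw [hx, Matrix.mulVec_mulVec, hQQ', Matrix.one_mulVec]
    clear_value x
    have hTv : T *ᵥ v = v := by rw [hT, Matrix.neg_mulVec, hv, neg_neg]
    have hDx : diagonal (CfsgLib.PSLThree.dvec (F := F)) *ᵥ x = x := by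
      rw [← hfr, ← Matrix.mulVec_mulVec, ← hvx, ← Matrix.mulVec_mulVec, hTv]
      exact hx.symm
    have hne : (-1 : F) ≠ 1 := fun e => h2 (by linear_combination -e)
    have hx0 : ∀ i : Fin 3, CfsgLib.PSLThree.dvec (F := F) i = -1 → x i = 0 := fun i hi => by
      have e := congrFun hDx i
      rw [Matrix.mulVec_diagonal, hi] at e
      exact (mul_eq_zero.1 (by linear_combination -e : (2 : F) * x i = 0)).resolve_left h2
    have x0 : x 0 = 0 := hx0 0 (by simp [CfsgLib.PSLThree.dvec])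
    have x1 : x 1 = 0 := hx0 1 (by simp [CfsgLib.PSLThree.dvec])
    set X : Matrix (Fin 3) (Fin 3) F := ((Q⁻¹ * pA O.h2 H g * Q : GL (Fin 3) F) : Matrix (Fin 3) (Fin 3) F) with hX
    have hXx : X *ᵥ x = a g • x := by
      obtain ⟨g0, g1, -, -⟩ := split_zero Q h2 (hsplit g hg)
      rw [← hX] at g0 g1
      have haX : a g = X 2 2 := rfl
      rw [haX]
      funext i
      fin_cases i <;> simp [Matrix.mulVec, dotProduct, Fin.sum_univ_three, x0, x1, g0, g1]
    have e : ((pA O.h2 H g : GL (Fin 3) F) : Matrix (Fin 3) (Fin 3) F) *ᵥ v = (Q : Matrix (Fin 3) (Fin 3) F) *ᵥ (X *ᵥ x) := by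
      conv_lhs => rw [hvx]
      rw [hX, Units.val_mul, Units.val_mul, ← hQi, Matrix.mulVec_mulVec, Matrix.mulVec_mulVec]
      simp only [← Matrix.mul_assoc, hQQ', Matrix.one_mul]
    rw [e, hXx, Matrix.mulVec_smul, ← hvx]
  have heig : ∃ v : Fin 3 → F, v ≠ 0 ∧ As *ᵥ v = -v := by
    refine ⟨(Q : Matrix (Fin 3) (Fin 3) F) *ᵥ Pi.single 2 1, fun e => ?_, ?_⟩
    · have := congrArg (Qi *ᵥ ·) e
      rw [Matrix.mulVec_mulVec, hQQ, Matrix.one_mulVec, Matrix.mulVec_zero] at this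
      exact one_ne_zero (α := F) (by simpa using congrFun this 2)
    · have : T *ᵥ ((Q : Matrix (Fin 3) (Fin 3) F) *ᵥ Pi.single 2 1) = (Q : Matrix (Fin 3) (Fin 3) F) *ᵥ Pi.single 2 1 := by
        rw [hQ, Matrix.mulVec_mulVec, Matrix.mul_assoc, hQQ, Matrix.mul_one, ← Matrix.mulVec_mulVec]
        congr 1
        funext i
        fin_cases i <;> simp [Matrix.mulVec_diagonal, CfsgLib.PSLThree.dvec]
      rw [hT, Matrix.neg_mulVec] at this
      exact neg_eq_iff_eq_neg.1 this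
  refine ⟨heig, ?_⟩
  -- lifts of plane elements
  have lift : ∀ M : Matrix (Fin 2) (Fin 2) F, (M = wM ω ∨ M = !![0, b; -b⁻¹, 0]) → M.det = 1 →
      ∃ g : ↥(cenJ H), ((pB O.h2 H g : GL (Fin 2) F) : Matrix (Fin 2) (Fin 2) F) = Pm * M * Pi' := by
    intro M hM' hM
    obtain ⟨g, hg⟩ := hall M hM' ⟨Pm * M * Pi', by rw [hPm, hPi, det_units_conj, hM]⟩ rfl
    exact ⟨g, by rw [hg]; rfl⟩
  have hmm : ∀ M N : Matrix (Fin 2) (Fin 2) F, Pm * M * Pi' * (Pm * N * Pi') = Pm * (M * N) * Pi' := fun M N => by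
    rw [show Pm * M * Pi' * (Pm * N * Pi') = Pm * (M * (Pi' * Pm) * N) * Pi' by simp only [Matrix.mul_assoc], hi',
      Matrix.mul_one]
  obtain ⟨τ, hτ⟩ := lift (wM ω) (Or.inl rfl) (det_wM r)
  set A0 : Matrix (Fin 2) (Fin 2) F := !![0, b; -b⁻¹, 0] with hA0
  obtain ⟨n, hn⟩ := lift A0 (Or.inr rfl) (by rw [hA0, Matrix.det_fin_two]; simp [hb])
  have hwd : wM ω * diagonal ![1, -1] = diagonal ![1, -1] * wM ω := by
    rw [wM, diagonal_mul_diagonal, diagonal_mul_diagonal]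
    exact congrArg diagonal (funext fun i => mul_comm _ _)
  have hτs : τ * s = s * τ := commute_of_plane O hker hs (Units.ext (by
    rw [Units.val_mul, Units.val_mul, hτ, hB, hmm, hmm, hwd]))
  -- the antidiagonal element centralises the reflection on the three-space
  have hns : pA O.h2 H n * pA O.h2 H s = pA O.h2 H s * pA O.h2 H n := by
    set k := n * s * (s * O.Jc * n)⁻¹ with hk
    obtain ⟨c, hc⟩ := hker k (by
      rw [hk, map_mul, map_inv, mul_inv_eq_one, map_mul, map_mul, map_mul]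
      refine Units.ext ?_
      rw [Units.val_mul, Units.val_mul, Units.val_mul, hn, hB, O.pB_Jc, Matrix.mul_neg, Matrix.mul_one, Matrix.neg_mul,
        hmm, hmm, ← Matrix.neg_mul, ← Matrix.mul_neg]
      congr 2
      rw [hA0]
      ext i j
      fin_cases i <;> fin_cases j <;> simp)
    have eA : ((pA O.h2 H n : GL (Fin 3) F) : Matrix (Fin 3) (Fin 3) F) * As = c • (As * (pA O.h2 H n : GL (Fin 3) F)) := by
      have e : n * s = k * (s * O.Jc * n) := by rw [hk, inv_mul_cancel_right]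
      have := congrArg (fun x => ((pA O.h2 H x : GL (Fin 3) F) : Matrix (Fin 3) (Fin 3) F)) e
      simp only [map_mul, Units.val_mul, hc, O.pA_Jc, Units.val_one, Matrix.mul_one, Matrix.smul_mul, Matrix.one_mul] at this
      exact this
    have h1 : c = 1 := by
      have := congrArg (fun M => (M * (((pA O.h2 H n)⁻¹ : GL (Fin 3) F) : Matrix (Fin 3) (Fin 3) F)).trace) eA
      simp only [Matrix.smul_mul, trace_smul, Matrix.trace_units_conj] at this
      rw [Matrix.mul_assoc, Units.mul_inv, Matrix.mul_one, hs, smul_eq_mul, mul_one] at this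
      exact this.symm
    exact Units.ext (by rw [Units.val_mul, Units.val_mul, eA, h1, one_smul])
  obtain ⟨v, hv0, hve⟩ := heig
  have hinj : ∀ x y : F, x • v = y • v → x = y := fun x y e => smul_left_injective F hv0 e
  have hpow : ∀ m : ℕ, τ ^ m * s = s * τ ^ m := fun m => (Commute.pow_left (show Commute τ s from hτs) m).eq
  have haw : ∀ m : ℕ, a (τ ^ m) = a τ ^ m := by
    intro m
    induction m with
    | zero =>
      simp only [a, pow_zero, map_one, mul_one, inv_mul_cancel, Units.val_one, Matrix.one_apply_eq]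
    | succ m ih => rw [pow_succ, hamul _ _ (hpow m) hτs, ih, pow_succ]
  obtain ⟨c, hc⟩ := hker (n * τ * n⁻¹ * τ) (by
    refine Units.ext ?_
    rw [map_mul, map_mul, map_mul, map_inv, Units.val_mul, Units.val_mul, Units.val_mul, Units.val_one]
    have hni : (((pB O.h2 H n)⁻¹ : GL (Fin 2) F) : Matrix (Fin 2) (Fin 2) F) = Pm * (-A0) * Pi' := by
      refine (Units.eq_inv_of_mul_eq_one_left ?_).symm
      rw [hn, hmm]
      have : A0 * -A0 = 1 := by
        rw [hA0]; ext i j; fin_cases i <;> fin_cases j <;> simp [Matrix.mul_apply, Fin.sum_univ_two, hb]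
      rw [this, Matrix.mul_one, hii]
    rw [hni, hn, hτ, hmm, hmm, hmm]
    have : A0 * wM ω * -A0 * wM ω = 1 := by
      have hw2 : wM ω = !![ω, 0; 0, ω ^ 4] := by
        ext i j
        fin_cases i <;> fin_cases j <;> simp [wM]
      rw [hA0, hw2]
      have h5 := r.pow_five
      ext i j
      fin_cases i <;> fin_cases j <;> simp [Matrix.mul_apply, Fin.sum_univ_two] <;> field_simp <;> linear_combination h5
    rw [this, Matrix.mul_one, hii])
  have hAv : ∀ g : ↥(cenJ H), g * s = s * g →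
      ((pA O.h2 H g : GL (Fin 3) F) : Matrix (Fin 3) (Fin 3) F) *ᵥ v = a g • v := fun g hg => hv v hve g hg
  -- the square of the multiplier
  have hsq : a τ * a τ = c := by
    set An : Matrix (Fin 3) (Fin 3) F := ((pA O.h2 H n : GL (Fin 3) F) : Matrix (Fin 3) (Fin 3) F)
    set Ai : Matrix (Fin 3) (Fin 3) F := (((pA O.h2 H n)⁻¹ : GL (Fin 3) F) : Matrix (Fin 3) (Fin 3) F)
    have hiv : As *ᵥ (Ai *ᵥ v) = -(Ai *ᵥ v) := by
      rw [Matrix.mulVec_mulVec, show As * Ai = Ai * As from by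
        rw [hAs]; simp only [Ai]
        rw [← Units.val_mul, ← Units.val_mul]
        exact congrArg Units.val ((Commute.inv_left (show Commute (pA O.h2 H n) (pA O.h2 H s) from hns)).eq).symm,
        ← Matrix.mulVec_mulVec, hve, Matrix.mulVec_neg]
    have hni : An *ᵥ (Ai *ᵥ v) = v := by
      rw [Matrix.mulVec_mulVec, show An * Ai = 1 from Units.mul_inv _, Matrix.one_mulVec]
    have e := congrArg (· *ᵥ v) hc
    simp only [map_mul, map_inv, Units.val_mul, ← Matrix.mulVec_mulVec, Matrix.smul_mulVec, Matrix.one_mulVec] at e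
    rw [hAv τ hτs, Matrix.mulVec_smul, Matrix.mulVec_smul, Matrix.mulVec_smul, hv _ hiv τ hτs, Matrix.mulVec_smul, hni,
      smul_smul] at e
    exact hinj _ _ e
  have hc3 : c * c * c = 1 := by
    have hd := O.det_pA_pB (n * τ * n⁻¹ * τ)
    rw [hc, det_smul, det_one, mul_one, Fintype.card_fin, map_mul, map_mul, map_mul, map_inv, Units.val_mul,
      Units.val_mul, Units.val_mul, det_mul, det_mul, det_mul, hn, hτ] at hd
    have hni : (((pB O.h2 H n)⁻¹ : GL (Fin 2) F) : Matrix (Fin 2) (Fin 2) F).det = 1 := by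
      have := congrArg Matrix.det (Units.mul_inv (pB O.h2 H n))
      rw [det_mul, hn, det_one, hPm, hPi, det_units_conj, hA0, Matrix.det_fin_two] at this
      simpa [hb] using this
    rw [hni, hPm, hPi, det_units_conj, det_units_conj, det_wM r, hA0, Matrix.det_fin_two] at hd
    simp [hb] at hd
    linear_combination hd
  refine ⟨τ ^ 6, hpow 6, ?_, fun w hw => ?_⟩
  · have : ∀ m : ℕ, ((pB O.h2 H (τ ^ m) : GL (Fin 2) F) : Matrix (Fin 2) (Fin 2) F) = Pm * wM ω ^ m * Pi' := by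
      intro m
      induction m with
      | zero => rw [pow_zero, map_one, Units.val_one, pow_zero, Matrix.mul_one, hii]
      | succ m ih => rw [pow_succ, map_mul, Units.val_mul, ih, hτ, hmm, ← pow_succ]
    rw [this, pow_succ, wM_pow_five r, Matrix.one_mul, Matrix.mul_assoc, hi', Matrix.mul_one]
  · rw [hv w hw _ (hpow 6), haw, show a τ ^ 6 = (a τ * a τ) * (a τ * a τ) * (a τ * a τ) by ring, hsq, hc3, one_smul]

/-- The involution is isolated, given the shape of the group induced on the negated plane inside a set `Sm`. -/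
theorem involution_isolated_of (Sm : Set (Matrix (Fin 2) (Fin 2) F))
    (hdich : (∀ q : Matrix.SpecialLinearGroup (Fin 2) F, q.1 ∈ Sm →
        Matrix.SpecialLinearGroup.toGL q ∈ (pB O.h2 H).range ∧ q ∈ slPart (pB O.h2 H).range) ∨
      Nonempty (pslPart (pB O.h2 H).range ≃* alternatingGroup (Fin 5)))
    (hsimple : IsSimpleGroup (pslPart (pB O.h2 H).range))
    (hframe : ∀ (s : ↥(cenJ H)) (P : GL (Fin 2) F),
      ((pB O.h2 H s : GL (Fin 2) F) : Matrix (Fin 2) (Fin 2) F) * (P : Matrix (Fin 2) (Fin 2) F) =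
        (P : Matrix (Fin 2) (Fin 2) F) * diagonal ![1, -1] →
      ∃ b : F, b ≠ 0 ∧ ∀ M : Matrix (Fin 2) (Fin 2) F, (M = wM ω ∨ M = !![0, b; -b⁻¹, 0]) →
        (P : Matrix (Fin 2) (Fin 2) F) * M * ((P⁻¹ : GL (Fin 2) F) : Matrix (Fin 2) (Fin 2) F) ∈ Sm)
    (htop' : (∀ q : Matrix.SpecialLinearGroup (Fin 2) F, q.1 ∈ Sm →
      ∃ g ∈ cenJ H, bp (g : Matrix (Fin 5) (Fin 5) F) = 1 ∧ bn (g : Matrix (Fin 5) (Fin 5) F) = q.1) → False)
    {h : GL (Fin 5) F} (hh : h ∈ H) (hc : Jg * (h * Jg * h⁻¹) = h * Jg * h⁻¹ * Jg) : h * Jg * h⁻¹ = Jg := by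
  classical
  have h2 := O.h2
  have r := O.root
  by_contra hne
  obtain ⟨h, t, s, hh, et, es, tB, sB, tA, sA⟩ := exists_refl O ⟨h, hh, hc, hne⟩
  set K2 : Subgroup (GL (Fin 2) F) := (pA O.h2 H).ker.map (pB O.h2 H) with hK2
  have F2 := O.hasFives
  have hKX : K2 ≤ (pB O.h2 H).range := Subgroup.map_le_range _ _
  have hKdet : ∀ k ∈ K2, (k : Matrix (Fin 2) (Fin 2) F).det = 1 := by
    rintro _ ⟨g, hg, rfl⟩
    have := O.det_pA_pB g
    rwa [MonoidHom.mem_ker.1 hg, Units.val_one, det_one, one_mul] at this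
  have hKn : ∀ x ∈ (pB O.h2 H).range, ∀ k ∈ K2, x * k * x⁻¹ ∈ K2 := by
    rintro _ ⟨g, rfl⟩ _ ⟨k, hk, rfl⟩
    exact ⟨g * k * g⁻¹, Subgroup.Normal.conj_mem (MonoidHom.normal_ker _) k hk g, by rw [map_mul, map_mul, map_inv]⟩
  have hKneg : ∃ k ∈ K2, (k : Matrix (Fin 2) (Fin 2) F) = -1 :=
    ⟨_, ⟨O.Jc, MonoidHom.mem_ker.2 O.pA_Jc, rfl⟩, O.pB_Jc⟩
  -- either the plane kernel is a sign or it covers everything
  have hK2cases : (∀ q ∈ slPart (pB O.h2 H).range, Matrix.SpecialLinearGroup.toGL q ∈ K2) ∨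
      ∀ g : ↥(cenJ H), pA O.h2 H g = 1 → bn ((g : GL (Fin 5) F) : Matrix (Fin 5) (Fin 5) F) = 1 ∨
        bn ((g : GL (Fin 5) F) : Matrix (Fin 5) (Fin 5) F) = -1 := by
    by_cases hns : ∃ k ∈ K2, ∀ c : F, (k : Matrix (Fin 2) (Fin 2) F) ≠ c • 1
    · exact Or.inl (normal_covers F2 K2 hKdet hKX hKn hKneg hns hsimple)
    refine Or.inr fun g hg => ?_
    push Not at hns
    obtain ⟨c, hc'⟩ := hns _ ⟨g, MonoidHom.mem_ker.2 hg, rfl⟩
    have hd := hKdet _ ⟨g, MonoidHom.mem_ker.2 hg, rfl⟩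
    rw [hc', det_smul, det_one, mul_one, Fintype.card_fin, pow_two] at hd
    change bn _ = c • 1 at hc'
    rcases mul_self_eq_one_iff.1 hd with e | e
    · exact Or.inl (by rw [hc', e, one_smul])
    · exact Or.inr (by rw [hc', e, neg_smul, one_smul])
  have hneg : ∃ k ∈ (pB O.h2 H).range, (k : Matrix (Fin 2) (Fin 2) F) = -1 := ⟨_, ⟨O.Jc, rfl⟩, O.pB_Jc⟩
  have tt : t * t = 1 := Subtype.ext (by rw [Subgroup.coe_mul, et, conjJ_mul_self]; rfl)
  have ss : s * s = 1 := Subtype.ext (by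
    have := conjJ_mul_self h⁻¹
    rw [inv_inv] at this
    rw [Subgroup.coe_mul, es, this]; rfl)
  set Bs : Matrix (Fin 2) (Fin 2) F := ((pB O.h2 H s : GL (Fin 2) F) : Matrix (Fin 2) (Fin 2) F) with hBs
  set Bt : Matrix (Fin 2) (Fin 2) F := ((pB O.h2 H t : GL (Fin 2) F) : Matrix (Fin 2) (Fin 2) F) with hBt
  have Bs2 : Bs * Bs = 1 := by rw [hBs, ← Units.val_mul, ← map_mul, ss, map_one, Units.val_one]
  -- translation by the conjugating element
  have transl : ∀ x : ↥(cenJ H), x * s = s * x → ∃ y : ↥(cenJ H), (y : GL (Fin 5) F) = h * (x : GL (Fin 5) F) * h⁻¹ := by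
    intro x hx
    refine ⟨⟨_, Subgroup.mem_inf.2 ⟨mul_mem (mul_mem hh (mem_cenJ.1 x.2).1) (inv_mem hh),
      Subgroup.mem_centralizer_singleton_iff.2 ?_⟩⟩, rfl⟩
    have hx' : (x : GL (Fin 5) F) * s = s * x := congrArg Subtype.val hx
    rw [es] at hx'
    calc h * (x : GL (Fin 5) F) * h⁻¹ * Jg = h * ((x : GL (Fin 5) F) * (h⁻¹ * Jg * h)) * h⁻¹ := by group
      _ = h * ((h⁻¹ * Jg * h) * (x : GL (Fin 5) F)) * h⁻¹ := by rw [hx']
      _ = _ := by group
  rcases hdich with htop | ⟨⟨e5⟩⟩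
  · -- the large case
    rcases hK2cases with hcov | hpm
    · refine htop' fun q hq => ?_
      obtain ⟨g, hgA, hgB⟩ := hcov q (htop q hq).2
      exact ⟨g, g.2, congrArg Units.val (MonoidHom.mem_ker.1 hgA), congrArg Units.val hgB⟩
    have hker := kernel_scalar O hpm
    obtain ⟨P, hP⟩ := exists_refl_frame h2 Bs2 sB
    obtain ⟨b₀, hb₀, hmemP⟩ := hframe s P hP
    obtain ⟨⟨v, hv0, hve⟩, τ, hτs, hτB, hτv⟩ := exists_tau O hker sA ss hP hb₀
      fun M hM q hq => (htop q (hq ▸ hmemP M hM)).1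
    obtain ⟨y, hy⟩ := transl τ hτs
    set g5 : GL (Fin 5) F → Matrix (Fin 5) (Fin 5) F := fun g => (g : Matrix (Fin 5) (Fin 5) F)
    -- vectors in the five-space
    have hEp : ∀ (g : ↥(cenJ H)) (x : Fin 3 → F),
        ((g : GL (Fin 5) F) : Matrix (Fin 5) (Fin 5) F) *ᵥ ((Ep : Matrix (Fin 5) (Fin 3) F) *ᵥ x) =
          (Ep : Matrix (Fin 5) (Fin 3) F) *ᵥ (((pA O.h2 H g : GL (Fin 3) F) : Matrix (Fin 3) (Fin 3) F) *ᵥ x) :=
      fun g x => by rw [Matrix.mulVec_mulVec, Matrix.mulVec_mulVec, mul_Ep h2 (cenJ_comm g), pA_val]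
    have hEn : ∀ (g : ↥(cenJ H)) (x : Fin 2 → F),
        ((g : GL (Fin 5) F) : Matrix (Fin 5) (Fin 5) F) *ᵥ ((En : Matrix (Fin 5) (Fin 2) F) *ᵥ x) =
          (En : Matrix (Fin 5) (Fin 2) F) *ᵥ (((pB O.h2 H g : GL (Fin 2) F) : Matrix (Fin 2) (Fin 2) F) *ᵥ x) :=
      fun g x => by rw [Matrix.mulVec_mulVec, Matrix.mulVec_mulVec, mul_En h2 (cenJ_comm g), pB_val]
    have hJp : ∀ x : Fin 3 → F, (Jm : Matrix (Fin 5) (Fin 5) F) *ᵥ ((Ep : Matrix (Fin 5) (Fin 3) F) *ᵥ x) =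
        (Ep : Matrix (Fin 5) (Fin 3) F) *ᵥ x := fun x => by rw [Matrix.mulVec_mulVec, Jm_Ep h2]
    have hJn : ∀ x : Fin 2 → F, (Jm : Matrix (Fin 5) (Fin 5) F) *ᵥ ((En : Matrix (Fin 5) (Fin 2) F) *ᵥ x) =
        -((En : Matrix (Fin 5) (Fin 2) F) *ᵥ x) := fun x => by rw [Matrix.mulVec_mulVec, Jm_En h2, Matrix.neg_mulVec]
    set hm : Matrix (Fin 5) (Fin 5) F := (h : Matrix (Fin 5) (Fin 5) F) with hhm
    set him : Matrix (Fin 5) (Fin 5) F := ((h⁻¹ : GL (Fin 5) F) : Matrix (Fin 5) (Fin 5) F) with hhim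
    have hhi : him * hm = 1 := Units.inv_mul h
    have hih : hm * him = 1 := Units.mul_inv h
    -- the transport
    have tr1 : ∀ (x : Fin 5 → F) (a b c : F),
        ((s : GL (Fin 5) F) : Matrix (Fin 5) (Fin 5) F) *ᵥ x = a • x → (Jm : Matrix (Fin 5) (Fin 5) F) *ᵥ x = b • x →
        ((τ : GL (Fin 5) F) : Matrix (Fin 5) (Fin 5) F) *ᵥ x = c • x →
        (Jm : Matrix (Fin 5) (Fin 5) F) *ᵥ (hm *ᵥ x) = a • (hm *ᵥ x) ∧
        ((t : GL (Fin 5) F) : Matrix (Fin 5) (Fin 5) F) *ᵥ (hm *ᵥ x) = b • (hm *ᵥ x) ∧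
        ((y : GL (Fin 5) F) : Matrix (Fin 5) (Fin 5) F) *ᵥ (hm *ᵥ x) = c • (hm *ᵥ x) := by
      intro x a b c ha hb hc
      refine ⟨?_, ?_, ?_⟩
      · rw [← Matrix.mulVec_smul, ← ha, es, Units.val_mul, Units.val_mul, ← hhm, ← hhim, Jg_val]
        simp only [Matrix.mulVec_mulVec, ← Matrix.mul_assoc, hih, Matrix.one_mul]
      · rw [et, Units.val_mul, Units.val_mul, ← hhm, ← hhim, Jg_val, ← Matrix.mulVec_smul, ← hb]
        simp only [Matrix.mulVec_mulVec, Matrix.mul_assoc, hhi, Matrix.mul_one]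
      · rw [hy, Units.val_mul, Units.val_mul, ← hhm, ← hhim, ← Matrix.mulVec_smul, ← hc]
        simp only [Matrix.mulVec_mulVec, Matrix.mul_assoc, hhi, Matrix.mul_one]
    -- coordinates of eigenvectors of the involution
    have negc : ∀ x : Fin 5 → F, (Jm : Matrix (Fin 5) (Fin 5) F) *ᵥ x = -x →
        x = (En : Matrix (Fin 5) (Fin 2) F) *ᵥ ((Ln : Matrix (Fin 2) (Fin 5) F) *ᵥ x) := by
      intro x hx
      have h1 := congrArg (fun M => M *ᵥ x) (Ep_Lp_add (F := F) h2)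
      have h3 := congrArg (fun M => M *ᵥ x) (Ep_Lp_sub (F := F) h2)
      simp only [Matrix.add_mulVec, Matrix.sub_mulVec, Matrix.one_mulVec, ← Matrix.mulVec_mulVec, hx] at h1 h3
      funext i
      have e1 := congrFun h1 i
      have e3 := congrFun h3 i
      simp only [Pi.add_apply, Pi.sub_apply, Pi.neg_apply] at e1 e3
      exact mul_left_cancel₀ h2 (by linear_combination -e1 + e3)
    have posc : ∀ x : Fin 5 → F, (Jm : Matrix (Fin 5) (Fin 5) F) *ᵥ x = x →
        x = (Ep : Matrix (Fin 5) (Fin 3) F) *ᵥ ((Lp : Matrix (Fin 3) (Fin 5) F) *ᵥ x) := by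
      intro x hx
      have h1 := congrArg (fun M => M *ᵥ x) (Ep_Lp_add (F := F) h2)
      have h3 := congrArg (fun M => M *ᵥ x) (Ep_Lp_sub (F := F) h2)
      simp only [Matrix.add_mulVec, Matrix.sub_mulVec, Matrix.one_mulVec, ← Matrix.mulVec_mulVec, hx] at h1 h3
      funext i
      have e1 := congrFun h1 i
      have e3 := congrFun h3 i
      simp only [Pi.add_apply, Pi.sub_apply] at e1 e3
      exact mul_left_cancel₀ h2 (by linear_combination -e1 - e3)
    have LnEn : ∀ x : Fin 2 → F, (Ln : Matrix (Fin 2) (Fin 5) F) *ᵥ ((En : Matrix (Fin 5) (Fin 2) F) *ᵥ x) = x :=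
      fun x => by rw [Matrix.mulVec_mulVec, Ln_En h2, Matrix.one_mulVec]
    have LpEp : ∀ x : Fin 3 → F, (Lp : Matrix (Fin 3) (Fin 5) F) *ᵥ ((Ep : Matrix (Fin 5) (Fin 3) F) *ᵥ x) = x :=
      fun x => by rw [Matrix.mulVec_mulVec, Lp_Ep h2, Matrix.one_mulVec]
    have hnz : ∀ x : Fin 5 → F, x ≠ 0 → hm *ᵥ x ≠ 0 := fun x hx e => hx (by
      have := congrArg (him *ᵥ ·) e
      simpa [Matrix.mulVec_mulVec, hhi] using this)
    have hP0 : ∀ x : Fin 2 → F, x ≠ 0 → (P : Matrix (Fin 2) (Fin 2) F) *ᵥ x ≠ 0 := fun x hx e => hx (by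
      have := congrArg (((P⁻¹ : GL (Fin 2) F) : Matrix (Fin 2) (Fin 2) F) *ᵥ ·) e
      simp only [Matrix.mulVec_mulVec, Units.inv_mul, Matrix.one_mulVec, Matrix.mulVec_zero] at this
      exact this)
    set x1 := (P : Matrix (Fin 2) (Fin 2) F) *ᵥ Pi.single 0 1 with hx1
    set x2 := (P : Matrix (Fin 2) (Fin 2) F) *ᵥ Pi.single 1 1 with hx2
    have col : ∀ (M : Matrix (Fin 2) (Fin 2) F) (d : Fin 2 → F) (Pm : Matrix (Fin 2) (Fin 2) F),
        M * Pm = Pm * diagonal d → ∀ i, M *ᵥ (Pm *ᵥ Pi.single i 1) = d i • (Pm *ᵥ Pi.single i 1) := by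
      intro M d Pm e i
      rw [Matrix.mulVec_mulVec, e, ← Matrix.mulVec_mulVec, ← Matrix.mulVec_smul]
      congr 1
      funext j
      rw [Matrix.mulVec_diagonal, Pi.smul_apply, smul_eq_mul]
      by_cases hj : j = i
      · subst hj; simp
      · simp [Pi.single_eq_of_ne hj]
    have hsingle : ∀ i : Fin 2, (Pi.single i (1 : F) : Fin 2 → F) ≠ 0 := fun i e => by
      simpa using congrFun e i
    obtain ⟨J1, t1, y1⟩ := tr1 ((Ep : Matrix (Fin 5) (Fin 3) F) *ᵥ v) (-1) 1 1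
      (by rw [hEp, hve, Matrix.mulVec_neg, neg_smul, one_smul]) (by rw [hJp, one_smul])
      (by rw [hEp, hτv v hve, one_smul])
    obtain ⟨J2, t2, y2⟩ := tr1 ((En : Matrix (Fin 5) (Fin 2) F) *ᵥ x1) 1 (-1) ω
      (by rw [hEn, hx1, col _ _ _ hP 0]; simp [Matrix.mulVec_smul]) (by rw [hJn, neg_smul, one_smul])
      (by rw [hEn, hx1, col _ _ _ hτB 0]; simp [Matrix.mulVec_smul])
    obtain ⟨J3, t3, y3⟩ := tr1 ((En : Matrix (Fin 5) (Fin 2) F) *ᵥ x2) (-1) (-1) (ω ^ 4)
      (by rw [hEn, hx2, col _ _ _ hP 1]; simp [Matrix.mulVec_smul, Matrix.mulVec_neg]) (by rw [hJn, neg_smul, one_smul])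
      (by rw [hEn, hx2, col _ _ _ hτB 1]; simp [Matrix.mulVec_smul])
    rw [neg_smul, one_smul] at J1 t2 J3 t3
    rw [one_smul] at t1 J2 y1
    -- the frame of the translated reflection
    set a := (Ln : Matrix (Fin 2) (Fin 5) F) *ᵥ (hm *ᵥ ((Ep : Matrix (Fin 5) (Fin 3) F) *ᵥ v)) with ha
    set b := (Ln : Matrix (Fin 2) (Fin 5) F) *ᵥ (hm *ᵥ ((En : Matrix (Fin 5) (Fin 2) F) *ᵥ x2)) with hb
    set c := (Lp : Matrix (Fin 3) (Fin 5) F) *ᵥ (hm *ᵥ ((En : Matrix (Fin 5) (Fin 2) F) *ᵥ x1)) with hcdef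
    have eqa := negc _ J1
    have eqb := negc _ J3
    have eqc := posc _ J2
    rw [← ha] at eqa
    rw [← hb] at eqb
    rw [← hcdef] at eqc
    have hEp0 : (Ep : Matrix (Fin 5) (Fin 3) F) *ᵥ v ≠ 0 := fun e => hv0 (by rw [← LpEp v, e, Matrix.mulVec_zero])
    have hEn0 : ∀ x : Fin 2 → F, x ≠ 0 → (En : Matrix (Fin 5) (Fin 2) F) *ᵥ x ≠ 0 := fun x hx e => hx (by
      rw [← LnEn x, e, Matrix.mulVec_zero])
    have a0 : a ≠ 0 := fun e => hnz _ hEp0 (by rw [eqa, e, Matrix.mulVec_zero])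
    have b0 : b ≠ 0 := fun e => hnz _ (hEn0 _ (hP0 _ (hsingle 1))) (by rw [eqb, e, Matrix.mulVec_zero])
    have c0 : c ≠ 0 := fun e => hnz _ (hEn0 _ (hP0 _ (hsingle 0))) (by rw [eqc, e, Matrix.mulVec_zero])
    have actB : ∀ (g : ↥(cenJ H)) (x : Fin 5 → F) (x' : Fin 2 → F) (k : F), x = (En : Matrix (Fin 5) (Fin 2) F) *ᵥ x' →
        ((g : GL (Fin 5) F) : Matrix (Fin 5) (Fin 5) F) *ᵥ x = k • x →
        ((pB O.h2 H g : GL (Fin 2) F) : Matrix (Fin 2) (Fin 2) F) *ᵥ x' = k • x' := by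
      intro g x x' k e1 e2
      subst e1
      have := congrArg ((Ln : Matrix (Fin 2) (Fin 5) F) *ᵥ ·) e2
      rwa [hEn, LnEn, Matrix.mulVec_smul, LnEn] at this
    have actA : ∀ (g : ↥(cenJ H)) (x : Fin 5 → F) (x' : Fin 3 → F) (k : F), x = (Ep : Matrix (Fin 5) (Fin 3) F) *ᵥ x' →
        ((g : GL (Fin 5) F) : Matrix (Fin 5) (Fin 5) F) *ᵥ x = k • x →
        ((pA O.h2 H g : GL (Fin 3) F) : Matrix (Fin 3) (Fin 3) F) *ᵥ x' = k • x' := by
      intro g x x' k e1 e2
      subst e1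
      have := congrArg ((Lp : Matrix (Fin 3) (Fin 5) F) *ᵥ ·) e2
      rwa [hEp, LpEp, Matrix.mulVec_smul, LpEp] at this
    have Bta : Bt *ᵥ a = (1 : F) • a := actB t _ a 1 eqa (by rw [one_smul]; exact t1)
    have Btb : Bt *ᵥ b = (-1 : F) • b := actB t _ b (-1) eqb (by rw [neg_smul, one_smul]; exact t3)
    have hneB : (1 : F) ≠ -1 := fun e => h2 (by linear_combination e)
    have hdet : (Matrix.of fun i j => (![a, b] j) i : Matrix (Fin 2) (Fin 2) F).det ≠ 0 := by
      intro hd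
      simp [Matrix.det_fin_two] at hd
      obtain ⟨k, hk⟩ : ∃ k : F, b = k • a := by
        by_cases h0 : a 0 = 0
        · have h1 : a 1 ≠ 0 := fun e => a0 (by funext i; fin_cases i <;> simp [h0, e])
          refine ⟨b 1 / a 1, ?_⟩
          have b00 : b 0 = 0 := (mul_eq_zero.1 (by linear_combination -hd + b 1 * h0 : b 0 * a 1 = 0)).resolve_right h1
          funext i; fin_cases i <;> simp [h0, b00, h1]
        · refine ⟨b 0 / a 0, ?_⟩
          funext i; fin_cases i <;> simp [h0]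
          field_simp
          linear_combination hd
      have hbk : Bt *ᵥ b = (1 : F) • b := by rw [hk, Matrix.mulVec_smul, Bta, smul_comm]
      rw [Btb] at hbk
      exact b0 ((smul_eq_zero.1 (by rw [sub_smul, hbk, sub_self] : ((1 : F) - -1) • b = 0)).resolve_left (sub_ne_zero.2 hneB))
    set Pt : GL (Fin 2) F := Matrix.GeneralLinearGroup.mkOfDetNeZero _ hdet with hPt
    have hcols : ∀ (M : Matrix (Fin 2) (Fin 2) F) (k l : F), M *ᵥ a = k • a → M *ᵥ b = l • b →
        M * (Pt : Matrix (Fin 2) (Fin 2) F) = (Pt : Matrix (Fin 2) (Fin 2) F) * diagonal ![k, l] := by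
      intro M k l h1 h1'
      ext i j
      rw [mul_diagonal]
      fin_cases j
      · have := congrFun h1 i
        simp [Matrix.mulVec, dotProduct] at this
        simp [Pt, Matrix.mul_apply, mul_comm, this]
      · have := congrFun h1' i
        simp [Matrix.mulVec, dotProduct] at this
        simp [Pt, Matrix.mul_apply, mul_comm, this]
    obtain ⟨b₁, hb₁, hmemT⟩ := hframe t Pt (hcols _ 1 (-1) Bta Btb)
    obtain ⟨-, σ, -, hσB, hσv⟩ := exists_tau O hker tA tt (hcols _ 1 (-1) Bta Btb) hb₁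
      fun M hM q hq => (htop q (hq ▸ hmemT M hM)).1
    have yB : ((pB O.h2 H y : GL (Fin 2) F) : Matrix (Fin 2) (Fin 2) F) * (Pt : Matrix (Fin 2) (Fin 2) F) =
        (Pt : Matrix (Fin 2) (Fin 2) F) * diagonal ![1, ω ^ 4] :=
      hcols _ 1 (ω ^ 4) (actB y _ a 1 eqa (by rw [one_smul]; exact y1)) (actB y _ b _ eqb y3)
    have Atc : ((pA O.h2 H t : GL (Fin 3) F) : Matrix (Fin 3) (Fin 3) F) *ᵥ c = -c := by
      have := actA t _ c (-1) eqc (by rw [neg_smul, one_smul]; exact t2)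
      rwa [neg_smul, one_smul] at this
    have Ayc := actA y _ c ω eqc y2
    set z := y * y * σ⁻¹ with hz
    have zB : ((pB O.h2 H z : GL (Fin 2) F) : Matrix (Fin 2) (Fin 2) F) = ω ^ 4 • (1 : Matrix (Fin 2) (Fin 2) F) := by
      set Pm : Matrix (Fin 2) (Fin 2) F := (Pt : Matrix (Fin 2) (Fin 2) F)
      set Pi' : Matrix (Fin 2) (Fin 2) F := ((Pt⁻¹ : GL (Fin 2) F) : Matrix (Fin 2) (Fin 2) F)
      have hi' : Pi' * Pm = 1 := Units.inv_mul Pt
      have hii : Pm * Pi' = 1 := Units.mul_inv Pt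
      have eσ : ((pB O.h2 H σ : GL (Fin 2) F) : Matrix (Fin 2) (Fin 2) F) = Pm * wM ω * Pi' := by
        rw [← hσB, Matrix.mul_assoc, hii, Matrix.mul_one]
      have ey : ((pB O.h2 H y : GL (Fin 2) F) : Matrix (Fin 2) (Fin 2) F) = Pm * diagonal ![1, ω ^ 4] * Pi' := by
        rw [← yB, Matrix.mul_assoc, hii, Matrix.mul_one]
      have e : ((pB O.h2 H z : GL (Fin 2) F) : Matrix (Fin 2) (Fin 2) F) * ((pB O.h2 H σ : GL (Fin 2) F) : Matrix (Fin 2) (Fin 2) F) =
          (ω ^ 4 • (1 : Matrix (Fin 2) (Fin 2) F)) * ((pB O.h2 H σ : GL (Fin 2) F) : Matrix (Fin 2) (Fin 2) F) := by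
        rw [← Units.val_mul, ← map_mul, hz, inv_mul_cancel_right, map_mul, Units.val_mul, ey, eσ, Matrix.smul_mul,
          Matrix.one_mul, show Pm * diagonal ![1, ω ^ 4] * Pi' * (Pm * diagonal ![1, ω ^ 4] * Pi') =
            Pm * (diagonal ![1, ω ^ 4] * (Pi' * Pm) * diagonal ![1, ω ^ 4]) * Pi' by simp only [Matrix.mul_assoc],
          hi', Matrix.mul_one, ← Matrix.smul_mul, ← Matrix.mul_smul]
        congr 2
        rw [wM, diagonal_mul_diagonal, ← diagonal_smul]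
        refine congrArg diagonal (funext fun i => ?_)
        fin_cases i
        · simp [← pow_succ, r.pow_five]
        · simp [← pow_add]
      exact (pB O.h2 H σ).isUnit.mul_right_cancel e
    have zc : ((pA O.h2 H z : GL (Fin 3) F) : Matrix (Fin 3) (Fin 3) F) *ᵥ c = ω ^ 2 • c := by
      have hσi : (((pA O.h2 H σ)⁻¹ : GL (Fin 3) F) : Matrix (Fin 3) (Fin 3) F) *ᵥ c = c := by
        have := congrArg ((((pA O.h2 H σ)⁻¹ : GL (Fin 3) F) : Matrix (Fin 3) (Fin 3) F) *ᵥ ·) (hσv c Atc)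
        simp only [Matrix.mulVec_mulVec, Units.inv_mul, Matrix.one_mulVec] at this
        exact this.symm
      rw [hz, map_mul, map_mul, map_inv, Units.val_mul, Units.val_mul, ← Matrix.mulVec_mulVec, hσi,
        ← Matrix.mulVec_mulVec, Ayc, Matrix.mulVec_smul, Ayc, smul_smul, pow_two]
    clear_value z
    have hcz : ∀ g : ↥(cenJ H), g ^ 5 = 1 → pA O.h2 H z * pA O.h2 H g = pA O.h2 H g * pA O.h2 H z := by
      intro g hg
      obtain ⟨d, hd⟩ := hker (z * g * (g * z)⁻¹) (by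
        rw [map_mul, map_inv, mul_inv_eq_one, map_mul, map_mul]
        exact Units.ext (by rw [Units.val_mul, Units.val_mul]; exact IsScal.comm ⟨_, zB⟩ _))
      have hd3 := O.det_pA_pB (z * g * (g * z)⁻¹)
      rw [show pB O.h2 H (z * g * (g * z)⁻¹) = 1 by
        rw [map_mul, map_inv, mul_inv_eq_one, map_mul, map_mul]
        exact Units.ext (by rw [Units.val_mul, Units.val_mul]; exact IsScal.comm ⟨_, zB⟩ _),
        Units.val_one, det_one, mul_one, hd, det_smul, det_one, mul_one, Fintype.card_fin] at hd3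
      set G : Matrix (Fin 3) (Fin 3) F := ((pA O.h2 H g : GL (Fin 3) F) : Matrix (Fin 3) (Fin 3) F) with hG
      set Z : Matrix (Fin 3) (Fin 3) F := ((pA O.h2 H z : GL (Fin 3) F) : Matrix (Fin 3) (Fin 3) F) with hZ
      have hZG : Z * G = d • (G * Z) := by
        have e : z * g = z * g * (g * z)⁻¹ * (g * z) := by rw [inv_mul_cancel_right]
        rw [hZ, hG, ← Units.val_mul, ← map_mul, e, map_mul, Units.val_mul, hd, Matrix.smul_mul, Matrix.one_mul,
          map_mul, Units.val_mul]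
      have hm' : ∀ m : ℕ, Z * G ^ m = d ^ m • (G ^ m * Z) := by
        intro m
        induction m with
        | zero => simp
        | succ m ih =>
          rw [pow_succ, ← Matrix.mul_assoc, ih, Matrix.smul_mul, Matrix.mul_assoc, hZG, Matrix.mul_smul, smul_smul,
            ← Matrix.mul_assoc, pow_succ]
      have h5 := hm' 5
      rw [hG, ← Units.val_pow_eq_pow_val, ← map_pow, hg, map_one, Units.val_one, Matrix.mul_one, Matrix.one_mul] at h5
      have hd5 : d ^ 5 = 1 := by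
        have e' : ((1 : F) - d ^ 5) • Z = 0 := by rw [sub_smul, one_smul, ← h5, sub_self]
        exact (sub_eq_zero.1 ((smul_eq_zero.1 e').resolve_right (pA O.h2 H z).ne_zero)).symm
      rw [eq_one_of_coprime (by norm_num : Nat.Coprime 3 5) hd3 hd5, one_smul] at hZG
      exact Units.ext hZG
    obtain ⟨α, hα⟩ := commutant_three r (M := ((pA O.h2 H z : GL (Fin 3) F) : Matrix (Fin 3) (Fin 3) F))
      (by rw [← O.pA_W, ← Units.val_mul, hcz _ O.cW_pow, Units.val_mul])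
      (by rw [← O.pA_V, ← Units.val_mul, hcz _ O.cV_pow, Units.val_mul])
    rw [hα, Matrix.smul_mulVec, Matrix.one_mulVec] at zc
    have hdz := O.det_pA_pB z
    rw [hα, zB, smul_left_injective F c0 zc, det_smul, det_smul, det_one, det_one, mul_one, mul_one, Fintype.card_fin,
      Fintype.card_fin, ← pow_mul, ← pow_mul, ← pow_add] at hdz
    exact absurd (r.pow_eq_one hdz) (by norm_num)
  · -- the small case
    obtain ⟨c, σ, hσ, hcσ⟩ := small_decomp F2 e5 (B := pB O.h2 H s) ⟨s, rfl⟩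
    rw [← hBs] at hcσ
    have hdBs : Bs.det = -1 := by
      have h11 : Bs 1 1 = -Bs 0 0 := by rw [Matrix.trace, Fin.sum_univ_two] at sB; exact eq_neg_of_add_eq_zero_right sB
      have h00 : Bs 0 0 * Bs 0 0 + Bs 0 1 * Bs 1 0 = 1 := by
        simpa [Matrix.mul_apply, Fin.sum_univ_two] using congrFun (congrFun Bs2 0) 0
      rw [Matrix.det_fin_two, h11]
      linear_combination -h00
    have hc2 : c * c = -1 := by
      rw [hcσ, det_smul, σ.2, mul_one, Fintype.card_fin, pow_two] at hdBs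
      exact hdBs
    have hσ2 : σ.1 * σ.1 = -1 := by
      have := Bs2
      rw [hcσ, Matrix.smul_mul, Matrix.mul_smul, smul_smul, hc2, neg_smul, one_smul] at this
      exact neg_eq_iff_eq_neg.1 this
    have hσcomm : σ.1 * Bs = Bs * σ.1 := by rw [hcσ, Matrix.mul_smul, Matrix.smul_mul]
    obtain ⟨x, hx2, hxs⟩ : ∃ x : ↥(cenJ H), x * x = O.Jc ∧ x * s = s * x := by
      rcases hK2cases with hcov | hpm
      · obtain ⟨x, hxA, hxB⟩ := hcov σ hσ
        refine ⟨x, blocks_inj h2 ?_ (Units.ext ?_), blocks_inj h2 ?_ (Units.ext ?_)⟩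
        · rw [map_mul, MonoidHom.mem_ker.1 hxA, one_mul, O.pA_Jc]
        · rw [map_mul, Units.val_mul, O.pB_Jc, hxB]; exact hσ2
        · rw [map_mul, map_mul, MonoidHom.mem_ker.1 hxA, one_mul, mul_one]
        · rw [map_mul, map_mul, Units.val_mul, Units.val_mul, hxB]; exact hσcomm
      · have hker := kernel_scalar O hpm
        obtain ⟨x0, hx0⟩ : Matrix.SpecialLinearGroup.toGL σ ∈ (pB O.h2 H).range := hσ
        exact adjust_square O hker (commute_of_plane O hker sA (g := x0) (Units.ext (by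
          rw [Units.val_mul, Units.val_mul, hx0]; exact hσcomm))) (by rw [hx0]; exact hσ2)
    obtain ⟨y, hy⟩ := transl x hxs
    have hy2 : y * y = t := Subtype.ext (by
      have hx2' : (x : GL (Fin 5) F) * (x : GL (Fin 5) F) = Jg := congrArg Subtype.val hx2
      rw [Subgroup.coe_mul, hy, et, ← hx2']
      group)
    set By : Matrix (Fin 2) (Fin 2) F := ((pB O.h2 H y : GL (Fin 2) F) : Matrix (Fin 2) (Fin 2) F) with hBy
    have hBy2 : By * By = Bt := by rw [hBy, hBt, ← Units.val_mul, ← map_mul, hy2]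
    obtain ⟨d, hd⟩ := small_no_four F2 e5 (B := pB O.h2 H y) ⟨y, rfl⟩ (c := 1) (by
      rw [one_smul, show (4 : ℕ) = 2 + 2 from rfl, pow_add, pow_two, hBy2, hBt, ← Units.val_mul, ← map_mul, tt, map_one,
        Units.val_one])
    rw [← hBy, pow_two, hBy2] at hd
    rw [hd, trace_smul, trace_one, Fintype.card_fin, smul_eq_mul, Nat.cast_ofNat] at tB
    have hd0 : d = 0 := (mul_eq_zero.1 tB).resolve_right h2
    rw [hd0, zero_smul] at hd
    exact (pB O.h2 H t).ne_zero (hBt ▸ hd)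

/-- A proper overgroup of the standard normaliser isolates the involution. -/
theorem involution_isolated {p : ℕ} [Fact p.Prime] [CharP F p] (hp : Fintype.card F = p) (h7 : 7 ≤ p)
    (hproper : ¬ ∀ s : Matrix.SpecialLinearGroup (Fin 5) F, Matrix.SpecialLinearGroup.toGL s ∈ H)
    {h : GL (Fin 5) F} (hh : h ∈ H) (hc : Jg * (h * Jg * h⁻¹) = h * Jg * h⁻¹ * Jg) : h * Jg * h⁻¹ = Jg := by
  refine involution_isolated_of O Set.univ ?_ (psl_part_simple O.hasFives hp h7)
    (fun _ _ _ => ⟨1, one_ne_zero, fun _ _ => Set.mem_univ _⟩) (fun hSL => hproper (top_of_plane O (fun c => ?_)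
      fun q => hSL q (Set.mem_univ _))) hh hc
  · rcases dichotomy O.hasFives hp h7 with htop | h5
    · refine Or.inl fun q _ => ?_
      have := all_of_top O.hasFives ⟨_, ⟨O.Jc, rfl⟩, O.pB_Jc⟩ q (htop ▸ Subgroup.mem_top _)
      exact ⟨this, this⟩
    · exact Or.inr h5
  · obtain ⟨z, hz⟩ := (Fintype.bijective_iff_injective_and_card (ZMod.castHom (dvd_refl p) F)).2
      ⟨(ZMod.castHom (dvd_refl p) F).injective, by rw [ZMod.card, hp]⟩ |>.2 c
    exact ⟨z.val, by rw [← hz, ZMod.castHom_apply, ZMod.natCast_val]⟩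

end CfsgLib.MaxSub.HeisFive
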