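/-
A group of symplectic type and exponent five in dimension five is conjugate to the standard one.
-/
import Cfsg.Agent.Lib.MaxSub.HeisFive.Endgame
import Cfsg.Prelude.Def_GeometricClasses

set_option autoImplicit false
set_option linter.unusedSectionVars false
set_option linter.style.haveILetI false
set_option maxHeartbeats 800000

namespace CfsgLib.MaxSub.HeisFive

open Matrix
open scoped commutatorElement

variable {F : Type*} [Field F] [Fintype F]

/-- The standard position of a group of symplectic type of exponent five, with an extraspecial order. -/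
theorem exists_std_of (h5 : (5 : F) ≠ 0) {R : Subgroup (GL (Fin 5) F)}
    (hsym : Cfsg.Geo.IsSymplecticTypeGroup 5 R)
    (habs : Cfsg.Geo.ActsAbsolutelyIrreducibly (Cfsg.Geo.matrixSet R))
    (hZ : Nat.card (Subgroup.center ↥R) = 5) {m : ℕ} (hm : 1 ≤ m) (hcard : Nat.card ↥R = 5 ^ (1 + 2 * m)) :
    ∃ (g : GL (Fin 5) F) (ω : F) (x y : GL (Fin 5) F), Root ω ∧ (x : Matrix (Fin 5) (Fin 5) F) = Xm ω ∧
      (y : Matrix (Fin 5) (Fin 5) F) = Ym ∧ R = (Subgroup.closure {x, y}).map (MulAut.conj g).toMonoidHom := by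
  classical
  have hexp : Monoid.exponent ↥R = 5 := by rw [hsym.exponent_eq]; norm_num
  have hpow : ∀ r : ↥R, r ^ 5 = 1 := fun r => by
    have := Monoid.pow_exponent_eq_one r
    rwa [hexp] at this
  set Z := Subgroup.center ↥R with hZdef
  have hscal : ∀ z ∈ Z, ∃ c : F, c ^ 5 = 1 ∧
      ((z : GL (Fin 5) F) : Matrix (Fin 5) (Fin 5) F) = c • (1 : Matrix (Fin 5) (Fin 5) F) := by
    intro z hz
    obtain ⟨c, hc⟩ := habs.2 ((z : GL (Fin 5) F) : Matrix (Fin 5) (Fin 5) F) (by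
      rintro _ ⟨r, hr, rfl⟩
      exact congrArg (fun x : ↥R => ((x : GL (Fin 5) F) : Matrix (Fin 5) (Fin 5) F))
        (Subgroup.mem_center_iff.1 hz ⟨r, hr⟩).symm)
    refine ⟨c, ?_, hc⟩
    have h1 := congrArg (fun x : ↥R => ((x : GL (Fin 5) F) : Matrix (Fin 5) (Fin 5) F)) (hpow z)
    simp only [SubmonoidClass.coe_pow, Units.val_pow_eq_pow_val, OneMemClass.coe_one, Units.val_one, hc, smul_pow,
      one_pow] at h1
    have := congrFun (congrFun h1 0) 0
    simpa using this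
  -- the second centre is not abelian
  haveI hchar : (Subgroup.upperCentralSeries ↥R 2).Characteristic := inferInstance
  set U := Subgroup.upperCentralSeries ↥R 2 with hU
  have hUmem : ∀ u : ↥R, u ∈ U ↔ ∀ r : ↥R, ⁅u, r⁆ ∈ Z := by
    intro u
    rw [hU, Subgroup.mem_upperCentralSeries_succ_iff, Subgroup.upperCentralSeries_one]
  have hlt : 1 < Nat.card (↥R ⧸ Z) := by
    have := Subgroup.card_eq_card_quotient_mul_card_subgroup Z
    rw [hZ, hcard] at this
    have h125 : 5 ^ 3 ≤ 5 ^ (1 + 2 * m) := Nat.pow_le_pow_right (by norm_num) (by omega)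
    omega
  haveI : Fact (Nat.Prime 5) := ⟨Nat.prime_five⟩
  haveI : Nontrivial (↥R ⧸ Z) := Finite.one_lt_card_iff_nontrivial.1 hlt
  haveI := (hsym.pGroup.to_quotient Z).center_nontrivial
  obtain ⟨⟨xq, hxqc⟩, hxq⟩ := exists_ne (1 : Subgroup.center (↥R ⧸ Z))
  obtain ⟨x0, rfl⟩ := QuotientGroup.mk_surjective xq
  have hx0Z : x0 ∉ Z := fun e => hxq (Subtype.ext ((QuotientGroup.eq_one_iff x0).2 e))
  have hx0U : x0 ∈ U := (hUmem x0).2 fun r => by
    rw [← QuotientGroup.eq_one_iff, ← QuotientGroup.mk'_apply, map_commutatorElement, commutatorElement_eq_one_iff_mul_comm]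
    exact (Subgroup.mem_center_iff.1 hxqc (QuotientGroup.mk' Z r)).symm
  have hZU : Z ≤ U := fun z hz => (hUmem z).2 fun r => by
    rw [commutatorElement_eq_one_iff_mul_comm.2 ((Subgroup.mem_center_iff.1 hz r).symm)]
    exact one_mem _
  obtain ⟨a, haU, b, hbU, hab⟩ : ∃ a ∈ U, ∃ b ∈ U, a * b ≠ b * a := by
    by_contra hcon
    push Not at hcon
    haveI hUc : IsMulCommutative ↥U := ⟨⟨fun a b => Subtype.ext (hcon a a.2 b b.2)⟩⟩
    haveI := hsym.cyclic_of_characteristic U hchar hUc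
    have hdvd : Nat.card ↥U ∣ 5 := by
      rw [← IsCyclic.exponent_eq_card]
      exact (Monoid.exponent_dvd_of_monoidHom U.subtype U.subtype_injective).trans (dvd_of_eq hexp)
    have hle : Nat.card ↥U ≤ Nat.card ↥Z := by rw [hZ]; exact Nat.le_of_dvd (by norm_num) hdvd
    exact hx0Z ((Subgroup.eq_of_le_of_card_ge hZU hle).symm ▸ hx0U)
  -- the root of unity
  set A : GL (Fin 5) F := (a : GL (Fin 5) F) with hA
  set B : GL (Fin 5) F := (b : GL (Fin 5) F) with hB
  obtain ⟨ζ, hζ5, hζ⟩ := hscal _ ((hUmem a).1 haU b)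
  have hAB : (A : Matrix (Fin 5) (Fin 5) F) * B = ζ • ((B : Matrix (Fin 5) (Fin 5) F) * A) := by
    have h1 : a * b = ⁅a, b⁆ * (b * a) := by rw [commutatorElement_def]; group
    have h2 := congrArg (fun x : ↥R => ((x : GL (Fin 5) F) : Matrix (Fin 5) (Fin 5) F)) h1
    simp only [Subgroup.coe_mul, Units.val_mul] at h2
    rw [hζ, Matrix.smul_mul, Matrix.one_mul] at h2
    exact h2
  have hζ1 : ζ ≠ 1 := fun e => by
    rw [e, one_smul] at hAB
    exact hab (Subtype.ext (Units.ext hAB))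
  have h : Root ζ := root_of_pow hζ5 hζ1 h5
  have hA5 : (A : Matrix (Fin 5) (Fin 5) F) ^ 5 = 1 := by
    rw [← Units.val_pow_eq_pow_val, hA, ← SubmonoidClass.coe_pow, hpow a]; rfl
  have hB5 : (B : Matrix (Fin 5) (Fin 5) F) ^ 5 = 1 := by
    rw [← Units.val_pow_eq_pow_val, hB, ← SubmonoidClass.coe_pow, hpow b]; rfl
  -- an eigenvector
  set M : Matrix (Fin 5) (Fin 5) F := (A : Matrix (Fin 5) (Fin 5) F) with hM
  set N : Matrix (Fin 5) (Fin 5) F := (B : Matrix (Fin 5) (Fin 5) F) with hN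
  have hMN : ∀ (j : ℕ) (v : Fin 5 → F), M *ᵥ (N ^ j *ᵥ v) = ζ ^ j • (N ^ j *ᵥ (M *ᵥ v)) := by
    intro j
    induction j with
    | zero => intro v; simp
    | succ j ih =>
      intro v
      rw [pow_succ, ← mulVec_mulVec, ih, mulVec_mulVec v M N, hAB, smul_mulVec, ← mulVec_mulVec, mulVec_smul,
        smul_smul, ← pow_succ, mulVec_mulVec]
  obtain ⟨v, hv0, hv⟩ : ∃ v : Fin 5 → F, v ≠ 0 ∧ M *ᵥ v = v := by
    set v0 : Fin 5 → F := Pi.single 0 1
    let S : Fin 5 → (Fin 5 → F) := fun i => ∑ k : Fin 5, ζ ^ (4 * (i : ℕ) * (k : ℕ)) • (M ^ (k : ℕ) *ᵥ v0)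
    have hSe : ∀ i, M *ᵥ S i = ζ ^ (i : ℕ) • S i := by
      intro i
      simp only [S, mulVec_sum, Finset.smul_sum]
      refine Fintype.sum_equiv (Equiv.addRight (1 : Fin 5)) _ _ fun k => ?_
      rw [mulVec_smul, mulVec_mulVec, ← pow_succ', Equiv.coe_addRight, smul_smul, ← pow_add]
      have e1 : M ^ ((k : ℕ) + 1) = M ^ (((k + 1 : Fin 5)) : ℕ) := by
        rw [Fin.val_add]
        conv_lhs => rw [← Nat.div_add_mod ((k : ℕ) + 1) 5, pow_add, pow_mul, hA5, one_pow, one_mul]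
        rfl
      rw [e1]
      congr 1
      rw [h.pow_mod (4 * (i : ℕ) * (k : ℕ)), h.pow_mod ((i : ℕ) + 4 * (i : ℕ) * ((k + 1 : Fin 5) : ℕ))]
      congr 1
      rw [Fin.val_add, show ((1 : Fin 5) : ℕ) = 1 from rfl]
      rw [Nat.add_mod, Nat.mul_mod (4 * (i : ℕ)) (((k : ℕ) + 1) % 5), Nat.mod_mod, ← Nat.mul_mod, ← Nat.add_mod,
        show (i : ℕ) + 4 * (i : ℕ) * ((k : ℕ) + 1) = 4 * (i : ℕ) * (k : ℕ) + 5 * (i : ℕ) by ring,
        Nat.add_mul_mod_self_left]
    obtain ⟨i, hi⟩ : ∃ i, S i ≠ 0 := by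
      by_contra hcon
      push Not at hcon
      have hsum : ∑ i, S i = (5 : F) • v0 := by
        simp only [S]
        rw [Finset.sum_comm, Finset.sum_eq_single (0 : Fin 5)]
        · simp [← Nat.cast_smul_eq_nsmul F]
        · intro k _ hk
          rw [← Finset.sum_smul]
          have e : ∀ i : Fin 5, ζ ^ (4 * (i : ℕ) * (k : ℕ)) = ζ ^ (4 * (k : ℕ) * (i : ℕ)) := fun i => by
            rw [mul_right_comm]
          simp only [e, h.sum_pow]
          rw [if_neg, zero_smul]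
          intro hd
          have := Fin.val_ne_of_ne hk
          have := k.2
          rcases Nat.prime_five.dvd_mul.1 hd with e | e
          · norm_num at e
          · have := Nat.le_of_dvd (by simp at this ⊢; omega) e
            omega
        · simp
      rw [Finset.sum_eq_zero fun i _ => hcon i] at hsum
      have := congrFun hsum 0
      simp [v0] at this
      exact h5 this.symm
    refine ⟨N ^ (4 * (i : ℕ)) *ᵥ S i, fun e => hi ?_, ?_⟩
    · have := congrArg (fun w => N ^ (i : ℕ) *ᵥ w) e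
      simp only [mulVec_mulVec, mulVec_zero] at this
      rwa [← pow_add, show (i : ℕ) + 4 * (i : ℕ) = 5 * (i : ℕ) by ring, pow_mul, hB5, one_pow, one_mulVec] at this
    · rw [hMN, hSe, mulVec_smul, smul_smul, ← pow_add, show 4 * (i : ℕ) + (i : ℕ) = 5 * (i : ℕ) by ring, pow_mul,
        h.pow_five, one_pow, one_smul]
  -- the new basis
  set P : Matrix (Fin 5) (Fin 5) F := Matrix.of fun r c => (N ^ (c : ℕ) *ᵥ v) r with hP
  have hcol : ∀ c : Fin 5, P.col c = N ^ (c : ℕ) *ᵥ v := fun c => rfl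
  have hne : ∀ c : Fin 5, N ^ (c : ℕ) *ᵥ v ≠ 0 := fun c e => hv0 (by
    have := congrArg (fun w => N ^ (4 * (c : ℕ)) *ᵥ w) e
    simp only [mulVec_mulVec, mulVec_zero] at this
    rwa [← pow_add, show 4 * (c : ℕ) + (c : ℕ) = 5 * (c : ℕ) by ring, pow_mul, hB5, one_pow, one_mulVec] at this)
  have heig : ∀ c : Fin 5, M *ᵥ (N ^ (c : ℕ) *ᵥ v) = ζ ^ (c : ℕ) • (N ^ (c : ℕ) *ᵥ v) := fun c => by rw [hMN, hv]
  have hPu : IsUnit P := by
    refine Matrix.linearIndependent_cols_iff_isUnit.1 ?_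
    refine Module.End.eigenvectors_linearIndependent' (Matrix.toLin' M) (fun c : Fin 5 => ζ ^ (c : ℕ)) ?_ _ fun c => ?_
    · intro c d e
      have := h.pow_inj e
      exact Fin.ext (by omega)
    · refine ⟨?_, by rw [hcol]; exact hne c⟩
      rw [Module.End.mem_eigenspace_iff, Matrix.toLin'_apply, hcol]
      exact heig c
  set g : GL (Fin 5) F := hPu.unit with hg
  have hgv : (g : Matrix (Fin 5) (Fin 5) F) = P := hPu.unit_spec
  have hPX : M * P = P * Xm ζ := by
    ext r c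
    rw [Xm, mul_diagonal, mul_comm (P r c)]
    exact congrFun (heig c) r
  have hPY : N * P = P * Ym := by
    ext r c
    rw [mul_Ym]
    show (N *ᵥ (N ^ (c : ℕ) *ᵥ v)) r = (N ^ (((c + 1 : Fin 5)) : ℕ) *ᵥ v) r
    rw [mulVec_mulVec, ← pow_succ', Fin.val_add]
    conv_lhs => rw [← Nat.div_add_mod ((c : ℕ) + 1) 5, pow_add, pow_mul, hB5, one_pow, Matrix.one_mul]
    rfl
  set x : GL (Fin 5) F := g⁻¹ * A * g with hxdef
  set y : GL (Fin 5) F := g⁻¹ * B * g with hydef
  have ex : (x : Matrix (Fin 5) (Fin 5) F) = Xm ζ := by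
    rw [hxdef, Units.val_mul, Units.val_mul, hgv, Matrix.mul_assoc, ← hM, hPX, ← Matrix.mul_assoc, ← hgv, Units.inv_mul,
      Matrix.one_mul]
  have ey : (y : Matrix (Fin 5) (Fin 5) F) = Ym := by
    rw [hydef, Units.val_mul, Units.val_mul, hgv, Matrix.mul_assoc, ← hN, hPY, ← Matrix.mul_assoc, ← hgv, Units.inv_mul,
      Matrix.one_mul]
  refine ⟨g, ζ, x, y, h, ex, ey, le_antisymm (fun r hr => ?_) ?_⟩
  · refine ⟨g⁻¹ * r * g, ?_, by simp [mul_assoc]⟩
    set s : GL (Fin 5) F := g⁻¹ * r * g with hs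
    have hcm : ∀ u : ↥R, u ∈ U → (QuotientGroup.mk (g⁻¹ * (u : GL (Fin 5) F) * g * s) :
        GL (Fin 5) F ⧸ Cfsg.Geo.scalars (Fin 5) F) = QuotientGroup.mk (s * (g⁻¹ * (u : GL (Fin 5) F) * g)) := by
      intro u hu
      obtain ⟨c, hc5, hc⟩ := hscal _ ((hUmem u).1 hu ⟨r, hr⟩)
      refine ((mk_eq_iff _ _).2 ⟨c, fun e => ?_, ?_⟩).symm
      · rw [e, zero_pow (by norm_num)] at hc5
        exact zero_ne_one hc5
      · rw [hs, show g⁻¹ * (u : GL (Fin 5) F) * g * (g⁻¹ * r * g) =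
          g⁻¹ * ((⁅u, (⟨r, hr⟩ : ↥R)⁆ : ↥R) : GL (Fin 5) F) * (r * (u : GL (Fin 5) F) * g) by
            simp only [commutatorElement_def, Subgroup.coe_mul, Subgroup.coe_inv]; group,
          show g⁻¹ * r * g * (g⁻¹ * (u : GL (Fin 5) F) * g) = g⁻¹ * (r * (u : GL (Fin 5) F) * g) by group]
        simp only [Units.val_mul]
        rw [hc, Matrix.mul_smul, Matrix.mul_one, Matrix.smul_mul]
    obtain ⟨c, i, k, hc0, hcs⟩ := monomial_of h ex ey (hcm a haU) (hcm b hbU)
    set R0 := Subgroup.closure ({x, y} : Set (GL (Fin 5) F)) with hR0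
    have hxR : x ∈ R0 := Subgroup.subset_closure (Set.mem_insert _ _)
    have hyR : y ∈ R0 := Subgroup.subset_closure (Set.mem_insert_of_mem _ rfl)
    set u0 : GL (Fin 5) F := y ^ i * x ^ k with hu0
    have hu0R : u0 ∈ R0 := mul_mem (pow_mem hyR i) (pow_mem hxR k)
    have hR0le : R0 ≤ R.comap (MulAut.conj g).toMonoidHom := by
      rw [hR0, Subgroup.closure_le]
      rintro _ (rfl | rfl)
      · show g * (g⁻¹ * A * g) * g⁻¹ ∈ R
        simp [mul_assoc, hA]
      · show g * (g⁻¹ * B * g) * g⁻¹ ∈ R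
        simp [mul_assoc, hB]
    have hu05 : u0 ^ 5 = 1 := by
      have hmem : g * u0 * g⁻¹ ∈ R := hR0le hu0R
      have := congrArg Subtype.val (hpow ⟨_, hmem⟩)
      rw [SubmonoidClass.coe_pow, OneMemClass.coe_one] at this
      change (g * u0 * g⁻¹) ^ 5 = 1 at this
      rw [conj_pow, conj_eq_one_iff] at this
      exact this
    have hs5 : s ^ 5 = 1 := by
      have := congrArg Subtype.val (hpow ⟨r, hr⟩)
      rw [SubmonoidClass.coe_pow, OneMemClass.coe_one] at this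
      change r ^ 5 = 1 at this
      rw [hs, show g⁻¹ * r * g = g⁻¹ * r * g⁻¹⁻¹ by rw [inv_inv], conj_pow, this]
      group
    have hc5 : c ^ 5 = 1 := by
      have e1 := congrArg (fun u : GL (Fin 5) F => (u : Matrix (Fin 5) (Fin 5) F)) hs5
      simp only [Units.val_pow_eq_pow_val, hcs, smul_pow, Units.val_one] at e1
      rw [← Units.val_pow_eq_pow_val, hu05, Units.val_one] at e1
      have := congrFun (congrFun e1 0) 0
      simpa using this
    obtain ⟨j, -, hj⟩ := h.prim.eq_pow_of_pow_eq_one hc5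
    have e : s = (x * y * x⁻¹ * y⁻¹) ^ j * u0 := by
      refine Units.ext ?_
      have e1 : ((x * y * x⁻¹ * y⁻¹ : GL (Fin 5) F) : Matrix (Fin 5) (Fin 5) F) = ζ • 1 := by
        rw [Units.val_mul, Units.val_mul, Units.val_mul, ex, ey, Xm_Ym h, ← ex, ← ey, Matrix.smul_mul, Matrix.smul_mul,
          Matrix.mul_assoc (y : Matrix (Fin 5) (Fin 5) F), Units.mul_inv, Matrix.mul_one, Units.mul_inv]
      rw [hcs, ← hj, Units.val_mul ((x * y * x⁻¹ * y⁻¹) ^ j) u0, Units.val_pow_eq_pow_val, e1, smul_pow, one_pow,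
        Matrix.smul_mul, Matrix.one_mul]
    show s ∈ R0
    rw [e]
    exact mul_mem (pow_mem (mul_mem (mul_mem (mul_mem hxR hyR) (inv_mem hxR)) (inv_mem hyR)) j) hu0R
  · rw [Subgroup.map_le_iff_le_comap, Subgroup.closure_le]
    rintro _ (rfl | rfl)
    · show g * (g⁻¹ * A * g) * g⁻¹ ∈ R
      simp [mul_assoc, hA]
    · show g * (g⁻¹ * B * g) * g⁻¹ ∈ R
      simp [mul_assoc, hB]

/-- The standard position of a group of symplectic type of exponent five. -/
theorem exists_std (h5 : (5 : F) ≠ 0) (h2 : (2 : F) ≠ 0) {R : Subgroup (GL (Fin 5) F)}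
    (hR : Cfsg.Geo.IsLinearSymplecticTypeData 5 R) :
    ∃ (g : GL (Fin 5) F) (ω : F) (x y : GL (Fin 5) F), Root ω ∧ (x : Matrix (Fin 5) (Fin 5) F) = Xm ω ∧
      (y : Matrix (Fin 5) (Fin 5) F) = Ym ∧ R = (Subgroup.closure {x, y}).map (MulAut.conj g).toMonoidHom := by
  obtain ⟨p, e, -, -, hd⟩ := hR.field
  rcases hd with ⟨-, -, hZ, m, hm, hcard⟩ | ⟨hc, -⟩ | ⟨hc, -⟩
  · exact exists_std_of h5 hR.symplecticType hR.absIrred hZ hm hcard
  · exact absurd hc (by decide)
  · exact absurd hc (by decide)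

end CfsgLib.MaxSub.HeisFive
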