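/-
Normalisers of groups of symplectic type of order 125 are maximal in SL(5, p), p = 1 mod 5.
-/
import Cfsg.Agent.Lib.MaxSub.HeisFive.Fusion
import Cfsg.Agent.Lib.MaxSub.HeisFive.Std

set_option autoImplicit false
set_option linter.unusedSectionVars false
set_option linter.style.haveILetI false
set_option maxHeartbeats 800000

namespace CfsgLib.MaxSub.HeisFive

open Matrix

variable {F : Type*} [Field F] [Fintype F]

/-- Elements of the standard group commute with the diagonal generator up to a scalar. -/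
theorem std_comm_X {ω : F} (h : Root ω) {x y : GL (Fin 5) F} (ex : (x : Matrix (Fin 5) (Fin 5) F) = Xm ω)
    (ey : (y : Matrix (Fin 5) (Fin 5) F) = Ym) {r : GL (Fin 5) F} (hr : r ∈ Subgroup.closure ({x, y} : Set _)) :
    ∃ c : F, c ≠ 0 ∧ Xm ω * (r : Matrix (Fin 5) (Fin 5) F) = c • ((r : Matrix (Fin 5) (Fin 5) F) * Xm ω) := by
  induction hr using Subgroup.closure_induction with
  | mem r hr =>
    rcases hr with rfl | rfl
    · exact ⟨1, one_ne_zero, by rw [one_smul, ex]⟩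
    · exact ⟨ω, h.ne_zero, by rw [ey]; exact Xm_Ym h⟩
  | one => exact ⟨1, one_ne_zero, by simp⟩
  | mul a b _ _ ha hb =>
    obtain ⟨c, hc, ea⟩ := ha
    obtain ⟨d, hd, eb⟩ := hb
    refine ⟨c * d, mul_ne_zero hc hd, ?_⟩
    rw [Units.val_mul, ← Matrix.mul_assoc, ea, Matrix.smul_mul, Matrix.mul_assoc, eb, Matrix.mul_smul, smul_smul,
      Matrix.mul_assoc]
  | inv a _ ha =>
    obtain ⟨c, hc, ea⟩ := ha
    refine ⟨c⁻¹, inv_ne_zero hc, ?_⟩
    set ai : Matrix (Fin 5) (Fin 5) F := ((a⁻¹ : GL (Fin 5) F) : Matrix (Fin 5) (Fin 5) F)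
    calc Xm ω * ai = c⁻¹ • (ai * (c • ((a : Matrix (Fin 5) (Fin 5) F) * Xm ω)) * ai) := by
          rw [Matrix.mul_smul, Matrix.smul_mul, smul_smul, inv_mul_cancel₀ hc, one_smul, ← Matrix.mul_assoc ai,
            Units.inv_mul, Matrix.one_mul]
      _ = c⁻¹ • (ai * Xm ω) := by
          rw [← ea, Matrix.mul_assoc, Matrix.mul_assoc, Units.mul_inv, Matrix.mul_one]

/-- The standard normaliser is maximal. -/
theorem std_maximal [NeZero (2 : F)] {p : ℕ} [Fact p.Prime] [CharP F p] (hp : Fintype.card F = p) (h7 : 7 ≤ p) {ω : F} (h : Root ω)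
    {x y : GL (Fin 5) F} (ex : (x : Matrix (Fin 5) (Fin 5) F) = Xm ω) (ey : (y : Matrix (Fin 5) (Fin 5) F) = Ym) :
    Cfsg.Geo.IsMaximalIn (Cfsg.Geo.specialLinear (Fin 5) F)
      (Cfsg.Geo.subgroupNormalizer (Subgroup.closure {x, y}) ⊓ Cfsg.Geo.specialLinear (Fin 5) F) := by
  classical
  set R := Subgroup.closure ({x, y} : Set (GL (Fin 5) F)) with hR
  have hxR : x ∈ R := Subgroup.subset_closure (Set.mem_insert _ _)
  have hyR : y ∈ R := Subgroup.subset_closure (Set.mem_insert_of_mem _ rfl)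
  have hdet : ∀ g : GL (Fin 5) F,
      (g : Matrix (Fin 5) (Fin 5) F).det = 1 ↔ g ∈ Cfsg.Geo.specialLinear (Fin 5) F := fun g => by
    rw [Cfsg.Geo.specialLinear, MonoidHom.mem_ker, ← Matrix.GeneralLinearGroup.val_det_apply, Units.val_eq_one]
  have hnorm : ∀ g : GL (Fin 5) F, g * x * g⁻¹ ∈ R → g * y * g⁻¹ ∈ R → g ∈ Cfsg.Geo.subgroupNormalizer R := by
    intro g hgx hgy
    have hle : R.map (MulAut.conj g).toMonoidHom ≤ R := by
      rw [Subgroup.map_le_iff_le_comap, hR, Subgroup.closure_le]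
      rintro _ (rfl | rfl)
      · exact hgx
      · exact hgy
    have heq : R.map (MulAut.conj g).toMonoidHom = R := Subgroup.eq_of_le_of_card_ge hle
      (by rw [Subgroup.card_map_of_injective (MulAut.conj g).injective])
    show g ∈ Subgroup.normalizer (R : Set (GL (Fin 5) F))
    rw [Subgroup.mem_normalizer_iff]
    refine fun r => ⟨fun hr => heq ▸ ⟨r, hr, rfl⟩, fun hr => ?_⟩
    rw [← heq] at hr
    obtain ⟨s, hs, hse⟩ := hr
    have : s = r := (MulAut.conj g).injective hse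
    exact this ▸ hs
  have dx : (x : Matrix (Fin 5) (Fin 5) F).det = 1 := by rw [ex]; exact det_Xm h
  have dy : (y : Matrix (Fin 5) (Fin 5) F).det = 1 := by rw [ey]; exact det_Ym h
  have hRN : ∀ r ∈ R, r ∈ Cfsg.Geo.subgroupNormalizer R := fun r hr =>
    hnorm r (mul_mem (mul_mem hr hxR) (inv_mem hr)) (mul_mem (mul_mem hr hyR) (inv_mem hr))
  have hxN : x ∈ Cfsg.Geo.subgroupNormalizer R ⊓ Cfsg.Geo.specialLinear (Fin 5) F := ⟨hRN x hxR, (hdet x).1 dx⟩
  have hyN : y ∈ Cfsg.Geo.subgroupNormalizer R ⊓ Cfsg.Geo.specialLinear (Fin 5) F := ⟨hRN y hyR, (hdet y).1 dy⟩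
  set z : GL (Fin 5) F := x * y * x⁻¹ * y⁻¹ with hz
  have hzR : z ∈ R := mul_mem (mul_mem (mul_mem hxR hyR) (inv_mem hxR)) (inv_mem hyR)
  have ez : (z : Matrix (Fin 5) (Fin 5) F) = ω • 1 := by
    rw [hz, Units.val_mul, Units.val_mul, Units.val_mul, ex, ey, Xm_Ym h, ← ex, ← ey, Matrix.smul_mul, Matrix.smul_mul,
      Matrix.mul_assoc (y : Matrix (Fin 5) (Fin 5) F), Units.mul_inv, Matrix.mul_one, Units.mul_inv]
  obtain ⟨w, ew⟩ : ∃ w : GL (Fin 5) F, (w : Matrix (Fin 5) (Fin 5) F) = Wm ω :=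
    ⟨((Matrix.isUnit_iff_isUnit_det _).2 (by rw [det_Wm h]; exact isUnit_one)).unit, IsUnit.unit_spec _⟩
  obtain ⟨f, ef⟩ : ∃ f : GL (Fin 5) F, (f : Matrix (Fin 5) (Fin 5) F) = Fm ω :=
    ⟨((Matrix.isUnit_iff_isUnit_det _).2 (by rw [det_Fm h]; exact isUnit_one)).unit, IsUnit.unit_spec _⟩
  have hwN : w ∈ Cfsg.Geo.subgroupNormalizer R ⊓ Cfsg.Geo.specialLinear (Fin 5) F := by
    refine ⟨hnorm w ?_ ?_, (hdet w).1 (by rw [ew]; exact det_Wm h)⟩
    · have e : w * x * w⁻¹ = x := by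
        rw [mul_inv_eq_iff_eq_mul]
        exact Units.ext (by rw [Units.val_mul, Units.val_mul, ew, ex, Wm_Xm h])
      rw [e]; exact hxR
    · have e : w * y * w⁻¹ = z * (y * x * x) := by
        rw [mul_inv_eq_iff_eq_mul]
        refine Units.ext ?_
        simp only [Units.val_mul, ez, ew, ex, ey, Matrix.smul_mul, Matrix.one_mul]
        exact Wm_Ym h
      rw [e]; exact mul_mem hzR (mul_mem (mul_mem hyR hxR) hxR)
  have hfN : f ∈ Cfsg.Geo.subgroupNormalizer R ⊓ Cfsg.Geo.specialLinear (Fin 5) F := by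
    refine ⟨hnorm f ?_ ?_, (hdet f).1 (by rw [ef]; exact det_Fm h)⟩
    · have e : f * x * f⁻¹ = y⁻¹ := by
        rw [mul_inv_eq_iff_eq_mul, eq_inv_mul_iff_mul_eq, ← mul_assoc]
        exact Units.ext (by rw [Units.val_mul, Units.val_mul, ef, ex, ey, Fm_Ym h])
      rw [e]; exact inv_mem hyR
    · have e : f * y * f⁻¹ = x := by
        rw [mul_inv_eq_iff_eq_mul]
        exact Units.ext (by rw [Units.val_mul, Units.val_mul, ef, ex, ey, Fm_Xm h])
      rw [e]; exact hxR
  refine ⟨lt_of_le_of_ne inf_le_right fun e => ?_, fun M hM hMS => ?_⟩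
  · -- a transvection does not normalise
    have h01 : (0 : Fin 5) ≠ 1 := by decide
    let T : GL (Fin 5) F := ⟨Matrix.transvection 0 1 1, Matrix.transvection 0 1 (-1),
      by rw [Matrix.transvection_mul_transvection_same _ _ h01, add_neg_cancel, Matrix.transvection_zero],
      by rw [Matrix.transvection_mul_transvection_same _ _ h01, neg_add_cancel, Matrix.transvection_zero]⟩
    have hT : T ∈ Cfsg.Geo.subgroupNormalizer R := (inf_le_left : _ ≤ Cfsg.Geo.subgroupNormalizer R) (by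
      rw [e]; exact (hdet T).1 (Matrix.det_transvection_of_ne _ _ h01 _))
    obtain ⟨c, -, hc⟩ := std_comm_X h ex ey ((Subgroup.mem_normalizer_iff.1 hT x).1 hxR)
    rw [Units.val_mul, Units.val_mul, ex] at hc
    have e00 := congrFun (congrFun hc 0) 0
    have e01 := congrFun (congrFun hc 0) 1
    rw [show ((T : GL (Fin 5) F) : Matrix (Fin 5) (Fin 5) F) = Matrix.transvection 0 1 1 from rfl,
      show ((T⁻¹ : GL (Fin 5) F) : Matrix (Fin 5) (Fin 5) F) = Matrix.transvection 0 1 (-1) from rfl] at e00 e01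
    simp [Xm, Matrix.transvection, Matrix.mul_apply, Fin.sum_univ_five, Matrix.diagonal, Matrix.one_apply,
      Matrix.single] at e00 e01
    have hk : (ω - 1) * (ω - 1) = 0 := by
      rw [← e00] at e01
      first | linear_combination e01 | linear_combination -e01
    exact h.ne_one (sub_eq_zero.1 (mul_self_eq_zero.1 hk))
  · by_cases hfull : ∀ s : Matrix.SpecialLinearGroup (Fin 5) F, Matrix.SpecialLinearGroup.toGL s ∈ M
    · right
      refine le_antisymm hMS fun m hm => ?_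
      have := hfull ⟨(m : Matrix (Fin 5) (Fin 5) F), (hdet m).2 hm⟩
      rwa [show Matrix.SpecialLinearGroup.toGL ⟨(m : Matrix (Fin 5) (Fin 5) F), (hdet m).2 hm⟩ = m from
        Units.ext rfl] at this
    · left
      have O : Over ω M := ⟨h, fun g hg => (hdet g).2 (hMS hg), ⟨x, hM hxN, ex⟩, ⟨y, hM hyN, ey⟩, ⟨w, hM hwN, ew⟩,
        ⟨f, hM hfN, ef⟩⟩
      have hnor := normalises_of_isolated O (fun g hg hc => involution_isolated O hp h7 hfull hg hc) ex ey
      exact le_antisymm (fun g hg => ⟨hnorm g (hnor g hg x hxR) (hnor g hg y hyR), hMS hg⟩) hM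

/-- Item (5): normalisers of symplectic-type groups are maximal. -/
theorem sl_symplectic_five_maximal (hp : ∃ p : ℕ, p.Prime ∧ Fintype.card F = p ∧ p % 5 = 1)
    (R : Subgroup (GL (Fin 5) F)) (hR : Cfsg.Geo.IsLinearSymplecticTypeData 5 R) :
    Cfsg.Geo.IsMaximalIn (Cfsg.Geo.specialLinear (Fin 5) F)
      (Cfsg.Geo.subgroupNormalizer R ⊓ Cfsg.Geo.specialLinear (Fin 5) F) := by
  classical
  obtain ⟨p, hpp, hF, hp5⟩ := hp
  haveI : Fact p.Prime := ⟨hpp⟩
  haveI : CharP F p := charP_of_card_eq_prime hF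
  have h7 : 7 ≤ p := by
    have := hpp.two_le
    by_contra hc
    interval_cases p <;> first | omega | norm_num at hpp
  have h5 : (5 : F) ≠ 0 := by
    have := CharP.cast_eq_zero_iff F p 5
    rw [show ((5 : ℕ) : F) = (5 : F) from Nat.cast_ofNat] at this
    intro e
    have := Nat.le_of_dvd (by norm_num) (this.1 e)
    omega
  have h2 : (2 : F) ≠ 0 := by
    have := CharP.cast_eq_zero_iff F p 2
    rw [show ((2 : ℕ) : F) = (2 : F) from Nat.cast_ofNat] at this
    intro e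
    have := Nat.le_of_dvd (by norm_num) (this.1 e)
    omega
  haveI : NeZero (2 : F) := ⟨h2⟩
  obtain ⟨g, ω, x, y, h, ex, ey, rfl⟩ := exists_std h5 h2 hR
  obtain ⟨hlt, hmax⟩ := std_maximal hF h7 h ex ey
  set R0 := Subgroup.closure ({x, y} : Set (GL (Fin 5) F))
  set S := Cfsg.Geo.specialLinear (Fin 5) F
  set N0 := Cfsg.Geo.subgroupNormalizer R0 ⊓ S
  set φ : GL (Fin 5) F ≃* GL (Fin 5) F := MulAut.conj g
  haveI : S.Normal := MonoidHom.normal_ker _
  have hS : S.map φ.toMonoidHom = S := by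
    ext s
    rw [Subgroup.mem_map_equiv]
    constructor
    · intro hs
      have := (inferInstance : S.Normal).conj_mem _ hs g
      rwa [show g * φ.symm s * g⁻¹ = s from φ.apply_symm_apply s] at this
    · intro hs
      have := (inferInstance : S.Normal).conj_mem _ hs g⁻¹
      rwa [show g⁻¹ * s * g⁻¹⁻¹ = φ.symm s by rw [inv_inv]; rfl] at this
  have hN : Cfsg.Geo.subgroupNormalizer (R0.map φ.toMonoidHom) ⊓ S = N0.map φ.toMonoidHom := by
    rw [Subgroup.map_inf _ _ _ φ.injective, hS, Cfsg.Geo.subgroupNormalizer, Cfsg.Geo.subgroupNormalizer,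
      Subgroup.map_equiv_normalizer_eq R0 φ]
  rw [hN]
  have hinj := Subgroup.map_injective (f := φ.toMonoidHom) φ.injective
  refine ⟨lt_of_le_of_ne (hS ▸ Subgroup.map_mono hlt.le) fun e => hlt.ne (hinj (e.trans hS.symm)), fun M hM hMS => ?_⟩
  have hsur : (M.comap φ.toMonoidHom).map φ.toMonoidHom = M :=
    Subgroup.map_comap_eq_self_of_surjective φ.surjective M
  rcases hmax (M.comap φ.toMonoidHom) (Subgroup.map_le_iff_le_comap.1 hM)
    (fun m hm => by
      obtain ⟨s, hs, hse⟩ := (hS.symm ▸ hMS hm : φ m ∈ S.map φ.toMonoidHom)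
      exact φ.injective hse ▸ hs) with e | e
  · left; rw [← hsur, e]
  · right; rw [← hsur, e, hS]

end CfsgLib.MaxSub.HeisFive
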